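import Mathlib
import Cfsg.Agent.Lib.Helper47.PRed
import Cfsg.Agent.Lib.Helper47.Large
import Cfsg.Prelude.Def_LocalStructure

set_option autoImplicit false

namespace Cfsg.Agent.Lib.Helper47

/-- Centralizer membership in a subgroup `L` versus the ambient group. -/
theorem mem_centralizer_subgroupOf_iff {H : Type*} [Group H] {L Y : Subgroup H} (hYL : Y ≤ L)
    (x : ↥L) : x ∈ Subgroup.centralizer ((Y.subgroupOf L : Subgroup ↥L) : Set ↥L) ↔
      (x : H) ∈ Subgroup.centralizer (Y : Set H) := by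
  rw [Subgroup.mem_centralizer_iff, Subgroup.mem_centralizer_iff]
  constructor
  · intro h y hy
    have := h ⟨y, hYL hy⟩ (Subgroup.mem_subgroupOf.mpr hy)
    exact congrArg Subtype.val this
  · intro h y hy
    exact Subtype.ext (h y (Subgroup.mem_subgroupOf.mp hy))

/-- `p`-reducedness of `Y ≤ L` in `L`, expressed inside the ambient group. -/
theorem isPReducedNormal_subgroupOf_iff {H : Type*} [Group H] (p : ℕ) {L Y : Subgroup H}
    (hYL : Y ≤ L) :
    Cfsg.IsPReducedNormal p (Y.subgroupOf L) ↔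
      L ≤ Subgroup.normalizer (Y : Set H) ∧ Cfsg.IsElementaryAbelian p Y ∧
      ∀ D : Subgroup H, D ≤ L → L ≤ Subgroup.normalizer (D : Set H) →
        (∀ d ∈ D, ∃ k : ℕ, d ^ (p ^ k) ∈ Subgroup.centralizer (Y : Set H)) →
          D ≤ Subgroup.centralizer (Y : Set H) := by
  rw [isPReducedNormal_iff, Subgroup.normal_subgroupOf_iff_le_normalizer hYL,
    isElementaryAbelian_iff, isElementaryAbelian_iff]
  constructor
  · rintro ⟨hn, ⟨hc, hp⟩, hred⟩
    refine ⟨hn, ⟨?_, ?_⟩, ?_⟩
    · intro a ha b hb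
      have := hc ⟨a, hYL ha⟩ (Subgroup.mem_subgroupOf.mpr ha) ⟨b, hYL hb⟩ (Subgroup.mem_subgroupOf.mpr hb)
      exact congrArg Subtype.val this
    · intro a ha
      have := hp ⟨a, hYL ha⟩ (Subgroup.mem_subgroupOf.mpr ha)
      exact congrArg Subtype.val this
    · intro D hDL hLD hDp
      have hDn : (D.subgroupOf L).Normal := (Subgroup.normal_subgroupOf_iff_le_normalizer hDL).mpr hLD
      have h1 := hred _ hDn (by
        intro d hd
        obtain ⟨k, hk⟩ := hDp d (Subgroup.mem_subgroupOf.mp hd)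
        refine ⟨k, ?_⟩
        rw [mem_centralizer_subgroupOf_iff hYL]
        simpa using hk)
      intro d hd
      have := h1 (Subgroup.mem_subgroupOf.mpr (show ((⟨d, hDL hd⟩ : ↥L) : H) ∈ D from hd))
      rw [mem_centralizer_subgroupOf_iff hYL] at this
      exact this
  · rintro ⟨hn, ⟨hc, hp⟩, hred⟩
    refine ⟨hn, ⟨?_, ?_⟩, ?_⟩
    · intro a ha b hb
      exact Subtype.ext (hc a (Subgroup.mem_subgroupOf.mp ha) b (Subgroup.mem_subgroupOf.mp hb))
    · intro a ha
      exact Subtype.ext (by simpa using hp a (Subgroup.mem_subgroupOf.mp ha))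
    · intro D₀ hD₀ hDp
      have hDL : D₀.map L.subtype ≤ L := by
        rintro _ ⟨d, -, rfl⟩; exact d.2
      have h1 := hred (D₀.map L.subtype) hDL (le_normalizer_map_subtype D₀) (by
        rintro _ ⟨d, hd, rfl⟩
        obtain ⟨k, hk⟩ := hDp d hd
        refine ⟨k, ?_⟩
        rw [mem_centralizer_subgroupOf_iff hYL] at hk
        simpa using hk)
      intro d hd
      rw [mem_centralizer_subgroupOf_iff hYL]
      exact h1 ⟨d, hd, rfl⟩

theorem largestPReducedOf_le {H : Type*} [Group H] (p : ℕ) (L : Subgroup H) :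
    Cfsg.largestPReducedOf p L ≤ L := by
  rintro _ ⟨k, -, rfl⟩; exact k.2

theorem largestPReducedOf_subgroupOf {H : Type*} [Group H] (p : ℕ) (L : Subgroup H) :
    (Cfsg.largestPReducedOf p L).subgroupOf L = Cfsg.largestPReduced p ↥L :=
  Subgroup.comap_map_eq_self_of_injective L.subtype_injective _

theorem isPReducedNormal_largestPReducedOf {H : Type*} [Group H] (p : ℕ) [Fact p.Prime]
    (L : Subgroup H) : Cfsg.IsPReducedNormal p ((Cfsg.largestPReducedOf p L).subgroupOf L) := by
  rw [largestPReducedOf_subgroupOf]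
  exact largestPReduced_isPReducedNormal p

theorem le_largestPReducedOf {H : Type*} [Group H] {p : ℕ} {L Y : Subgroup H} (hYL : Y ≤ L)
    (hY : Cfsg.IsPReducedNormal p (Y.subgroupOf L)) : Y ≤ Cfsg.largestPReducedOf p L := by
  have h1 := Subgroup.map_mono (f := L.subtype) (le_largestPReduced hY)
  rw [Subgroup.subgroupOf_map_subtype, inf_of_le_left hYL] at h1
  exact h1

theorem largestPReducedOf_le_pCoreOf {H : Type*} [Group H] (p : ℕ) [Fact p.Prime]
    (L : Subgroup H) : Cfsg.largestPReducedOf p L ≤ Cfsg.pCoreOf p L :=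
  Subgroup.map_mono (le_pCore_of_isPReducedNormal (largestPReduced_isPReducedNormal p))

theorem pCoreOf_le_sylow {H : Type*} [Group H] {p : ℕ} [Fact p.Prime] (T : Sylow p H)
    {L : Subgroup H} (hTL : (T : Subgroup H) ≤ L) : Cfsg.pCoreOf p L ≤ (T : Subgroup H) := by
  have h1 : Cfsg.pCore p ↥L ≤ ((T.subtype hTL : Sylow p L) : Subgroup L) := pCore_le_sylow _
  rw [Sylow.coe_subtype] at h1
  have h2 := Subgroup.map_mono (f := L.subtype) h1
  rw [Subgroup.subgroupOf_map_subtype] at h2
  exact h2.trans inf_le_left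

theorem pCoreOf_le_centralizer_largestPReducedOf {H : Type*} [Group H] (p : ℕ) [Fact p.Prime]
    (L : Subgroup H) :
    Cfsg.pCoreOf p L ≤ Subgroup.centralizer ((Cfsg.largestPReducedOf p L : Subgroup H) : Set H) := by
  rintro _ ⟨x, hx, rfl⟩
  rw [Subgroup.mem_centralizer_iff]
  rintro _ ⟨y, hy, rfl⟩
  have h := pCore_le_centralizer_of_isPReducedNormal (largestPReduced_isPReducedNormal p (L := ↥L)) hx
  have := (Subgroup.mem_centralizer_iff.mp h) y hy
  exact congrArg Subtype.val this

/-- The ambient-group package of facts about `Y_L`. -/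
theorem largestPReducedOf_spec {H : Type*} [Group H] (p : ℕ) [Fact p.Prime] (L : Subgroup H) :
    L ≤ Subgroup.normalizer ((Cfsg.largestPReducedOf p L : Subgroup H) : Set H) ∧
      Cfsg.IsElementaryAbelian p (Cfsg.largestPReducedOf p L) ∧
      ∀ D : Subgroup H, D ≤ L → L ≤ Subgroup.normalizer (D : Set H) →
        (∀ d ∈ D, ∃ k : ℕ, d ^ (p ^ k) ∈
          Subgroup.centralizer ((Cfsg.largestPReducedOf p L : Subgroup H) : Set H)) →
          D ≤ Subgroup.centralizer ((Cfsg.largestPReducedOf p L : Subgroup H) : Set H) :=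
  (isPReducedNormal_subgroupOf_iff p (largestPReducedOf_le p L)).mp
    (isPReducedNormal_largestPReducedOf p L)

end Cfsg.Agent.Lib.Helper47
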