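import Mathlib
import Cfsg.Agent.Lib.Helper47.PRedSub
import Cfsg.Agent.Lib.Helper47.PIrr
import Cfsg.Agent.Lib.Helper47.Syl
import Cfsg.Agent.Lib.Helper47.SE
import Cfsg.Prelude.Def_LocalStructure

set_option autoImplicit false

namespace Cfsg.Agent.Lib.Helper47

/-- If a Sylow `p`-subgroup `T` normalizes `C`, then `T ∩ C` is a Sylow `p`-subgroup of `C`. -/
theorem exists_sylow_subgroupOf_of_le_normalizer {G : Type*} [Group G] [Finite G] {p : ℕ}
    [Fact p.Prime] (T : Sylow p G) (C : Subgroup G)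
    (hTC : (T : Subgroup G) ≤ Subgroup.normalizer (C : Set G)) :
    ∃ Q : Sylow p C, (Q : Subgroup C) = (T : Subgroup G).subgroupOf C := by
  have hQ₀ : IsPGroup p ((T : Subgroup G).subgroupOf C) :=
    T.isPGroup'.comap_of_injective C.subtype C.subtype_injective
  obtain ⟨Q, hQ⟩ := hQ₀.exists_le_sylow
  refine ⟨Q, (Subgroup.eq_of_le_of_card_ge hQ ?_).symm⟩
  have hQ' : IsPGroup p ((Q : Subgroup C).map C.subtype) := Q.isPGroup'.map _
  have hQC : (Q : Subgroup C).map C.subtype ≤ C := by rintro _ ⟨q, -, rfl⟩; exact q.2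
  have hTK : (T : Subgroup G) ≤ (T : Subgroup G) ⊔ C := le_sup_left
  have hCK : C ≤ (T : Subgroup G) ⊔ C := le_sup_right
  have hKN : (T : Subgroup G) ⊔ C ≤ Subgroup.normalizer (C : Set G) :=
    sup_le hTC Subgroup.le_normalizer
  have hQK : IsPGroup p (((Q : Subgroup C).map C.subtype).subgroupOf ((T : Subgroup G) ⊔ C)) :=
    hQ'.comap_of_injective _ (Subgroup.subtype_injective _)
  obtain ⟨k, hk⟩ := exists_conj_le_sylow hQK (T.subtype hTK)
  rw [Sylow.coe_subtype] at hk
  have hle : ((Q : Subgroup C).map C.subtype).map (MulAut.conj (k : G)).toMonoidHom ≤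
      (T : Subgroup G) ⊓ C := by
    rintro _ ⟨x, hx, rfl⟩
    have hxK : x ∈ (T : Subgroup G) ⊔ C := hCK (hQC hx)
    have h1 := hk ⟨⟨x, hxK⟩, Subgroup.mem_subgroupOf.mpr hx, rfl⟩
    have h2 : (k : G) * x * (k : G)⁻¹ ∈ (T : Subgroup G) := Subgroup.mem_subgroupOf.mp h1
    refine Subgroup.mem_inf.mpr ⟨by simpa using h2, ?_⟩
    have := (Subgroup.mem_normalizer_iff.mp (hKN k.2) x).mp (hQC hx)
    simpa using this
  have c1 : Nat.card (((Q : Subgroup C).map C.subtype).map (MulAut.conj (k : G)).toMonoidHom) =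
      Nat.card (Q : Subgroup C) := by
    rw [Subgroup.card_map_of_injective (MulAut.conj (k : G)).injective,
      Subgroup.card_map_of_injective C.subtype_injective]
  have c2 : Nat.card ((T : Subgroup G).subgroupOf C) =
      Nat.card ((T : Subgroup G) ⊓ C : Subgroup G) := by
    rw [← Subgroup.inf_subgroupOf_right]
    exact Nat.card_congr (Subgroup.subgroupOfEquivOfLe inf_le_right).toEquiv
  rw [c2, ← c1]
  exact Subgroup.card_le_of_le hle

theorem omegaOne_le {G : Type*} [Group G] (p : ℕ) (K : Subgroup G) : Cfsg.omegaOne p K ≤ K := by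
  unfold Cfsg.omegaOne
  rw [Subgroup.closure_le]
  intro x hx; exact hx.1

theorem omegaOne_mono {G : Type*} [Group G] (p : ℕ) {K K' : Subgroup G} (h : K ≤ K') :
    Cfsg.omegaOne p K ≤ Cfsg.omegaOne p K' := by
  unfold Cfsg.omegaOne
  exact Subgroup.closure_mono (fun x hx => ⟨h hx.1, hx.2⟩)

theorem omegaOne_map_conj_le {G : Type*} [Group G] (p : ℕ) (K : Subgroup G) (g : G) :
    (Cfsg.omegaOne p K).map (MulAut.conj g).toMonoidHom ≤
      Cfsg.omegaOne p (K.map (MulAut.conj g).toMonoidHom) := by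
  unfold Cfsg.omegaOne
  rw [MonoidHom.map_closure]
  apply Subgroup.closure_mono
  rintro _ ⟨x, hx, rfl⟩
  refine ⟨⟨x, hx.1, rfl⟩, ?_⟩
  rw [← map_pow, hx.2, map_one]

/-- The closure of a set of pairwise commuting elements of exponent `p` is elementary abelian. -/
theorem isElementaryAbelian_closure_of_comm {G : Type*} [Group G] (p : ℕ) (s : Set G)
    (hcomm : ∀ x ∈ s, ∀ y ∈ s, x * y = y * x) (hpow : ∀ x ∈ s, x ^ p = 1) :
    Cfsg.IsElementaryAbelian p (Subgroup.closure s) := by
  have hZ : IsMulCommutative (Subgroup.closure s) := Subgroup.isMulCommutative_closure hcomm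
  have hc : ∀ a ∈ Subgroup.closure s, ∀ b ∈ Subgroup.closure s, a * b = b * a :=
    fun a ha b hb => comm_of_isMulCommutative hZ ha hb
  have hle : Subgroup.closure s ≤ omegaSub (Subgroup.closure s) hc p := by
    rw [Subgroup.closure_le]
    intro x hx
    exact ⟨Subgroup.subset_closure hx, hpow x hx⟩
  rw [isElementaryAbelian_iff]
  exact ⟨hc, fun a ha => (hle ha).2⟩

theorem isElementaryAbelian_omegaOne {G : Type*} [Group G] (p : ℕ) (K : Subgroup G)
    (hK : ∀ a ∈ K, ∀ b ∈ K, a * b = b * a) :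
    Cfsg.IsElementaryAbelian p (Cfsg.omegaOne p K) := by
  unfold Cfsg.omegaOne
  exact isElementaryAbelian_closure_of_comm p _ (fun x hx y hy => hK x hx.1 y hy.1)
    (fun x hx => hx.2)

/-- If `D` is normal and every element of `D` has a `p`-power power in `C`, then `D ≤ C ⊔ S`
for every Sylow `p`-subgroup `S`. -/
theorem le_sup_sylow_of_pow_mem {G : Type*} [Group G] [Finite G] {p : ℕ} [Fact p.Prime]
    (D : Subgroup G) [hD : D.Normal] (C : Subgroup G)
    (hDC : ∀ d ∈ D, ∃ k : ℕ, d ^ (p ^ k) ∈ C) (S : Sylow p G) : D ≤ C ⊔ (S : Subgroup G) := by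
  obtain ⟨Q, hQ⟩ := exists_sylow_inf_normal S D
  have htop := pResidual_sup_sylow Q
  have hle : Cfsg.pResidual p ↥D ⊔ (Q : Subgroup D) ≤ (C ⊔ (S : Subgroup G)).subgroupOf D := by
    refine sup_le ?_ ?_
    · apply pResidual_le_of_forall
      intro x hx
      rw [Subgroup.mem_subgroupOf]
      apply (le_sup_left : C ≤ C ⊔ (S : Subgroup G))
      obtain ⟨k, hk⟩ := hDC (x : G) x.2
      have hord : orderOf (x : G) = orderOf x := Subgroup.orderOf_coe x
      have hcop : Nat.Coprime (p ^ k) (orderOf (x : G)) := by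
        rw [hord]; exact Nat.Coprime.pow_left k hx.symm
      obtain ⟨m, hm⟩ := exists_pow_eq_self_of_coprime hcop
      rw [← hm]; exact C.pow_mem hk m
    · rw [hQ]
      intro x hx
      exact Subgroup.mem_subgroupOf.mpr
        ((le_sup_right : (S : Subgroup G) ≤ C ⊔ (S : Subgroup G))
          (Subgroup.mem_inf.mp (Subgroup.mem_subgroupOf.mp hx)).1)
  intro d hd
  have : (⟨d, hd⟩ : ↥D) ∈ Cfsg.pResidual p ↥D ⊔ (Q : Subgroup D) := by rw [htop]; trivial
  exact Subgroup.mem_subgroupOf.mp (hle this)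

/-- Ambient form of `le_sup_sylow_of_pow_mem`. -/
theorem le_sup_sylow_map_of_pow_mem {H : Type*} [Group H] [Finite H] {p : ℕ} [Fact p.Prime]
    {L D : Subgroup H} (hDL : D ≤ L) (hLD : L ≤ Subgroup.normalizer (D : Set H)) (C : Subgroup H)
    (hDC : ∀ d ∈ D, ∃ k : ℕ, d ^ (p ^ k) ∈ C) (S : Sylow p L) :
    D ≤ C ⊔ (S : Subgroup L).map L.subtype := by
  have hDn : (D.subgroupOf L).Normal := (Subgroup.normal_subgroupOf_iff_le_normalizer hDL).mpr hLD
  have h := le_sup_sylow_of_pow_mem (D.subgroupOf L) (C.subgroupOf L) (by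
    intro d hd
    obtain ⟨k, hk⟩ := hDC (d : H) (Subgroup.mem_subgroupOf.mp hd)
    exact ⟨k, Subgroup.mem_subgroupOf.mpr (by simpa using hk)⟩) S
  intro d hd
  have h1 := h (Subgroup.mem_subgroupOf.mpr (show ((⟨d, hDL hd⟩ : ↥L) : H) ∈ D from hd))
  have h2 : d ∈ (C.subgroupOf L ⊔ (S : Subgroup L)).map L.subtype := ⟨⟨d, hDL hd⟩, h1, rfl⟩
  rw [Subgroup.map_sup] at h2
  have h3 : (C.subgroupOf L).map L.subtype ⊔ (S : Subgroup L).map L.subtype ≤
      C ⊔ (S : Subgroup L).map L.subtype := by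
    refine sup_le_sup_right ?_ _
    rw [Subgroup.subgroupOf_map_subtype]; exact inf_le_left
  exact h3 h2

theorem sylowCenterClosure_le {H : Type*} [Group H] (p : ℕ) (L : Subgroup H) :
    Cfsg.sylowCenterClosure p L ≤ L := by
  unfold Cfsg.sylowCenterClosure
  refine iSup_le (fun S => ?_)
  refine (omegaOne_le p _).trans (inf_le_left.trans ?_)
  rintro _ ⟨x, -, rfl⟩; exact x.2

theorem omegaOne_sylow_le_sylowCenterClosure {H : Type*} [Group H] (p : ℕ) (L : Subgroup H)
    (S : Sylow p L) :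
    Cfsg.omegaOne p ((S : Subgroup L).map L.subtype ⊓
      Subgroup.centralizer (((S : Subgroup L).map L.subtype : Subgroup H) : Set H)) ≤
      Cfsg.sylowCenterClosure p L := by
  unfold Cfsg.sylowCenterClosure
  exact le_iSup (fun S : Sylow p L => Cfsg.omegaOne p ((S : Subgroup L).map L.subtype ⊓
      Subgroup.centralizer (((S : Subgroup L).map L.subtype : Subgroup H) : Set H))) S

/-- `L` normalizes `Z_L`. -/
theorem le_normalizer_sylowCenterClosure {H : Type*} [Group H] (p : ℕ) (L : Subgroup H) :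
    L ≤ Subgroup.normalizer ((Cfsg.sylowCenterClosure p L : Subgroup H) : Set H) := by
  apply le_normalizer_of_conj_mem
  intro l hl n hn
  have hmap : (Cfsg.sylowCenterClosure p L).map (MulAut.conj l).toMonoidHom ≤
      Cfsg.sylowCenterClosure p L := by
    conv_lhs => unfold Cfsg.sylowCenterClosure
    rw [Subgroup.map_iSup]
    refine iSup_le (fun S => ?_)
    refine (omegaOne_map_conj_le p _ l).trans ?_
    have e1 : ((S : Subgroup L).map L.subtype).map (MulAut.conj l).toMonoidHom =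
        (((⟨l, hl⟩ : L) • S : Sylow p L) : Subgroup L).map L.subtype := by
      rw [sylow_smul_coe, Subgroup.map_map, Subgroup.map_map]
      rfl
    rw [Subgroup.map_inf _ _ _ (MulAut.conj l).injective, ← centralizer_map_conj, e1]
    exact omegaOne_sylow_le_sylowCenterClosure p L _
  exact hmap ⟨n, hn, rfl⟩

/-- In a group of characteristic `p`, `Z_L ≤ Ω₁(Z(O_p(L)))`. -/
theorem sylowCenterClosure_le_omegaOne {H : Type*} [Group H] {p : ℕ} [Fact p.Prime]
    (L : Subgroup H)
    (hL : Subgroup.centralizer (Cfsg.pCore p ↥L : Set ↥L) ≤ Cfsg.pCore p ↥L) :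
    Cfsg.sylowCenterClosure p L ≤ Cfsg.omegaOne p (Cfsg.pCoreOf p L ⊓
      Subgroup.centralizer ((Cfsg.pCoreOf p L : Subgroup H) : Set H)) := by
  unfold Cfsg.sylowCenterClosure
  refine iSup_le (fun S => omegaOne_mono p ?_)
  have hOS : Cfsg.pCoreOf p L ≤ (S : Subgroup L).map L.subtype :=
    Subgroup.map_mono (pCore_le_sylow S)
  have hcent : Subgroup.centralizer (((S : Subgroup L).map L.subtype : Subgroup H) : Set H) ≤
      Subgroup.centralizer ((Cfsg.pCoreOf p L : Subgroup H) : Set H) :=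
    Subgroup.centralizer_le hOS
  refine le_inf ?_ (inf_le_right.trans hcent)
  rintro x ⟨⟨s, hs, rfl⟩, hx2⟩
  refine ⟨s, hL ?_, rfl⟩
  rw [Subgroup.mem_centralizer_iff]
  intro o ho
  have := (Subgroup.mem_centralizer_iff.mp (hcent hx2)) (o : H) ⟨o, ho, rfl⟩
  exact Subtype.ext this

/-- In a group of characteristic `p`, `Z_L` is `p`-reduced. -/
theorem isPReducedNormal_sylowCenterClosure {H : Type*} [Group H] [Finite H] {p : ℕ}
    [Fact p.Prime] (L : Subgroup H)
    (hL : Subgroup.centralizer (Cfsg.pCore p ↥L : Set ↥L) ≤ Cfsg.pCore p ↥L) :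
    Cfsg.IsPReducedNormal p ((Cfsg.sylowCenterClosure p L).subgroupOf L) := by
  rw [isPReducedNormal_subgroupOf_iff p (sylowCenterClosure_le p L)]
  refine ⟨le_normalizer_sylowCenterClosure p L, ?_, ?_⟩
  · have hle := sylowCenterClosure_le_omegaOne L hL
    have hW := isElementaryAbelian_omegaOne p (Cfsg.pCoreOf p L ⊓
      Subgroup.centralizer ((Cfsg.pCoreOf p L : Subgroup H) : Set H)) (by
        rintro a ⟨ha, -⟩ b ⟨-, hb⟩
        exact (Subgroup.mem_centralizer_iff.mp hb) a ha)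
    rw [isElementaryAbelian_iff] at hW ⊢
    exact ⟨fun a ha b hb => hW.1 a (hle ha) b (hle hb), fun a ha => hW.2 a (hle ha)⟩
  · intro D hDL hLD hDp
    rw [Subgroup.le_centralizer_iff]
    conv_lhs => unfold Cfsg.sylowCenterClosure
    refine iSup_le (fun S => ?_)
    rw [← Subgroup.le_centralizer_iff]
    refine (le_sup_sylow_map_of_pow_mem hDL hLD _ hDp S).trans (sup_le ?_ ?_)
    · exact Subgroup.centralizer_le (omegaOne_sylow_le_sylowCenterClosure p L S)
    · rw [Subgroup.le_centralizer_iff]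
      exact (omegaOne_le p _).trans inf_le_right

end Cfsg.Agent.Lib.Helper47
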