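import Mathlib
import Cfsg.Agent.Lib.Helper47.ZL

set_option autoImplicit false

namespace Cfsg.Agent.Lib.Helper47

/-- A homomorphism from a finite group whose image is commutative of exponent `p` kills the
Frattini subgroup. -/
theorem frattini_le_ker_of_elementary {P : Type*} [Group P] [Finite P] {p : ℕ} [Fact p.Prime]
    {B : Type*} [Group B] (φ : P →* B) (hcomm : ∀ u v : P, φ u * φ v = φ v * φ u)
    (hpow : ∀ u : P, φ u ^ p = 1) : frattini P ≤ φ.ker := by
  intro x hx
  by_contra hxk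
  have hp : p.Prime := Fact.out
  obtain ⟨K, -, hKmax⟩ := Finite.exists_le_maximal
    (p := fun K : Subgroup P => φ.ker ≤ K ∧ x ∉ K) (a := φ.ker) ⟨le_rfl, hxk⟩
  obtain ⟨⟨hK1, hK2⟩, hK3⟩ := hKmax
  have hKn : K.Normal := by
    refine ⟨fun k hk g => ?_⟩
    have h1 : g * k * g⁻¹ * k⁻¹ ∈ φ.ker := by
      rw [MonoidHom.mem_ker]
      simp only [map_mul, map_inv]
      rw [hcomm g k]; simp
    have e : g * k * g⁻¹ = (g * k * g⁻¹ * k⁻¹) * k := by group
    rw [e]; exact K.mul_mem (hK1 h1) hk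
  have htop : K ⊔ Subgroup.zpowers x = ⊤ := by
    rw [eq_top_iff]
    intro y _
    by_cases hy : y ∈ K
    · exact (le_sup_left : K ≤ K ⊔ Subgroup.zpowers x) hy
    · have hx' : x ∈ K ⊔ Subgroup.zpowers y := by
        by_contra hcon
        have h2 := hK3 (y := K ⊔ Subgroup.zpowers y) ⟨hK1.trans le_sup_left, hcon⟩ le_sup_left
        exact hy (h2 ((le_sup_right : Subgroup.zpowers y ≤ K ⊔ Subgroup.zpowers y)
          (Subgroup.mem_zpowers y)))
      have hx'' : x ∈ ((K ⊔ Subgroup.zpowers y : Subgroup P) : Set P) := hx'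
      rw [Subgroup.normal_mul] at hx''
      obtain ⟨k, hk, z, hz, hkz⟩ := hx''
      obtain ⟨i, rfl⟩ := Subgroup.mem_zpowers_iff.mp hz
      have hyp : y ^ p ∈ K := hK1 (by rw [MonoidHom.mem_ker, map_pow]; exact hpow y)
      have hpi : ¬ (p : ℤ) ∣ i := by
        rintro ⟨j, rfl⟩
        apply hK2
        rw [← hkz]
        refine K.mul_mem hk ?_
        rw [zpow_mul, zpow_natCast]
        exact K.zpow_mem hyp j
      have hcop : IsCoprime (p : ℤ) i := by
        rw [Int.isCoprime_iff_gcd_eq_one]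
        have h3 : Nat.Coprime p i.natAbs :=
          (Nat.Prime.coprime_iff_not_dvd hp).2 (by rwa [← Int.natCast_dvd])
        simpa [Int.gcd] using h3
      obtain ⟨u, v, huv⟩ := hcop
      have hyi : y ^ i ∈ K ⊔ Subgroup.zpowers x := by
        have e : y ^ i = k⁻¹ * x := by rw [← hkz]; group
        rw [e]
        exact Subgroup.mul_mem _ ((le_sup_left : K ≤ K ⊔ Subgroup.zpowers x) (K.inv_mem hk))
          ((le_sup_right : Subgroup.zpowers x ≤ K ⊔ Subgroup.zpowers x) (Subgroup.mem_zpowers x))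
      have e : y = (y ^ p) ^ u * (y ^ i) ^ v := by
        rw [← zpow_natCast y p, ← zpow_mul, ← zpow_mul, ← zpow_add, mul_comm (p : ℤ) u,
          mul_comm i v, huv, zpow_one]
      rw [e]
      exact Subgroup.mul_mem _ ((le_sup_left : K ≤ K ⊔ Subgroup.zpowers x) (K.zpow_mem hyp u))
        (Subgroup.zpow_mem _ hyi v)
  have htop' : K ⊔ frattini P = ⊤ := by
    rw [eq_top_iff, ← htop]
    exact sup_le_sup_left ((Subgroup.zpowers_le).mpr hx) K
  have h4 := frattini_nongenerating htop'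
  exact hK2 (h4 ▸ Subgroup.mem_top x)

end Cfsg.Agent.Lib.Helper47
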