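import Mathlib
import Cfsg.Agent.Lib.Helper47.Frat
import Cfsg.Agent.Lib.Helper47.Large
import Cfsg.Agent.Lib.Helper47.Subn

set_option autoImplicit false

namespace Cfsg.Agent.Lib.Helper47

open scoped commutatorElement

/-- Chain stabilizer: the elements centralizing `D` with `[F, z] ⊆ D`. -/
def chainStab {G : Type*} [Group G] (F D : Subgroup G) : Subgroup G where
  carrier := {z | z ∈ Subgroup.centralizer (D : Set G) ∧ ∀ f ∈ F, f * z * f⁻¹ * z⁻¹ ∈ D}
  one_mem' := ⟨Subgroup.one_mem _, fun f _ => by simp⟩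
  mul_mem' := by
    rintro z₁ z₂ ⟨hc₁, h₁⟩ ⟨hc₂, h₂⟩
    refine ⟨Subgroup.mul_mem _ hc₁ hc₂, fun f hf => ?_⟩
    have hd := h₂ f hf
    have e1 : z₁ * (f * z₂ * f⁻¹ * z₂⁻¹) * z₁⁻¹ = f * z₂ * f⁻¹ * z₂⁻¹ := by
      have := Subgroup.mem_centralizer_iff.mp hc₁ _ hd
      rw [← this]; group
    have e : f * (z₁ * z₂) * f⁻¹ * (z₁ * z₂)⁻¹ =
        (f * z₁ * f⁻¹ * z₁⁻¹) * (z₁ * (f * z₂ * f⁻¹ * z₂⁻¹) * z₁⁻¹) := by group
    rw [e, e1]
    exact D.mul_mem (h₁ f hf) hd
  inv_mem' := by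
    rintro z ⟨hc, h⟩
    refine ⟨Subgroup.inv_mem _ hc, fun f hf => ?_⟩
    have hd := D.inv_mem (h f hf)
    have e1 : z⁻¹ * (f * z * f⁻¹ * z⁻¹)⁻¹ * z = (f * z * f⁻¹ * z⁻¹)⁻¹ := by
      have := Subgroup.mem_centralizer_iff.mp hc _ hd
      rw [mul_assoc, this]; group
    have e : f * z⁻¹ * f⁻¹ * z⁻¹⁻¹ = z⁻¹ * (f * z * f⁻¹ * z⁻¹)⁻¹ * z := by group
    rw [e, e1]; exact hd

theorem conj_mem_chainStab {G : Type*} [Group G] {F D : Subgroup G} {h z : G}
    (hF : h ∈ Subgroup.normalizer (F : Set G)) (hD : h ∈ Subgroup.normalizer (D : Set G))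
    (hz : z ∈ chainStab F D) : h * z * h⁻¹ ∈ chainStab F D := by
  obtain ⟨hc, hz2⟩ := hz
  refine ⟨?_, fun f hf => ?_⟩
  · rw [Subgroup.mem_centralizer_iff]
    intro d hd
    have hd' : h⁻¹ * d * h ∈ D := (Subgroup.mem_normalizer_iff''.mp hD d).mp hd
    have := Subgroup.mem_centralizer_iff.mp hc _ hd'
    calc d * (h * z * h⁻¹) = h * ((h⁻¹ * d * h) * z) * h⁻¹ := by group
      _ = h * (z * (h⁻¹ * d * h)) * h⁻¹ := by rw [this]
      _ = h * z * h⁻¹ * d := by group
  · have hf' : h⁻¹ * f * h ∈ F := (Subgroup.mem_normalizer_iff''.mp hF f).mp hf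
    have h1 := hz2 _ hf'
    have h2 : h * ((h⁻¹ * f * h) * z * (h⁻¹ * f * h)⁻¹ * z⁻¹) * h⁻¹ ∈ D :=
      (Subgroup.mem_normalizer_iff.mp hD _).mp h1
    have e : f * (h * z * h⁻¹) * f⁻¹ * (h * z * h⁻¹)⁻¹ =
        h * ((h⁻¹ * f * h) * z * (h⁻¹ * f * h)⁻¹ * z⁻¹) * h⁻¹ := by group
    rw [e]; exact h2

theorem chainStab_coprime_mem_centralizer {G : Type*} [Group G] {p : ℕ} [Fact p.Prime]
    {F D : Subgroup G} (hD : IsPGroup p D) {z : G} (hz : z ∈ chainStab F D)
    (hcop : (orderOf z).Coprime p) : z ∈ Subgroup.centralizer (F : Set G) := by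
  rw [Subgroup.mem_centralizer_iff]
  exact comm_of_step hcop D (F : Set G)
    (fun b hb => Subgroup.mem_centralizer_iff.mp hz.1 b hb) hD (fun a ha => hz.2 a ha)

/-- Conjugation by an element of `N(P)` as an automorphism of `P`. -/
def conjNormalizer {G : Type*} [Group G] (P : Subgroup G) {h : G}
    (hh : h ∈ Subgroup.normalizer (P : Set G)) : ↥P ≃* ↥P where
  toFun x := ⟨h * x * h⁻¹, (Subgroup.mem_normalizer_iff.mp hh x).mp x.2⟩
  invFun x := ⟨h⁻¹ * x * h, (Subgroup.mem_normalizer_iff''.mp hh x).mp x.2⟩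
  left_inv x := Subtype.ext (by simp [mul_assoc])
  right_inv x := Subtype.ext (by simp [mul_assoc])
  map_mul' x y := Subtype.ext (by simp [mul_assoc])

/-- `N(P)` normalizes (the image of) every characteristic subgroup of `P`. -/
theorem normalizer_le_normalizer_map_subtype_of_characteristic {G : Type*} [Group G]
    (P : Subgroup G) (K : Subgroup ↥P) [hK : K.Characteristic] :
    Subgroup.normalizer (P : Set G) ≤
      Subgroup.normalizer ((K.map P.subtype : Subgroup G) : Set G) := by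
  apply le_normalizer_of_conj_mem
  rintro h hh _ ⟨k, hk, rfl⟩
  have h1 := (Subgroup.characteristic_iff_map_eq.mp hK) (conjNormalizer P hh)
  have h2 : (conjNormalizer P hh) k ∈ K := by
    rw [← h1]; exact ⟨k, hk, rfl⟩
  exact ⟨_, h2, rfl⟩

/-- If `y` normalizes `P` and the commutators `[x, y]`, `x ∈ P`, have order dividing `p`, then
`[Φ(P), y] ⊆ P'`. -/
theorem commutator_frattini_mem {G : Type*} [Group G] [Finite G] {p : ℕ} [Fact p.Prime]
    (P : Subgroup G) {y : G} (hy : y ∈ Subgroup.normalizer (P : Set G))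
    (hpow : ∀ x ∈ P, (x * y * x⁻¹ * y⁻¹) ^ p = 1)
    {f : G} (hf : f ∈ (frattini ↥P).map P.subtype) : f * y * f⁻¹ * y⁻¹ ∈ ⁅P, P⁆ := by
  have hmem : ∀ x : ↥P, (x : G) * y * (x : G)⁻¹ * y⁻¹ ∈ P := fun x => by
    have : y * (x : G)⁻¹ * y⁻¹ ∈ P := (Subgroup.mem_normalizer_iff.mp hy _).mp (P.inv_mem x.2)
    have e : (x : G) * y * (x : G)⁻¹ * y⁻¹ = (x : G) * (y * (x : G)⁻¹ * y⁻¹) := by group
    rw [e]; exact P.mul_mem x.2 this
  let φ : ↥P →* Abelianization ↥P :=
    MonoidHom.mk' (fun x => Abelianization.of ⟨_, hmem x⟩) (by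
      intro a b
      have e : (⟨_, hmem (a * b)⟩ : ↥P) = a * ⟨_, hmem b⟩ * a⁻¹ * ⟨_, hmem a⟩ := by
        apply Subtype.ext
        simp only [Subgroup.coe_mul, Subgroup.coe_inv]
        group
      rw [e]
      simp only [map_mul, map_inv]
      rw [mul_comm (Abelianization.of a), mul_assoc _ (Abelianization.of a), mul_inv_cancel,
        mul_one, mul_comm])
  have hker : frattini ↥P ≤ φ.ker :=
    frattini_le_ker_of_elementary (p := p) φ (fun u v => mul_comm _ _) (fun u => by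
      show (Abelianization.of (⟨_, hmem u⟩ : ↥P)) ^ p = 1
      rw [← map_pow]
      have : (⟨_, hmem u⟩ : ↥P) ^ p = 1 := Subtype.ext (by simpa using hpow u u.2)
      rw [this, map_one])
  obtain ⟨f', hf', rfl⟩ := hf
  have h1 := hker hf'
  rw [MonoidHom.mem_ker] at h1
  have h2 : (⟨_, hmem f'⟩ : ↥P) ∈ commutator ↥P := by
    rw [← Abelianization.ker_of, MonoidHom.mem_ker]; exact h1
  rw [← Subgroup.map_subtype_commutator]
  exact ⟨_, h2, rfl⟩

/-- `O^p` of the normal closure of `Y` in `H ≤ N(P)` centralizes `Φ(P)` when `Y` centralizes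
`P'` and `[P, Y]` has exponent `p`. -/
theorem pResidual_normalClosure_le_centralizer_frattini {G : Type*} [Group G] [Finite G] {p : ℕ}
    [Fact p.Prime] (P : Subgroup G) (hP : IsPGroup p ↥P) (H : Subgroup G)
    (hH : H ≤ Subgroup.normalizer (P : Set G)) (Y : Subgroup G) (hYH : Y ≤ H)
    (hYc : Y ≤ Subgroup.centralizer ((⁅P, P⁆ : Subgroup G) : Set G))
    (hel : ∀ a ∈ ⁅P, Y⁆, a ^ p = 1) (NY : Subgroup G)
    (hNY : NY = (Subgroup.normalClosure ((Y.subgroupOf H : Subgroup ↥H) : Set ↥H)).map H.subtype) :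
    (Cfsg.pResidual p ↥NY).map NY.subtype ≤
      Subgroup.centralizer (((frattini ↥P).map P.subtype : Subgroup G) : Set G) := by
  have hDP : ⁅P, P⁆ ≤ P := by
    rw [← Subgroup.map_subtype_commutator]
    rintro _ ⟨x, -, rfl⟩; exact x.2
  have hDp : IsPGroup p ↥(⁅P, P⁆ : Subgroup G) := hP.to_le hDP
  have hNF := normalizer_le_normalizer_map_subtype_of_characteristic P (frattini ↥P)
  have hND : Subgroup.normalizer (P : Set G) ≤
      Subgroup.normalizer ((⁅P, P⁆ : Subgroup G) : Set G) := by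
    have := normalizer_le_normalizer_map_subtype_of_characteristic P (commutator ↥P)
    rwa [Subgroup.map_subtype_commutator] at this
  have hY : Y ≤ chainStab ((frattini ↥P).map P.subtype) ⁅P, P⁆ := by
    intro y hy
    refine ⟨hYc hy, fun f hf => ?_⟩
    refine commutator_frattini_mem (p := p) P (hH (hYH hy)) (fun x hx => ?_) hf
    have : x * y * x⁻¹ * y⁻¹ = ⁅x, y⁆ := by rw [commutatorElement_def]
    rw [this]
    exact hel _ (Subgroup.commutator_mem_commutator hx hy)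
  have hNYle : NY ≤ chainStab ((frattini ↥P).map P.subtype) ⁅P, P⁆ := by
    rw [hNY, Subgroup.map_le_iff_le_comap]
    have hn : ((chainStab ((frattini ↥P).map P.subtype) ⁅P, P⁆).comap H.subtype).Normal := by
      refine ⟨fun n hn g => ?_⟩
      rw [Subgroup.mem_comap] at hn ⊢
      have := conj_mem_chainStab (hNF (hH g.2)) (hND (hH g.2)) hn
      simpa using this
    refine Subgroup.normalClosure_le_normal ?_
    intro y hy
    rw [SetLike.mem_coe, Subgroup.mem_subgroupOf] at hy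
    exact hY hy
  rw [pResidual_map_subtype_eq, Subgroup.closure_le]
  rintro z ⟨hz, hcop⟩
  exact chainStab_coprime_mem_centralizer hDp (hNYle hz) hcop

end Cfsg.Agent.Lib.Helper47
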