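-- TEAM PROJECT S1444 (B-G Theorem 3.6), package P2: the minimal `Q` is abelian.
import Mathlib
import Cfsg.Agent.Lib.Helper23.BG36.Defs
import Cfsg.Agent.Lib.Helper47.Comm
import Cfsg.Agent.Lib.Helper47.Frat2
import Cfsg.Agent.Lib.Helper47.PIrr
import Cfsg.Agent.Lib.Helper61.Coprime
import Cfsg.Agent.Lib.Helper61.CoprimeAb
import Cfsg.Agent.Lib.Helper61.Norm
import Cfsg.Agent.Lib.Helper91.Coprime2
import Cfsg.Agent.Lib.Helper1.BurnsideBasis
import Cfsg.Agent.Lib.Helper1.Tools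
import Cfsg.Agent.Lib.Helper97.FrobFormula
import Cfsg.Agent.Lib.Helper97.FrobCentral
import Cfsg.Agent.Lib.Helper97.SectMod
import Cfsg.Agent.S0023
import Cfsg.Agent.S0026
import Cfsg.Agent.S0027

set_option autoImplicit false

namespace Cfsg.Agent.Lib.Helper47.BG36

open scoped commutatorElement

universe u

/-! ### General lemmas -/

/-- In a group where `c = [h, g]` commutes with `g` and `h`: `h ^ n * g = g * h ^ n * c ^ n`. -/
theorem pow_mul_of_commute_comm {G : Type*} [Group G] {g h c : G} (hc : h * g = g * h * c)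
    (hch : Commute c h) (n : ℕ) : h ^ n * g = g * h ^ n * c ^ n := by
  induction n with
  | zero => simp
  | succ n ih =>
    have h1 : Commute c (h ^ n) := hch.pow_right n
    calc h ^ (n + 1) * g = h * (h ^ n * g) := by rw [pow_succ', mul_assoc]
      _ = h * (g * h ^ n * c ^ n) := by rw [ih]
      _ = (h * g) * h ^ n * c ^ n := by simp only [mul_assoc]
      _ = g * h * c * h ^ n * c ^ n := by rw [hc]
      _ = g * h * (c * h ^ n) * c ^ n := by simp only [mul_assoc]
      _ = g * h * (h ^ n * c) * c ^ n := by rw [h1.eq]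
      _ = g * (h * h ^ n) * (c * c ^ n) := by simp only [mul_assoc]
      _ = g * h ^ (n + 1) * c ^ (n + 1) := by rw [← pow_succ', ← pow_succ']

/-- Class two power formula: `(g h) ^ n = g ^ n h ^ n c ^ (n choose 2)`. -/
theorem mul_pow_of_commute_comm {G : Type*} [Group G] {g h c : G} (hc : h * g = g * h * c)
    (hcg : Commute c g) (hch : Commute c h) (n : ℕ) :
    (g * h) ^ n = g ^ n * h ^ n * c ^ (n.choose 2) := by
  induction n with
  | zero => simp
  | succ n ih =>
    have h1 := pow_mul_of_commute_comm hc hch n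
    have h2 : Commute (c ^ (n.choose 2)) g := hcg.pow_left _
    have h3 : Commute (c ^ (n.choose 2)) h := hch.pow_left _
    have h4 : Commute (c ^ n) h := hch.pow_left _
    have hch2 : (n + 1).choose 2 = n + n.choose 2 := by
      rw [Nat.choose_succ_succ, Nat.choose_one_right]
    calc (g * h) ^ (n + 1) = (g * h) ^ n * (g * h) := pow_succ _ _
      _ = g ^ n * h ^ n * c ^ (n.choose 2) * (g * h) := by rw [ih]
      _ = g ^ n * h ^ n * ((c ^ (n.choose 2) * g) * h) := by simp only [mul_assoc]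
      _ = g ^ n * h ^ n * ((g * c ^ (n.choose 2)) * h) := by rw [h2.eq]
      _ = g ^ n * h ^ n * (g * (c ^ (n.choose 2) * h)) := by simp only [mul_assoc]
      _ = g ^ n * h ^ n * (g * (h * c ^ (n.choose 2))) := by rw [h3.eq]
      _ = g ^ n * (h ^ n * g) * h * c ^ (n.choose 2) := by simp only [mul_assoc]
      _ = g ^ n * (g * h ^ n * c ^ n) * h * c ^ (n.choose 2) := by rw [h1]
      _ = g ^ n * g * h ^ n * (c ^ n * h) * c ^ (n.choose 2) := by simp only [mul_assoc]
      _ = g ^ n * g * h ^ n * (h * c ^ n) * c ^ (n.choose 2) := by rw [h4.eq]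
      _ = (g ^ n * g) * (h ^ n * h) * (c ^ n * c ^ (n.choose 2)) := by simp only [mul_assoc]
      _ = g ^ (n + 1) * h ^ (n + 1) * c ^ ((n + 1).choose 2) := by
          rw [← pow_succ, ← pow_succ, ← pow_add, hch2]

/-- `|N H|` divides `|N| |H|` when `H` normalizes `N`. -/
theorem card_sup_dvd_mul {G : Type*} [Group G] (N H : Subgroup G)
    (hLE : H ≤ Subgroup.normalizer (N : Set G)) :
    Nat.card (N ⊔ H : Subgroup G) ∣ Nat.card N * Nat.card H :=
  Dvd.intro _ (Cfsg.Agent.Lib.Helper91.card_sup_mul_card_inf_of_le_normalizer N H hLE)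

/-- An element centralizing `T` and `E` centralizes `T ⊔ E`. -/
theorem mem_centralizer_sup {G : Type*} [Group G] {T E : Subgroup G} {x : G}
    (hT : x ∈ Subgroup.centralizer (T : Set G)) (hE : x ∈ Subgroup.centralizer (E : Set G)) :
    x ∈ Subgroup.centralizer ((T ⊔ E : Subgroup G) : Set G) := by
  have h : T ⊔ E ≤ Subgroup.centralizer ({x} : Set G) := by
    apply sup_le
    · intro t ht
      rw [Subgroup.mem_centralizer_iff]
      intro y hy
      rw [Set.mem_singleton_iff] at hy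
      rw [hy]
      exact (Subgroup.mem_centralizer_iff.mp hT t ht).symm
    · intro t ht
      rw [Subgroup.mem_centralizer_iff]
      intro y hy
      rw [Set.mem_singleton_iff] at hy
      rw [hy]
      exact (Subgroup.mem_centralizer_iff.mp hE t ht).symm
  rw [Subgroup.mem_centralizer_iff]
  intro y hy
  exact (Subgroup.mem_centralizer_iff.mp (h hy) x (Set.mem_singleton x)).symm

/-- The centralizer of `⟨a⟩` is the centralizer of `a`. -/
theorem centralizer_zpowers_eq {G : Type*} [Group G] (a : G) :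
    Subgroup.centralizer ((Subgroup.zpowers a : Subgroup G) : Set G) =
      Subgroup.centralizer ({a} : Set G) :=
  le_antisymm
    (Subgroup.centralizer_le (Set.singleton_subset_iff.mpr (Subgroup.mem_zpowers a)))
    (Cfsg.Agent.Lib.Helper61.centralizer_singleton_le_centralizer_zpowers a)

/-- A `p`-group has order coprime to any number coprime to `p`. -/
theorem coprime_card_of_isPGroup {G : Type*} [Group G] [Finite G] {p n : ℕ} [Fact p.Prime]
    {T : Subgroup G}
    (hT : IsPGroup p T) (hn : n.Coprime p) : (Nat.card T).Coprime n := by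
  obtain ⟨k, hk⟩ := IsPGroup.iff_card.mp hT
  rw [hk]
  exact Nat.Coprime.pow_left k hn.symm

/-! ### The steps of the proof -/

section steps

variable {X : Type u} [Group X] [Finite X]

/-- Step (a): `Q = [Q, T]`. -/
theorem step_comm_eq {p : ℕ} [Fact p.Prime] (Q T R : Subgroup X)
    (hQsolv : Group.IsSolvable Q) (hQp : (Nat.card Q).Coprime p) (hT : IsPGroup p T)
    (hTQ : T ≤ Subgroup.normalizer (Q : Set X)) (hRQ : R ≤ Subgroup.normalizer (Q : Set X))
    (hRT : R ≤ Subgroup.normalizer (T : Set X))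
    (hmin : ∀ Q₂ : Subgroup X, Q₂ ≤ Q → Q₂ ≠ Q → T ≤ Subgroup.normalizer (Q₂ : Set X) →
      R ≤ Subgroup.normalizer (Q₂ : Set X) → T ≤ Subgroup.centralizer (Q₂ : Set X))
    (hTnot : ¬ T ≤ Subgroup.centralizer (Q : Set X)) : ⁅Q, T⁆ = Q := by
  by_contra hne
  have hle : ⁅Q, T⁆ ≤ Q := Cfsg.Agent.Lib.Helper61.commutator_le_of_le_normalizer hTQ
  have hTn : T ≤ Subgroup.normalizer ((⁅Q, T⁆ : Subgroup X) : Set X) :=
    Cfsg.Agent.Lib.Helper47.le_normalizer_commutator_right Q T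
  have hRn : R ≤ Subgroup.normalizer ((⁅Q, T⁆ : Subgroup X) : Set X) :=
    (le_inf hRQ hRT).trans (Cfsg.Agent.Lib.Helper61.normalizer_inf_le_normalizer_commutator Q T)
  have hc := hmin ⁅Q, T⁆ hle hne hTn hRn
  have h1 : ⁅⁅Q, T⁆, T⁆ = ⊥ := by
    rw [Subgroup.commutator_eq_bot_iff_le_centralizer, Subgroup.le_centralizer_iff]
    exact hc
  have hcop : (Nat.card T).Coprime (Nat.card Q) := coprime_card_of_isPGroup hT hQp
  have h2 := Cfsg.Agent.S0027.result T Q hTQ hcop (Or.inr hQsolv)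
  rw [h1] at h2
  apply hTnot
  rw [Subgroup.le_centralizer_iff, ← Subgroup.commutator_eq_bot_iff_le_centralizer]
  exact h2.symm

/-- Step (b): `Q` is a `q`-group for some prime `q`. -/
theorem step_pgroup {p : ℕ} [Fact p.Prime] (Q T R : Subgroup X)
    (hQsolv : Group.IsSolvable Q) (hQp : (Nat.card Q).Coprime p)
    (hRQc : (Nat.card R).Coprime (Nat.card Q)) (hT : IsPGroup p T)
    (hTQ : T ≤ Subgroup.normalizer (Q : Set X)) (hRQ : R ≤ Subgroup.normalizer (Q : Set X))
    (hRT : R ≤ Subgroup.normalizer (T : Set X))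
    (hmin : ∀ Q₂ : Subgroup X, Q₂ ≤ Q → Q₂ ≠ Q → T ≤ Subgroup.normalizer (Q₂ : Set X) →
      R ≤ Subgroup.normalizer (Q₂ : Set X) → T ≤ Subgroup.centralizer (Q₂ : Set X))
    (hTnot : ¬ T ≤ Subgroup.centralizer (Q : Set X)) : ∃ q : ℕ, q.Prime ∧ IsPGroup q Q := by
  by_contra hno
  push Not at hno
  apply hTnot
  rw [Subgroup.le_centralizer_iff]
  have hA : T ⊔ R ≤ Subgroup.normalizer (Q : Set X) := sup_le hTQ hRQ
  have hcopT : (Nat.card T).Coprime (Nat.card Q) := coprime_card_of_isPGroup hT hQp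
  have hcopA : (Nat.card (T ⊔ R : Subgroup X)).Coprime (Nat.card Q) :=
    Nat.Coprime.coprime_dvd_left (card_sup_dvd_mul T R hRT) (Nat.Coprime.mul_left hcopT hRQc)
  have hrel : (Q ⊓ Subgroup.centralizer (T : Set X)).relIndex Q = 1 := by
    by_contra hne
    obtain ⟨ℓ, hℓ, hdvd⟩ := Nat.exists_prime_and_dvd hne
    haveI : Fact ℓ.Prime := ⟨hℓ⟩
    obtain ⟨P, hP⟩ := Cfsg.Agent.S0023.result (T ⊔ R) Q hA hcopA (Or.inr hQsolv) ℓ
    have hPQ : (P : Subgroup Q).map Q.subtype ≤ Q := Subgroup.map_subtype_le _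
    by_cases hPeq : (P : Subgroup Q).map Q.subtype = Q
    · apply hno ℓ hℓ
      have htop : (P : Subgroup Q) = ⊤ := by
        rw [eq_top_iff]
        intro x _
        have hx : (x : X) ∈ (P : Subgroup Q).map Q.subtype := by rw [hPeq]; exact x.2
        obtain ⟨y, hy, hyx⟩ := hx
        have : y = x := Subtype.ext hyx
        rw [← this]; exact hy
      have hPp := P.isPGroup'
      rw [htop] at hPp
      exact hPp.of_equiv Subgroup.topEquiv
    · have hc := hmin _ hPQ hPeq (le_sup_left.trans hP) (le_sup_right.trans hP)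
      have hle : (P : Subgroup Q).map Q.subtype ≤ Q ⊓ Subgroup.centralizer (T : Set X) :=
        le_inf hPQ (Subgroup.le_centralizer_iff.mp hc)
      have h1 : (Q ⊓ Subgroup.centralizer (T : Set X)).relIndex Q ∣
          ((P : Subgroup Q).map Q.subtype).relIndex Q :=
        Subgroup.relIndex_dvd_of_le_left Q hle
      have h2 : ((P : Subgroup Q).map Q.subtype).relIndex Q = (P : Subgroup Q).index := by
        unfold Subgroup.relIndex Subgroup.subgroupOf
        rw [Subgroup.comap_map_eq_self_of_injective Q.subtype_injective]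
      rw [h2] at h1
      exact P.not_dvd_index (hdvd.trans h1)
  exact (Subgroup.relIndex_eq_one.mp hrel).trans inf_le_right

/-- Steps (c), (d): if the `q`-group `Q` (`q` odd) is nonabelian, then `T` centralizes `Z(Q)`,
`Q' ≤ Z(Q)`, `T` centralizes `Q'`, and `Q` has exponent `q`. -/
theorem step_exponent {p q : ℕ} [Fact p.Prime] [hq : Fact q.Prime] (hq2 : q ≠ 2)
    (Q T R : Subgroup X) (hQq : IsPGroup q Q)
    (hQsolv : Group.IsSolvable Q) (hQp : (Nat.card Q).Coprime p) (hT : IsPGroup p T)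
    (hTQ : T ≤ Subgroup.normalizer (Q : Set X)) (hRQ : R ≤ Subgroup.normalizer (Q : Set X))
    (hRT : R ≤ Subgroup.normalizer (T : Set X))
    (hmin : ∀ Q₂ : Subgroup X, Q₂ ≤ Q → Q₂ ≠ Q → T ≤ Subgroup.normalizer (Q₂ : Set X) →
      R ≤ Subgroup.normalizer (Q₂ : Set X) → T ≤ Subgroup.centralizer (Q₂ : Set X))
    (hTnot : ¬ T ≤ Subgroup.centralizer (Q : Set X))
    (hnonab : ¬ ∀ x ∈ Q, ∀ y ∈ Q, x * y = y * x) :
    T ≤ Subgroup.centralizer ((Q ⊓ Subgroup.centralizer (Q : Set X) : Subgroup X) : Set X) ∧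
    T ≤ Subgroup.centralizer ((⁅Q, Q⁆ : Subgroup X) : Set X) ∧
    ⁅Q, Q⁆ ≤ Q ⊓ Subgroup.centralizer (Q : Set X) ∧
    ∀ g ∈ Q, g ^ q = 1 := by
  have hcomm : ⁅Q, T⁆ = Q := step_comm_eq Q T R hQsolv hQp hT hTQ hRQ hRT hmin hTnot
  have hQne : Q ≠ ⊥ := by
    intro h
    apply hnonab
    intro x hx y hy
    rw [h, Subgroup.mem_bot] at hx hy
    rw [hx, hy]
  -- the centre
  have hZne : Q ⊓ Subgroup.centralizer (Q : Set X) ≠ Q := by
    intro h
    apply hnonab
    intro x hx y hy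
    have hy' : y ∈ Q ⊓ Subgroup.centralizer (Q : Set X) := by rw [h]; exact hy
    exact Subgroup.mem_centralizer_iff.mp hy'.2 x hx
  have hNZ : Subgroup.normalizer (Q : Set X) ≤
      Subgroup.normalizer ((Q ⊓ Subgroup.centralizer (Q : Set X) : Subgroup X) : Set X) :=
    (le_inf le_rfl (Cfsg.Agent.Lib.Helper61.normalizer_le_normalizer_centralizer Q)).trans
      (Cfsg.Agent.Lib.Helper61.normalizer_inf_le_normalizer_inf Q _)
  have hTZ : T ≤ Subgroup.centralizer ((Q ⊓ Subgroup.centralizer (Q : Set X) : Subgroup X) : Set X) :=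
    hmin _ inf_le_left hZne (hTQ.trans hNZ) (hRQ.trans hNZ)
  -- the Frattini subgroup
  have hΦle : (frattini ↥Q).map Q.subtype ≤ Q := Subgroup.map_subtype_le _
  have hΦne : (frattini ↥Q).map Q.subtype ≠ Q := by
    intro h
    haveI : Nontrivial ↥Q := (Subgroup.nontrivial_iff_ne_bot Q).mpr hQne
    obtain ⟨K, hK⟩ := IsCoatomic.exists_coatom (α := Subgroup ↥Q)
    apply hK.1
    rw [eq_top_iff]
    intro x _
    have hx : (x : X) ∈ (frattini ↥Q).map Q.subtype := by rw [h]; exact x.2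
    obtain ⟨y, hy, hyx⟩ := hx
    have : y = x := Subtype.ext hyx
    rw [← this]
    exact frattini_le_coatom hK hy
  have hNΦ : Subgroup.normalizer (Q : Set X) ≤
      Subgroup.normalizer (((frattini ↥Q).map Q.subtype : Subgroup X) : Set X) :=
    Cfsg.Agent.Lib.Helper47.normalizer_le_normalizer_map_subtype_of_characteristic Q (frattini ↥Q)
  have hTΦ : T ≤ Subgroup.centralizer (((frattini ↥Q).map Q.subtype : Subgroup X) : Set X) :=
    hmin _ hΦle hΦne (hTQ.trans hNΦ) (hRQ.trans hNΦ)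
  -- three subgroups lemma: `Φ(Q) ≤ Z(Q)`
  have hQΦ : ⁅Q, (frattini ↥Q).map Q.subtype⁆ = ⊥ := by
    have h1 : ⁅⁅T, (frattini ↥Q).map Q.subtype⁆, Q⁆ = ⊥ := by
      rw [Subgroup.commutator_eq_bot_iff_le_centralizer.mpr hTΦ, Subgroup.commutator_bot_left]
    have h2 : ⁅⁅(frattini ↥Q).map Q.subtype, Q⁆, T⁆ = ⊥ := by
      have h3 : ⁅(frattini ↥Q).map Q.subtype, Q⁆ ≤ (frattini ↥Q).map Q.subtype :=
        Cfsg.Agent.Lib.Helper61.commutator_le_of_le_normalizer
          (Subgroup.le_normalizer.trans hNΦ)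
      have h4 : ⁅(frattini ↥Q).map Q.subtype, T⁆ = ⊥ := by
        rw [Subgroup.commutator_comm]
        exact Subgroup.commutator_eq_bot_iff_le_centralizer.mpr hTΦ
      rw [eq_bot_iff, ← h4]
      exact Subgroup.commutator_mono h3 le_rfl
    have h5 := Subgroup.commutator_commutator_eq_bot_of_rotate h1 h2
    rwa [hcomm] at h5
  have hΦZ : (frattini ↥Q).map Q.subtype ≤ Q ⊓ Subgroup.centralizer (Q : Set X) := by
    refine le_inf hΦle ?_
    rw [Subgroup.le_centralizer_iff]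
    exact Subgroup.commutator_eq_bot_iff_le_centralizer.mp hQΦ
  have hDΦ : ⁅Q, Q⁆ ≤ (frattini ↥Q).map Q.subtype := by
    rw [← Subgroup.map_subtype_commutator]
    exact Subgroup.map_mono (Cfsg.Agent.Lib.Helper1.commutator_le_frattini_of_pGroup q hQq)
  have hpowΦ : ∀ g ∈ Q, g ^ q ∈ (frattini ↥Q).map Q.subtype := by
    intro g hg
    exact ⟨⟨g, hg⟩ ^ q, Cfsg.Agent.Lib.Helper1.pow_mem_frattini_of_pGroup q hQq ⟨g, hg⟩, rfl⟩
  have hTD : T ≤ Subgroup.centralizer ((⁅Q, Q⁆ : Subgroup X) : Set X) :=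
    hTΦ.trans (Subgroup.centralizer_le hDΦ)
  refine ⟨hTZ, hTD, hDΦ.trans hΦZ, ?_⟩
  -- the power map is a homomorphism
  have hq3 : 2 < q := by
    have := hq.out.two_le
    omega
  have hpowmul : ∀ g ∈ Q, ∀ h ∈ Q, (g * h) ^ q = g ^ q * h ^ q := by
    intro g hg h hh
    have hc : h * g = g * h * (h⁻¹ * g⁻¹ * h * g) := by group
    have hcD : h⁻¹ * g⁻¹ * h * g ∈ ⁅Q, Q⁆ := by
      have h1 : h⁻¹ * g⁻¹ * h * g = ⁅h⁻¹, g⁻¹⁆ := by
        rw [commutatorElement_def]; group
      rw [h1]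
      exact Subgroup.commutator_mem_commutator (Q.inv_mem hh) (Q.inv_mem hg)
    have hcZ : h⁻¹ * g⁻¹ * h * g ∈ Subgroup.centralizer (Q : Set X) := (hΦZ (hDΦ hcD)).2
    have hcg : Commute (h⁻¹ * g⁻¹ * h * g) g :=
      (Subgroup.mem_centralizer_iff.mp hcZ g hg).symm
    have hch : Commute (h⁻¹ * g⁻¹ * h * g) h :=
      (Subgroup.mem_centralizer_iff.mp hcZ h hh).symm
    have hhq : h ^ q ∈ Subgroup.centralizer (Q : Set X) := (hΦZ (hpowΦ h hh)).2
    have hhqg : g * h ^ q = h ^ q * g := Subgroup.mem_centralizer_iff.mp hhq g hg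
    have h1 := pow_mul_of_commute_comm hc hch q
    rw [← hhqg] at h1
    have hcq : (h⁻¹ * g⁻¹ * h * g) ^ q = 1 := by
      have h2 : g * h ^ q * 1 = g * h ^ q * (h⁻¹ * g⁻¹ * h * g) ^ q := by rw [mul_one]; exact h1
      exact (mul_left_cancel h2).symm
    obtain ⟨m, hm⟩ := Nat.Prime.dvd_choose_self hq.out (by norm_num : (2 : ℕ) ≠ 0) hq3
    rw [mul_pow_of_commute_comm hc hcg hch q, hm, pow_mul, hcq, one_pow, mul_one]
  -- the subgroup of elements of order dividing `q`
  let W : Subgroup X :=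
    { carrier := {g | g ∈ Q ∧ g ^ q = 1}
      one_mem' := ⟨Q.one_mem, one_pow q⟩
      mul_mem' := by
        rintro g h ⟨hg, hg1⟩ ⟨hh, hh1⟩
        exact ⟨Q.mul_mem hg hh, by rw [hpowmul g hg h hh, hg1, hh1, one_mul]⟩
      inv_mem' := by
        rintro g ⟨hg, hg1⟩
        exact ⟨Q.inv_mem hg, by rw [inv_pow, hg1, inv_one]⟩ }
  have hWmem : ∀ g, g ∈ W ↔ g ∈ Q ∧ g ^ q = 1 := fun g => Iff.rfl
  have hWle : W ≤ Q := fun g hg => hg.1
  have hNW : Subgroup.normalizer (Q : Set X) ≤ Subgroup.normalizer (W : Set X) := by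
    apply Cfsg.Agent.Lib.Helper47.le_normalizer_of_conj_mem
    intro s hs n hn
    rw [hWmem] at hn ⊢
    refine ⟨(Subgroup.mem_normalizer_iff.mp hs n).mp hn.1, ?_⟩
    rw [conj_pow, hn.2, mul_one, mul_inv_cancel]
  have hWQ : W = Q := by
    by_contra hWne
    have hTW : T ≤ Subgroup.centralizer (W : Set X) :=
      hmin W hWle hWne (hTQ.trans hNW) (hRQ.trans hNW)
    have hle : ⁅Q, T⁆ ≤ W := by
      rw [Subgroup.commutator_le]
      intro g hg t ht
      have htg : t * g⁻¹ * t⁻¹ ∈ Q :=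
        (Subgroup.mem_normalizer_iff.mp (hTQ ht) g⁻¹).mp (Q.inv_mem hg)
      have h1 : ⁅g, t⁆ = g * (t * g⁻¹ * t⁻¹) := by
        rw [commutatorElement_def]; group
      rw [h1, hWmem]
      refine ⟨Q.mul_mem hg htg, ?_⟩
      rw [hpowmul g hg _ htg, conj_pow, inv_pow]
      have h2 : (g ^ q)⁻¹ ∈ (frattini ↥Q).map Q.subtype := Subgroup.inv_mem _ (hpowΦ g hg)
      have h3 : (g ^ q)⁻¹ * t = t * (g ^ q)⁻¹ :=
        Subgroup.mem_centralizer_iff.mp (hTΦ ht) _ h2
      rw [← h3, mul_inv_cancel_right, mul_inv_cancel]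
    rw [hcomm] at hle
    exact hWne (le_antisymm hWle hle)
  intro g hg
  have : g ∈ W := hWQ ▸ hg
  exact this.2

/-- Step (e): with `Y = C_Q(a)`: `|Y| = q`, `Y ∩ C_Q(T) = 1` and `|Q| = q ^ r |C_Q(T)|`. -/
theorem step_count {p q r : ℕ} [Fact p.Prime] [hq : Fact q.Prime] (hr : r.Prime) (hpr : p ≠ r)
    (Q T : Subgroup X) (a : X) (hQq : IsPGroup q Q) (hQsolv : Group.IsSolvable Q)
    (hQp : (Nat.card Q).Coprime p) (hQr : (Nat.card Q).Coprime r) (hT : IsPGroup p T)
    (hTQ : T ≤ Subgroup.normalizer (Q : Set X)) (haQ : a ∈ Subgroup.normalizer (Q : Set X))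
    (haT : a ∈ Subgroup.normalizer (T : Set X))
    (har : a ^ r = 1) (hfpf : ∀ t ∈ T, a * t = t * a → t = 1)
    (hCQZ : IsZGroup ↥(Q ⊓ Subgroup.centralizer ({a} : Set X)))
    (hexp : ∀ g ∈ Q, g ^ q = 1)
    (hTnot : ¬ T ≤ Subgroup.centralizer (Q : Set X)) :
    Nat.card ↥(Q ⊓ Subgroup.centralizer ({a} : Set X)) = q ∧
    (Q ⊓ Subgroup.centralizer ({a} : Set X)) ⊓ Subgroup.centralizer (T : Set X) = ⊥ ∧
    Nat.card Q = q ^ r * Nat.card ↥(Q ⊓ Subgroup.centralizer (T : Set X)) := by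
  have ha1 : a ≠ 1 := by
    intro h
    apply hTnot
    intro t ht
    have : t = 1 := hfpf t ht (by rw [h, one_mul, mul_one])
    rw [this]
    exact Subgroup.one_mem _
  have hord : orderOf a = r := by
    rcases (Nat.dvd_prime hr).mp (orderOf_dvd_of_pow_eq_one har) with h | h
    · exact absurd (orderOf_eq_one_iff.mp h) ha1
    · exact h
  have hEcard : Nat.card (Subgroup.zpowers a) = r := by rw [Nat.card_zpowers, hord]
  have hET : Subgroup.zpowers a ≤ Subgroup.normalizer (T : Set X) := (Subgroup.zpowers_le).mpr haT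
  have hEQ : Subgroup.zpowers a ≤ Subgroup.normalizer (Q : Set X) := (Subgroup.zpowers_le).mpr haQ
  have hUn : ∀ e ∈ Subgroup.zpowers a, ∀ u ∈ T, e * u * e⁻¹ ∈ T := fun e he u hu =>
    (Subgroup.mem_normalizer_iff.mp (hET he) u).mp hu
  have hfpfE : ∀ e ∈ Subgroup.zpowers a, e ≠ 1 → ∀ u ∈ T, e * u = u * e → u = 1 := by
    intro e he he1 u hu heu
    have hae : a ∈ Subgroup.zpowers e :=
      Cfsg.Agent.Lib.Helper97.SectMod.mem_zpowers_of_prime_card (Subgroup.zpowers a) hr hEcard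
        e a he (Subgroup.mem_zpowers a) he1
    obtain ⟨k, hk⟩ := Subgroup.mem_zpowers_iff.mp hae
    have hc : Commute e u := heu
    have hc2 : Commute (e ^ k) u := hc.zpow_left k
    rw [hk] at hc2
    exact hfpf u hu hc2.eq
  have hnil : Group.IsNilpotent T := hT.isNilpotent
  have hcopT : (Nat.card T).Coprime (Nat.card Q) := coprime_card_of_isPGroup hT hQp
  have hcop : (Nat.card Q).Coprime (Nat.card ↥(T ⊔ Subgroup.zpowers a : Subgroup X)) := by
    refine Nat.Coprime.coprime_dvd_right (card_sup_dvd_mul T (Subgroup.zpowers a) hET) ?_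
    rw [hEcard]
    exact Nat.Coprime.mul_right hcopT.symm hQr
  have hform := Cfsg.Agent.Lib.Helper97.FrobFormula.frob_formula T (Subgroup.zpowers a) Q hUn hfpfE
    hnil (sup_le hTQ hEQ) hQsolv hcop
  rw [hEcard, centralizer_zpowers_eq] at hform
  -- `Y` is cyclic of order dividing `q`
  have hYq : IsPGroup q ↥(Q ⊓ Subgroup.centralizer ({a} : Set X)) := hQq.to_le inf_le_left
  have hYcyc : IsCyclic ↥(Q ⊓ Subgroup.centralizer ({a} : Set X)) := by
    obtain ⟨P⟩ : Nonempty (Sylow q ↥(Q ⊓ Subgroup.centralizer ({a} : Set X))) := inferInstance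
    have hPc : IsCyclic ↥(P : Subgroup ↥(Q ⊓ Subgroup.centralizer ({a} : Set X))) :=
      hCQZ.isZGroup q hq.out P
    have htop : (⊤ : Subgroup ↥(Q ⊓ Subgroup.centralizer ({a} : Set X))) = P :=
      P.is_maximal' (hYq.of_equiv Subgroup.topEquiv.symm) le_top
    rw [← htop] at hPc
    exact isCyclic_of_surjective Subgroup.topEquiv Subgroup.topEquiv.surjective
  have hYdvd : Nat.card ↥(Q ⊓ Subgroup.centralizer ({a} : Set X)) ∣ q := by
    obtain ⟨y, hy⟩ := hYcyc.exists_generator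
    rw [← orderOf_eq_card_of_forall_mem_zpowers hy]
    apply orderOf_dvd_of_pow_eq_one
    apply Subtype.ext
    rw [Subgroup.coe_pow]
    exact hexp y y.2.1
  have hc0le : Q ⊓ Subgroup.centralizer ((T ⊔ Subgroup.zpowers a : Subgroup X) : Set X) ≤
      Q ⊓ Subgroup.centralizer ({a} : Set X) := by
    refine inf_le_inf_left Q ?_
    rw [← centralizer_zpowers_eq]
    exact Subgroup.centralizer_le (le_sup_right : Subgroup.zpowers a ≤ T ⊔ Subgroup.zpowers a)
  have hc0dvd := Subgroup.card_dvd_of_le hc0le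
  have hmne : Nat.card ↥(Q ⊓ Subgroup.centralizer (T : Set X)) ≠ Nat.card Q := by
    intro h
    apply hTnot
    rw [Subgroup.le_centralizer_iff]
    have : Q ⊓ Subgroup.centralizer (T : Set X) = Q :=
      Subgroup.eq_of_le_of_card_ge inf_le_left h.ge
    exact this ▸ inf_le_right
  have hqpos : 0 < q ^ r := pow_pos hq.out.pos r
  rcases (Nat.dvd_prime hq.out).mp hYdvd with hY1 | hYq'
  · exfalso
    rw [hY1] at hc0dvd hform
    have h1 := Nat.dvd_one.mp hc0dvd
    rw [h1, one_pow, one_mul, one_mul] at hform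
    exact hmne hform.symm
  · rw [hYq'] at hc0dvd hform
    rcases (Nat.dvd_prime hq.out).mp hc0dvd with hc1 | hcq
    · rw [hc1, one_pow, one_mul] at hform
      refine ⟨hYq', ?_, hform⟩
      have hbot : Q ⊓ Subgroup.centralizer ((T ⊔ Subgroup.zpowers a : Subgroup X) : Set X) = ⊥ :=
        Subgroup.card_eq_one.mp hc1
      rw [eq_bot_iff, ← hbot]
      rintro x ⟨⟨hxQ, hxa⟩, hxT⟩
      refine Subgroup.mem_inf.mpr ⟨hxQ, mem_centralizer_sup hxT ?_⟩
      rw [centralizer_zpowers_eq]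
      exact hxa
    · exfalso
      rw [hcq] at hform
      exact hmne (Nat.eq_of_mul_eq_mul_left hqpos hform).symm

/-- Step (f): `M₁ = [Q, a]` is an abelian subgroup of index `q`, normal in `Q`. -/
theorem step_M1 {p q r : ℕ} [hp : Fact p.Prime] [hq : Fact q.Prime] (hr : r.Prime) (hpr : p ≠ r)
    (V Q T : Subgroup X) (a : X)
    (hVexp : ∀ v ∈ V, v ^ p = 1) (hVab : ∀ v ∈ V, ∀ w ∈ V, v * w = w * v)
    (hQq : IsPGroup q Q) (hQsolv : Group.IsSolvable Q)
    (hQp : (Nat.card Q).Coprime p) (hQr : (Nat.card Q).Coprime r)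
    (hQV : Q ≤ Subgroup.normalizer (V : Set X)) (haV : a ∈ Subgroup.normalizer (V : Set X))
    (haQ : a ∈ Subgroup.normalizer (Q : Set X)) (har : a ^ r = 1)
    (hCVcyc : IsCyclic ↥(V ⊓ Subgroup.centralizer ({a} : Set X)))
    (hfaith : Q ⊓ Subgroup.centralizer (V : Set X) = ⊥)
    (hTD : T ≤ Subgroup.centralizer ((⁅Q, Q⁆ : Subgroup X) : Set X))
    (hYcard : Nat.card ↥(Q ⊓ Subgroup.centralizer ({a} : Set X)) = q)
    (hYT : (Q ⊓ Subgroup.centralizer ({a} : Set X)) ⊓ Subgroup.centralizer (T : Set X) = ⊥) :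
    ⁅Q, Subgroup.zpowers a⁆ ≤ Q ∧
    Q ≤ Subgroup.normalizer ((⁅Q, Subgroup.zpowers a⁆ : Subgroup X) : Set X) ∧
    (⁅Q, Subgroup.zpowers a⁆).relIndex Q = q ∧
    ⁅Q, Subgroup.zpowers a⁆ ≤
      Subgroup.centralizer ((⁅Q, Subgroup.zpowers a⁆ : Subgroup X) : Set X) := by
  have hEQ : Subgroup.zpowers a ≤ Subgroup.normalizer (Q : Set X) := (Subgroup.zpowers_le).mpr haQ
  have hEV : Subgroup.zpowers a ≤ Subgroup.normalizer (V : Set X) := (Subgroup.zpowers_le).mpr haV
  have hM1le : ⁅Q, Subgroup.zpowers a⁆ ≤ Q :=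
    Cfsg.Agent.Lib.Helper61.commutator_le_of_le_normalizer hEQ
  have hEdvd : Nat.card (Subgroup.zpowers a) ∣ r := by
    rw [Nat.card_zpowers]; exact orderOf_dvd_of_pow_eq_one har
  have hcopE : (Nat.card (Subgroup.zpowers a)).Coprime (Nat.card Q) :=
    Nat.Coprime.coprime_dvd_left hEdvd hQr.symm
  have hcopEM1 : (Nat.card (Subgroup.zpowers a)).Coprime
      (Nat.card (⁅Q, Subgroup.zpowers a⁆ : Subgroup X)) :=
    Nat.Coprime.coprime_dvd_right (Subgroup.card_dvd_of_le hM1le) hcopE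
  have hEM1 : Subgroup.zpowers a ≤
      Subgroup.normalizer ((⁅Q, Subgroup.zpowers a⁆ : Subgroup X) : Set X) :=
    Cfsg.Agent.Lib.Helper47.le_normalizer_commutator_right Q (Subgroup.zpowers a)
  have hQM1 : Q ≤ Subgroup.normalizer ((⁅Q, Subgroup.zpowers a⁆ : Subgroup X) : Set X) :=
    Cfsg.Agent.Lib.Helper47.le_normalizer_commutator_left Q (Subgroup.zpowers a)
  have h27 : ⁅⁅Q, Subgroup.zpowers a⁆, Subgroup.zpowers a⁆ = ⁅Q, Subgroup.zpowers a⁆ :=
    Cfsg.Agent.S0027.result (Subgroup.zpowers a) Q hEQ hcopE (Or.inr hQsolv)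
  have hfix0 := Cfsg.Agent.Lib.Helper61.inf_centralizer_le_commutator_of_commutator_eq
    ⁅Q, Subgroup.zpowers a⁆ (Subgroup.zpowers a) hEM1 hcopEM1 h27
  rw [centralizer_zpowers_eq] at hfix0
  have hfixM1 : ∀ u ∈ ⁅Q, Subgroup.zpowers a⁆, a * u = u * a → u = 1 := by
    intro u hu hau
    have huC : u ∈ Subgroup.centralizer ({a} : Set X) := by
      rw [Subgroup.mem_centralizer_iff]
      intro h hh
      rw [Set.mem_singleton_iff] at hh
      rw [hh]; exact hau
    have h1 : u ∈ ⁅⁅Q, Subgroup.zpowers a⁆, ⁅Q, Subgroup.zpowers a⁆⁆ :=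
      hfix0 (Subgroup.mem_inf.mpr ⟨hu, huC⟩)
    have h2 : u ∈ ⁅Q, Q⁆ := Subgroup.commutator_mono hM1le hM1le h1
    have h3 : u ∈ Subgroup.centralizer (T : Set X) := (Subgroup.le_centralizer_iff.mp hTD) h2
    have h4 : u ∈ (Q ⊓ Subgroup.centralizer ({a} : Set X)) ⊓ Subgroup.centralizer (T : Set X) :=
      Subgroup.mem_inf.mpr ⟨Subgroup.mem_inf.mpr ⟨hM1le hu, huC⟩, h3⟩
    rw [hYT] at h4
    exact h4
  have hM1Y : ⁅Q, Subgroup.zpowers a⁆ ⊓ (Q ⊓ Subgroup.centralizer ({a} : Set X)) = ⊥ := by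
    rw [eq_bot_iff]
    rintro x ⟨hx1, -, hxa⟩
    have : a * x = x * a := Subgroup.mem_centralizer_iff.mp hxa a (Set.mem_singleton a)
    exact hfixM1 x hx1 this
  have hsup : ⁅Q, Subgroup.zpowers a⁆ ⊔ (Q ⊓ Subgroup.centralizer ({a} : Set X)) = Q := by
    have := Cfsg.Agent.S0026.result (Subgroup.zpowers a) Q hEQ hcopE (Or.inr hQsolv)
    rwa [centralizer_zpowers_eq] at this
  have hcardQ : Nat.card Q = Nat.card (⁅Q, Subgroup.zpowers a⁆ : Subgroup X) * q := by
    have h1 := Cfsg.Agent.Lib.Helper91.card_sup_mul_card_inf_of_le_normalizer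
      ⁅Q, Subgroup.zpowers a⁆ (Q ⊓ Subgroup.centralizer ({a} : Set X)) (inf_le_left.trans hQM1)
    rw [hsup, hM1Y, Subgroup.card_bot, mul_one, hYcard] at h1
    exact h1
  have hrel : (⁅Q, Subgroup.zpowers a⁆).relIndex Q = q := by
    have h1 := Cfsg.Agent.Lib.Helper1.card_eq_card_mul_relIndex hM1le
    rw [hcardQ] at h1
    exact (Nat.eq_of_mul_eq_mul_left Nat.card_pos h1).symm
  refine ⟨hM1le, hQM1, hrel, ?_⟩
  -- `M₁` is abelian
  have hM1q : IsPGroup q ↥(⁅Q, Subgroup.zpowers a⁆ : Subgroup X) := hQq.to_le hM1le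
  have hnil : Group.IsNilpotent ↥(⁅Q, Subgroup.zpowers a⁆ : Subgroup X) := hM1q.isNilpotent
  have hVsolv : Group.IsSolvable V :=
    isSolvable_of_comm (fun v w => Subtype.ext (hVab v v.2 w w.2))
  have hVp : IsPGroup p V := by
    intro v
    refine ⟨1, ?_⟩
    apply Subtype.ext
    rw [pow_one, Subgroup.coe_pow]
    exact hVexp v v.2
  have hcopV : (Nat.card ↥(⁅Q, Subgroup.zpowers a⁆ ⊔ Subgroup.zpowers a : Subgroup X)).Coprime
      (Nat.card V) := by
    obtain ⟨k, hk⟩ := IsPGroup.iff_card.mp hVp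
    rw [hk]
    apply Nat.Coprime.pow_right
    refine Nat.Coprime.coprime_dvd_left (card_sup_dvd_mul _ _ hEM1) ?_
    refine Nat.Coprime.mul_left ?_ ?_
    · exact Nat.Coprime.coprime_dvd_left (Subgroup.card_dvd_of_le hM1le) hQp
    · exact Nat.Coprime.coprime_dvd_left hEdvd ((Nat.coprime_primes hr hp.out).mpr hpr.symm)
  have hcyc : IsCyclic ↥(V ⊓ Subgroup.centralizer ((Subgroup.zpowers a : Subgroup X) : Set X)) := by
    rw [centralizer_zpowers_eq]; exact hCVcyc
  have hUn : ∀ e ∈ Subgroup.zpowers a, ∀ u ∈ ⁅Q, Subgroup.zpowers a⁆,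
      e * u * e⁻¹ ∈ ⁅Q, Subgroup.zpowers a⁆ := fun e he u hu =>
    (Subgroup.mem_normalizer_iff.mp (hEM1 he) u).mp hu
  have hcent := Cfsg.Agent.Lib.Helper97.FrobCentral.frob_comm_centralizes_aux
    ⁅Q, Subgroup.zpowers a⁆ (Subgroup.zpowers a) V a (Subgroup.mem_zpowers a) hr har
    (fun y hy => hy) hUn hfixM1 hnil hVsolv hcopV hcyc (Nat.card V) V le_rfl le_rfl
    (sup_le (hM1le.trans hQV) hEV)
  have hbot : ⁅⁅Q, Subgroup.zpowers a⁆, ⁅Q, Subgroup.zpowers a⁆⁆ = ⊥ := by
    rw [eq_bot_iff, ← hfaith]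
    exact le_inf ((Subgroup.commutator_mono hM1le hM1le).trans
      (Cfsg.Agent.Lib.Helper61.commutator_le_of_le_normalizer Subgroup.le_normalizer)) hcent
  exact Subgroup.commutator_eq_bot_iff_le_centralizer.mp hbot

/-- Step (g): the final contradiction. -/
theorem step_final {p q r : ℕ} [hp : Fact p.Prime] [hq : Fact q.Prime] (hr : r.Prime)
    (hr2 : r ≠ 2) (hpr : p ≠ r) (Q T : Subgroup X) (a : X) (M1 : Subgroup X)
    (hT : IsPGroup p T)
    (hTQ : T ≤ Subgroup.normalizer (Q : Set X)) (haQ : a ∈ Subgroup.normalizer (Q : Set X))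
    (haT : a ∈ Subgroup.normalizer (T : Set X))
    (har : a ^ r = 1) (hfpf : ∀ t ∈ T, a * t = t * a → t = 1)
    (hcomm : ⁅Q, T⁆ = Q)
    (hTZ : T ≤ Subgroup.centralizer ((Q ⊓ Subgroup.centralizer (Q : Set X) : Subgroup X) : Set X))
    (hcard : Nat.card Q = q ^ r * Nat.card ↥(Q ⊓ Subgroup.centralizer (T : Set X)))
    (hM1E : ∀ v ∈ Q, ∀ e ∈ Subgroup.zpowers a, ⁅v, e⁆ ∈ M1)
    (hM1le : M1 ≤ Q)
    (hrel : M1.relIndex Q = q)
    (hab : M1 ≤ Subgroup.centralizer (M1 : Set X)) : False := by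
  have hEQ : Subgroup.zpowers a ≤ Subgroup.normalizer (Q : Set X) := (Subgroup.zpowers_le).mpr haQ
  have hET : Subgroup.zpowers a ≤ Subgroup.normalizer (T : Set X) := (Subgroup.zpowers_le).mpr haT
  by_cases hTM1 : T ≤ Subgroup.normalizer (M1 : Set X)
  · have hmemC : ∀ l, l ∈ Cfsg.Agent.Lib.Helper47.commStab Q M1 hM1le ↔
        l ∈ Subgroup.normalizer (Q : Set X) ∧ ∀ v ∈ Q, ⁅v, l⁆ ∈ M1 := fun l => Iff.rfl
    have hEC : Subgroup.zpowers a ≤ Cfsg.Agent.Lib.Helper47.commStab Q M1 hM1le := by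
      intro e he
      rw [hmemC]
      exact ⟨hEQ he, fun v hv => hM1E v hv e he⟩
    have hTEC : ⁅T, Subgroup.zpowers a⁆ ≤ Cfsg.Agent.Lib.Helper47.commStab Q M1 hM1le := by
      rw [Subgroup.commutator_le]
      intro t ht e he
      have h1 : t * e * t⁻¹ ∈ Cfsg.Agent.Lib.Helper47.commStab Q M1 hM1le := by
        rw [hmemC]
        refine ⟨Subgroup.mul_mem _ (Subgroup.mul_mem _ (hTQ ht) (hEQ he))
          (Subgroup.inv_mem _ (hTQ ht)), ?_⟩
        intro v hv
        have hv' : t⁻¹ * v * t ∈ Q := (Subgroup.mem_normalizer_iff''.mp (hTQ ht) v).mp hv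
        have h2 : ⁅t⁻¹ * v * t, e⁆ ∈ M1 := hM1E _ hv' e he
        have h3 : ⁅v, t * e * t⁻¹⁆ = t * ⁅t⁻¹ * v * t, e⁆ * t⁻¹ := by
          simp only [commutatorElement_def]
          group
        rw [h3]
        exact (Subgroup.mem_normalizer_iff.mp (hTM1 ht) _).mp h2
      have h4 : ⁅t, e⁆ = (t * e * t⁻¹) * e⁻¹ := by rw [commutatorElement_def]
      rw [h4]
      exact Subgroup.mul_mem _ h1 (Subgroup.inv_mem _ (hEC he))
    have hEdvd : Nat.card (Subgroup.zpowers a) ∣ r := by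
      rw [Nat.card_zpowers]; exact orderOf_dvd_of_pow_eq_one har
    have hcopET : (Nat.card (Subgroup.zpowers a)).Coprime (Nat.card T) := by
      obtain ⟨k, hk⟩ := IsPGroup.iff_card.mp hT
      rw [hk]
      apply Nat.Coprime.pow_right
      exact Nat.Coprime.coprime_dvd_left hEdvd ((Nat.coprime_primes hr hp.out).mpr hpr.symm)
    have hTcomm : ⁅T, Subgroup.zpowers a⁆ = T := by
      haveI : Group.IsNilpotent T := hT.isNilpotent
      have h26 := Cfsg.Agent.S0026.result (Subgroup.zpowers a) T hET hcopET (Or.inr inferInstance)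
      have hbot : T ⊓ Subgroup.centralizer ((Subgroup.zpowers a : Subgroup X) : Set X) = ⊥ := by
        rw [centralizer_zpowers_eq, eq_bot_iff]
        rintro t ⟨ht, hta⟩
        exact hfpf t ht (Subgroup.mem_centralizer_iff.mp hta a (Set.mem_singleton a))
      rwa [hbot, sup_bot_eq] at h26
    have hTC : T ≤ Cfsg.Agent.Lib.Helper47.commStab Q M1 hM1le := by
      rw [← hTcomm]; exact hTEC
    have hQle : Q ≤ M1 := by
      rw [← hcomm, Subgroup.commutator_le]
      intro v hv t ht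
      exact ((hmemC t).mp (hTC ht)).2 v hv
    have h1 : M1.relIndex Q = 1 := Subgroup.relIndex_eq_one.mpr hQle
    rw [hrel] at h1
    exact hq.out.one_lt.ne' h1
  · obtain ⟨t, ht, htn⟩ := SetLike.not_le_iff_exists.mp hTM1
    have hmem2 : ∀ m ∈ M1, t * m * t⁻¹ ∈ M1.map (MulAut.conj t).toMonoidHom :=
      fun m hm => ⟨m, hm, rfl⟩
    have hM2ne : M1.map (MulAut.conj t).toMonoidHom ≠ M1 := by
      intro h
      apply htn
      rw [Subgroup.mem_normalizer_iff]
      intro n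
      constructor
      · intro hn
        rw [← h]; exact hmem2 n hn
      · intro hn
        rw [← h] at hn
        obtain ⟨m, hm, hmn⟩ := hn
        have hmn' : t * m * t⁻¹ = t * n * t⁻¹ := hmn
        have : m = n := mul_left_cancel (mul_right_cancel hmn')
        rw [← this]; exact hm
    have hM2le : M1.map (MulAut.conj t).toMonoidHom ≤ Q := by
      rintro _ ⟨m, hm, rfl⟩
      exact (Subgroup.mem_normalizer_iff.mp (hTQ ht) m).mp (hM1le hm)
    have hcardM2 : Nat.card (M1.map (MulAut.conj t).toMonoidHom) = Nat.card M1 :=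
      Subgroup.card_map_of_injective (MulAut.conj t).injective
    have hcQ1 := Cfsg.Agent.Lib.Helper1.card_eq_card_mul_relIndex hM1le
    rw [hrel] at hcQ1
    have hrel2 : (M1.map (MulAut.conj t).toMonoidHom).relIndex Q = q := by
      have h1 := Cfsg.Agent.Lib.Helper1.card_eq_card_mul_relIndex hM2le
      rw [hcardM2, hcQ1] at h1
      exact (Nat.eq_of_mul_eq_mul_left Nat.card_pos h1).symm
    have hab2 : M1.map (MulAut.conj t).toMonoidHom ≤
        Subgroup.centralizer ((M1.map (MulAut.conj t).toMonoidHom : Subgroup X) : Set X) := by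
      rintro _ ⟨m, hm, rfl⟩
      rw [Subgroup.mem_centralizer_iff]
      rintro _ ⟨m', hm', rfl⟩
      have h1 : m' * m = m * m' := Subgroup.mem_centralizer_iff.mp (hab hm) m' hm'
      show t * m' * t⁻¹ * (t * m * t⁻¹) = t * m * t⁻¹ * (t * m' * t⁻¹)
      calc t * m' * t⁻¹ * (t * m * t⁻¹) = t * (m' * m) * t⁻¹ := by group
        _ = t * (m * m') * t⁻¹ := by rw [h1]
        _ = t * m * t⁻¹ * (t * m' * t⁻¹) := by group
    have hsupQ : Q ≤ M1 ⊔ M1.map (MulAut.conj t).toMonoidHom := by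
      have h1 := Subgroup.relIndex_mul_relIndex M1 (M1 ⊔ M1.map (MulAut.conj t).toMonoidHom) Q
        le_sup_left (sup_le hM1le hM2le)
      rw [hrel] at h1
      rcases (Nat.dvd_prime hq.out).mp (Dvd.intro _ h1) with h2 | h2
      · exfalso
        have h3 : M1 ⊔ M1.map (MulAut.conj t).toMonoidHom ≤ M1 := Subgroup.relIndex_eq_one.mp h2
        have h4 : M1.map (MulAut.conj t).toMonoidHom ≤ M1 := le_sup_right.trans h3
        exact hM2ne (Subgroup.eq_of_le_of_card_ge h4 hcardM2.ge)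
      · rw [h2] at h1
        have h3 : (M1 ⊔ M1.map (MulAut.conj t).toMonoidHom).relIndex Q = 1 := by
          have h4 : q * (M1 ⊔ M1.map (MulAut.conj t).toMonoidHom).relIndex Q = q * 1 := by
            rw [h1, mul_one]
          exact Nat.eq_of_mul_eq_mul_left hq.out.pos h4
        exact Subgroup.relIndex_eq_one.mp h3
    have hinfZ : M1 ⊓ M1.map (MulAut.conj t).toMonoidHom ≤
        Q ⊓ Subgroup.centralizer (Q : Set X) := by
      rintro x ⟨hx1, hx2⟩
      refine Subgroup.mem_inf.mpr ⟨hM1le hx1, ?_⟩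
      have hQx : Q ≤ Subgroup.centralizer ({x} : Set X) := by
        refine hsupQ.trans (sup_le ?_ ?_)
        · intro m hm
          rw [Subgroup.mem_centralizer_iff]
          intro y hy
          rw [Set.mem_singleton_iff] at hy
          rw [hy]
          exact Subgroup.mem_centralizer_iff.mp (hab hm) x hx1
        · intro m hm
          rw [Subgroup.mem_centralizer_iff]
          intro y hy
          rw [Set.mem_singleton_iff] at hy
          rw [hy]
          exact Subgroup.mem_centralizer_iff.mp (hab2 hm) x hx2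
      rw [Subgroup.mem_centralizer_iff]
      intro g hg
      exact (Subgroup.mem_centralizer_iff.mp (hQx hg) x (Set.mem_singleton x)).symm
    have hZT : Q ⊓ Subgroup.centralizer (Q : Set X) ≤ Q ⊓ Subgroup.centralizer (T : Set X) :=
      le_inf inf_le_left (Subgroup.le_centralizer_iff.mp hTZ)
    have hrelC : (Q ⊓ Subgroup.centralizer (T : Set X)).relIndex Q = q ^ r := by
      have h1 := Cfsg.Agent.Lib.Helper1.card_eq_card_mul_relIndex
        (inf_le_left : Q ⊓ Subgroup.centralizer (T : Set X) ≤ Q)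
      rw [hcard, mul_comm] at h1
      exact (Nat.eq_of_mul_eq_mul_left Nat.card_pos h1).symm
    have hdvd : (Q ⊓ Subgroup.centralizer (T : Set X)).relIndex Q ∣
        (M1 ⊓ M1.map (MulAut.conj t).toMonoidHom).relIndex Q :=
      Subgroup.relIndex_dvd_of_le_left Q (hinfZ.trans hZT)
    have hle : (M1 ⊓ M1.map (MulAut.conj t).toMonoidHom).relIndex Q ≤
        M1.relIndex Q * (M1.map (MulAut.conj t).toMonoidHom).relIndex Q :=
      Subgroup.relIndex_inf_le
    rw [hrel, hrel2] at hle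
    rw [hrelC] at hdvd
    have hpos : 0 < (M1 ⊓ M1.map (MulAut.conj t).toMonoidHom).relIndex Q :=
      Nat.pos_of_ne_zero Subgroup.index_ne_zero_of_finite
    have h5 : q ^ r ≤ q * q := (Nat.le_of_dvd hpos hdvd).trans hle
    have hr3 : 2 < r := by
      have := hr.two_le
      omega
    have h6 : q ^ 2 < q ^ r := Nat.pow_lt_pow_right hq.out.one_lt hr3
    rw [sq] at h6
    omega

end steps

/-- **Package P2** of the team project S1444 (B-G Theorem 3.6): the minimal `Q` is abelian. -/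
theorem lemmaNonab : Cfsg.Agent.Lib.Helper23.BG36.LemmaNonab.{u} := by
  intro X _ _ p r hp hr hp2 hr2 hpr V Q T R a hVexp hVab hQsolv hQodd hQp hQr hRQc hRsolv hT hQV
    hTV haV hTQ hRQ hRT haR har hfpf hCVcyc hCQZ hfaith hmin hTnot
  by_contra hnonab
  haveI : Fact p.Prime := ⟨hp⟩
  obtain ⟨q, hqp, hQq⟩ := step_pgroup Q T R hQsolv hQp hRQc hT hTQ hRQ hRT hmin hTnot
  haveI : Fact q.Prime := ⟨hqp⟩
  have hQne : Q ≠ ⊥ := by
    intro h
    apply hTnot
    rw [h]
    intro t _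
    rw [Subgroup.mem_centralizer_iff]
    intro y hy
    have : y = 1 := Subgroup.mem_bot.mp hy
    rw [this, one_mul, mul_one]
  have hq2 : q ≠ 2 := by
    intro h
    obtain ⟨k, hk⟩ := IsPGroup.iff_card.mp hQq
    have hk0 : k ≠ 0 := by
      intro h0
      rw [h0, pow_zero] at hk
      exact hQne (Subgroup.card_eq_one.mp hk)
    have h2 : 2 ∣ Nat.card Q := by
      rw [hk, h]
      exact dvd_pow_self 2 hk0
    exact (Nat.not_even_iff_odd.mpr hQodd) (even_iff_two_dvd.mpr h2)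
  obtain ⟨hTZ, hTD, -, hexp⟩ :=
    step_exponent hq2 Q T R hQq hQsolv hQp hT hTQ hRQ hRT hmin hTnot hnonab
  have haQ : a ∈ Subgroup.normalizer (Q : Set X) := hRQ haR
  have haT : a ∈ Subgroup.normalizer (T : Set X) := hRT haR
  obtain ⟨hYcard, hYT, hcard⟩ :=
    step_count hr hpr Q T a hQq hQsolv hQp hQr hT hTQ haQ haT har hfpf hCQZ hexp hTnot
  obtain ⟨hM1le, -, hrel, hab⟩ := step_M1 hr hpr V Q T a hVexp hVab hQq hQsolv hQp hQr hQV haV
    haQ har hCVcyc hfaith hTD hYcard hYT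
  have hcomm := step_comm_eq Q T R hQsolv hQp hT hTQ hRQ hRT hmin hTnot
  exact step_final hr hr2 hpr Q T a ⁅Q, Subgroup.zpowers a⁆ hT hTQ haQ haT har hfpf hcomm hTZ hcard
    (fun v hv e he => Subgroup.commutator_mem_commutator hv he) hM1le hrel hab

end Cfsg.Agent.Lib.Helper47.BG36
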