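import Mathlib
import Cfsg.Agent.Lib.Helper47.PRedSub
import Cfsg.Agent.Lib.Helper47.ZL

set_option autoImplicit false

namespace Cfsg.Agent.Lib.Helper47

/-- In a group `L` of characteristic `p`: if `X'` is a `p`-reduced normal subgroup of a subgroup
`R` containing a Sylow `p`-subgroup, the normal closure of `X'` in `L` is `p`-reduced. -/
theorem isPReducedNormal_normalClosure {L : Type*} [Group L] [Finite L] {p : ℕ} [Fact p.Prime]
    (hchar : Subgroup.centralizer (Cfsg.pCore p L : Set L) ≤ Cfsg.pCore p L) (T : Sylow p L)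
    {R X' : Subgroup L} (hTR : (T : Subgroup L) ≤ R) (hX'R : X' ≤ R)
    (hX : Cfsg.IsPReducedNormal p (X'.subgroupOf R)) :
    Cfsg.IsPReducedNormal p (Subgroup.normalClosure (X' : Set L)) := by
  obtain ⟨hRX, hXel, hXred⟩ := (isPReducedNormal_subgroupOf_iff p hX'R).mp hX
  have hOn : (Cfsg.pCore p L).Normal := Subgroup.sSup_normal _ (fun _ h => h.1)
  have hOT : Cfsg.pCore p L ≤ (T : Subgroup L) := pCore_le_sylow T
  -- Step 1
  have hOC : Cfsg.pCore p L ≤ Subgroup.centralizer (X' : Set L) := by
    apply hXred _ (hOT.trans hTR)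
    · have h1 : Subgroup.normalizer ((Cfsg.pCore p L : Subgroup L) : Set L) = ⊤ :=
        Subgroup.normalizer_eq_top_iff.mpr hOn
      rw [h1]; exact le_top
    · intro d hd
      obtain ⟨k, hk⟩ := pCore_isPGroup p L ⟨d, hd⟩
      refine ⟨k, ?_⟩
      have hk' : d ^ (p ^ k) = 1 := by simpa [Subtype.ext_iff] using hk
      rw [hk']; exact Subgroup.one_mem _
  have hX'C : X' ≤ Subgroup.centralizer (Cfsg.pCore p L : Set L) :=
    Subgroup.le_centralizer_iff.mp hOC
  have hX'O : X' ≤ Cfsg.pCore p L := hX'C.trans hchar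
  rw [isElementaryAbelian_iff] at hXel
  -- Step 2
  have hZn : (Cfsg.pCore p L ⊓ Subgroup.centralizer (Cfsg.pCore p L : Set L)).Normal :=
    inferInstance
  have hVW : Subgroup.normalClosure (X' : Set L) ≤
      Cfsg.omegaOne p (Cfsg.pCore p L ⊓ Subgroup.centralizer (Cfsg.pCore p L : Set L)) := by
    unfold Subgroup.normalClosure Cfsg.omegaOne
    apply Subgroup.closure_mono
    intro x hx
    rw [Group.mem_conjugatesOfSet_iff] at hx
    obtain ⟨a, ha, hax⟩ := hx
    obtain ⟨c, hc⟩ := isConj_iff.mp hax
    refine ⟨?_, ?_⟩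
    · rw [← hc]
      exact hZn.conj_mem a (Subgroup.mem_inf.mpr ⟨hX'O ha, hX'C ha⟩) c
    · rw [← hc, conj_pow, hXel.2 a ha]; group
  have hWel := isElementaryAbelian_omegaOne p
    (Cfsg.pCore p L ⊓ Subgroup.centralizer (Cfsg.pCore p L : Set L)) (by
      rintro a ⟨ha, -⟩ b ⟨-, hb⟩
      exact (Subgroup.mem_centralizer_iff.mp hb) a ha)
  rw [isElementaryAbelian_iff] at hWel
  rw [isPReducedNormal_iff]
  refine ⟨Subgroup.normalClosure_normal, ?_, ?_⟩
  · rw [isElementaryAbelian_iff]
    exact ⟨fun a ha b hb => hWel.1 a (hVW ha) b (hVW hb), fun a ha => hWel.2 a (hVW ha)⟩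
  · intro D hDn hDp
    have hCn : (Subgroup.centralizer ((Subgroup.normalClosure (X' : Set L) : Subgroup L) : Set L)).Normal :=
      inferInstance
    have hCX : Subgroup.centralizer ((Subgroup.normalClosure (X' : Set L) : Subgroup L) : Set L) ≤
        Subgroup.centralizer (X' : Set L) :=
      Subgroup.centralizer_le Subgroup.subset_normalClosure
    have hDCT := le_sup_sylow_of_pow_mem D _ hDp T
    have hDCn : (D ⊔ Subgroup.centralizer ((Subgroup.normalClosure (X' : Set L) : Subgroup L) : Set L)).Normal :=
      inferInstance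
    have hE : (D ⊔ Subgroup.centralizer ((Subgroup.normalClosure (X' : Set L) : Subgroup L) : Set L)) ⊓ R ≤
        Subgroup.centralizer (X' : Set L) := by
      apply hXred _ inf_le_right
      · have h1 : Subgroup.normalizer (((D ⊔ Subgroup.centralizer
            ((Subgroup.normalClosure (X' : Set L) : Subgroup L) : Set L) : Subgroup L)) : Set L) = ⊤ :=
          Subgroup.normalizer_eq_top_iff.mpr hDCn
        refine (le_inf ?_ Subgroup.le_normalizer).trans Subgroup.inf_normalizer_le_normalizer_inf
        rw [h1]; exact le_top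
      · rintro e ⟨he, -⟩
        have he' : e ∈ (((T : Subgroup L) ⊔ Subgroup.centralizer
            ((Subgroup.normalClosure (X' : Set L) : Subgroup L) : Set L) : Subgroup L) : Set L) := by
          have h2 : D ⊔ Subgroup.centralizer ((Subgroup.normalClosure (X' : Set L) : Subgroup L) : Set L) ≤
              (T : Subgroup L) ⊔ Subgroup.centralizer
                ((Subgroup.normalClosure (X' : Set L) : Subgroup L) : Set L) := by
            refine sup_le ?_ le_sup_right
            rw [sup_comm]; exact hDCT
          exact h2 he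
        rw [Subgroup.mul_normal] at he'
        obtain ⟨t, ht, c, hc, rfl⟩ := he'
        obtain ⟨k, hk⟩ := T.isPGroup' ⟨t, ht⟩
        have hk' : t ^ (p ^ k) = 1 := by simpa [Subtype.ext_iff] using hk
        have htn : t ∈ Subgroup.normalizer ((Subgroup.centralizer
            ((Subgroup.normalClosure (X' : Set L) : Subgroup L) : Set L) : Subgroup L) : Set L) := by
          rw [Subgroup.normalizer_eq_top_iff.mpr hCn]; exact Subgroup.mem_top t
        obtain ⟨c', hc', hpow⟩ := exists_pow_mul_eq htn hc (p ^ k)
        refine ⟨k, ?_⟩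
        rw [hpow, hk', one_mul]
        exact hCX hc'
    have hDX : D ≤ Subgroup.centralizer (X' : Set L) := by
      intro d hd
      have hd' : d ∈ ((Subgroup.centralizer ((Subgroup.normalClosure (X' : Set L) : Subgroup L) : Set L) ⊔
          (T : Subgroup L) : Subgroup L) : Set L) := hDCT hd
      rw [Subgroup.normal_mul] at hd'
      obtain ⟨c, hc, t, ht, rfl⟩ := hd'
      have htE : t ∈ (D ⊔ Subgroup.centralizer ((Subgroup.normalClosure (X' : Set L) : Subgroup L) : Set L)) ⊓ R := by
        refine Subgroup.mem_inf.mpr ⟨?_, hTR ht⟩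
        have e : t = c⁻¹ * (c * t) := by group
        rw [e]
        exact Subgroup.mul_mem _
          ((le_sup_right : Subgroup.centralizer ((Subgroup.normalClosure (X' : Set L) : Subgroup L) : Set L) ≤
            D ⊔ Subgroup.centralizer ((Subgroup.normalClosure (X' : Set L) : Subgroup L) : Set L))
            (Subgroup.inv_mem _ hc))
          ((le_sup_left : D ≤ D ⊔ Subgroup.centralizer
            ((Subgroup.normalClosure (X' : Set L) : Subgroup L) : Set L)) hd)
      exact Subgroup.mul_mem _ (hCX hc) (hE htE)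
    have hCDn : (Subgroup.centralizer (D : Set L)).Normal := inferInstance
    have hVD : Subgroup.normalClosure (X' : Set L) ≤ Subgroup.centralizer (D : Set L) :=
      Subgroup.normalClosure_le_normal (Subgroup.le_centralizer_iff.mp hDX)
    exact Subgroup.le_centralizer_iff.mp hVD

end Cfsg.Agent.Lib.Helper47
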