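import Mathlib

set_option autoImplicit false

namespace Cfsg.Agent.Lib.Helper47

open scoped IsMulCommutative in
/-- The norm (relative trace) argument: if `V` is a normal abelian subgroup of the finite group
`L`, `[L, V] ⊆ W`, and `z ∈ V` is centralized by `S`, then some `L`-central `c ∈ V` is congruent
to `z ^ |L : S|` modulo `W`. -/
theorem exists_fixed_norm {L : Type*} [Group L] [Finite L] (V : Subgroup L) [hVn : V.Normal]
    (hVc : ∀ a ∈ V, ∀ b ∈ V, a * b = b * a) (S W : Subgroup L)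
    (hW : ∀ l : L, ∀ v ∈ V, l * v * l⁻¹ * v⁻¹ ∈ W) {z : L} (hz : z ∈ V)
    (hzS : ∀ s ∈ S, s * z = z * s) :
    ∃ c ∈ V, (∀ l : L, l * c * l⁻¹ = c) ∧ c * (z ^ S.index)⁻¹ ∈ W := by
  classical
  have : IsMulCommutative ↥V := ⟨⟨fun a b => Subtype.ext (hVc a a.2 b b.2)⟩⟩
  let _ : Fintype (L ⧸ S) := Fintype.ofFinite _
  let cj : L → ↥V →* ↥V := fun l =>
    MonoidHom.mk' (fun v => ⟨l * v * l⁻¹, hVn.conj_mem v v.2 l⟩) (by
      intro a b
      apply Subtype.ext
      simp [mul_assoc])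
  have hcj : ∀ (l : L) (v : ↥V), ((cj l v : ↥V) : L) = l * v * l⁻¹ := fun l v => rfl
  let f : L ⧸ S → ↥V := fun q => Quotient.liftOn' q (fun l => cj l ⟨z, hz⟩) (by
    intro a b hab
    rw [QuotientGroup.leftRel_apply] at hab
    apply Subtype.ext
    rw [hcj, hcj]
    have h1 := hzS _ hab
    have h2 : b * z * b⁻¹ = a * (a⁻¹ * b * z) * b⁻¹ := by group
    show a * z * a⁻¹ = b * z * b⁻¹
    rw [h2, h1]
    group)
  have hf : ∀ a : L, f (QuotientGroup.mk a) = cj a ⟨z, hz⟩ := fun a => rfl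
  refine ⟨((∏ q : L ⧸ S, f q : ↥V) : L), (∏ q : L ⧸ S, f q : ↥V).2, ?_, ?_⟩
  · intro l
    have h1 : cj l (∏ q : L ⧸ S, f q) = ∏ q : L ⧸ S, f q := by
      rw [map_prod]
      refine Fintype.prod_equiv (MulAction.toPerm l) _ _ (fun q => ?_)
      induction q using QuotientGroup.induction_on with
      | H a =>
        have h2 : (MulAction.toPerm l) (QuotientGroup.mk a : L ⧸ S) = QuotientGroup.mk (l * a) := rfl
        rw [h2, hf, hf]
        apply Subtype.ext
        rw [hcj, hcj, hcj]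
        simp [mul_assoc]
    have h3 := congrArg Subtype.val h1
    rw [hcj] at h3
    exact h3
  · have h2 : ∀ q : L ⧸ S, f q * (⟨z, hz⟩ : ↥V)⁻¹ ∈ W.subgroupOf V := by
      intro q
      induction q using QuotientGroup.induction_on with
      | H a =>
        rw [hf, Subgroup.mem_subgroupOf]
        exact hW a z hz
    have h3 : (∏ q : L ⧸ S, f q * (⟨z, hz⟩ : ↥V)⁻¹) ∈ W.subgroupOf V :=
      Subgroup.prod_mem _ (fun q _ => h2 q)
    rw [Finset.prod_mul_distrib, Finset.prod_const, Finset.card_univ] at h3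
    have hcard : Fintype.card (L ⧸ S) = S.index := by
      rw [Subgroup.index, Nat.card_eq_fintype_card]
    rw [hcard, Subgroup.mem_subgroupOf] at h3
    simpa using h3

end Cfsg.Agent.Lib.Helper47
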