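import Mathlib
import Cfsg.Agent.Lib.Helper47.ZL
import Cfsg.Agent.Lib.Helper47.Norm
import Cfsg.Agent.Lib.Helper47.Comm

set_option autoImplicit false

namespace Cfsg.Agent.Lib.Helper47

open scoped commutatorElement

theorem omegaOne_map_conj {G : Type*} [Group G] (p : ℕ) (K : Subgroup G) (g : G) :
    (Cfsg.omegaOne p K).map (MulAut.conj g).toMonoidHom =
      Cfsg.omegaOne p (K.map (MulAut.conj g).toMonoidHom) := by
  apply le_antisymm (omegaOne_map_conj_le p K g)
  have h := omegaOne_map_conj_le p (K.map (MulAut.conj g).toMonoidHom) g⁻¹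
  rw [map_conj_inv_map_conj] at h
  have h2 := Subgroup.map_mono (f := (MulAut.conj g).toMonoidHom) h
  rwa [map_conj_map_conj_inv] at h2

theorem isElementaryAbelian_sylowCenterClosure {H : Type*} [Group H] {p : ℕ} [Fact p.Prime]
    (L : Subgroup H)
    (hL : Subgroup.centralizer (Cfsg.pCore p ↥L : Set ↥L) ≤ Cfsg.pCore p ↥L) :
    Cfsg.IsElementaryAbelian p (Cfsg.sylowCenterClosure p L) := by
  have hle := sylowCenterClosure_le_omegaOne L hL
  have hW := isElementaryAbelian_omegaOne p (Cfsg.pCoreOf p L ⊓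
    Subgroup.centralizer ((Cfsg.pCoreOf p L : Subgroup H) : Set H)) (by
      rintro a ⟨ha, -⟩ b ⟨-, hb⟩
      exact (Subgroup.mem_centralizer_iff.mp hb) a ha)
  rw [isElementaryAbelian_iff] at hW ⊢
  exact ⟨fun a ha b hb => hW.1 a (hle ha) b (hle hb), fun a ha => hW.2 a (hle ha)⟩

/-- Every Sylow `p`-subgroup is an `O^p`-conjugate of a given one. -/
theorem exists_mem_pResidual_smul_eq {L : Type*} [Group L] [Finite L] {p : ℕ} [Fact p.Prime]
    (T S : Sylow p L) : ∃ r ∈ Cfsg.pResidual p L, r • T = S := by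
  obtain ⟨l, hl⟩ := MulAction.exists_smul_eq L T S
  have htop := pResidual_sup_sylow T
  have hn := pResidual_normal p L
  have hl' : l ∈ ((Cfsg.pResidual p L ⊔ (T : Subgroup L) : Subgroup L) : Set L) := by
    rw [htop]; trivial
  rw [Subgroup.normal_mul] at hl'
  obtain ⟨r, hr, t, ht, rfl⟩ := hl'
  refine ⟨r, hr, ?_⟩
  rw [← hl, mul_smul]
  congr 1
  exact (Sylow.smul_eq_iff_mem_normalizer.mpr (Subgroup.le_normalizer ht)).symm

theorem sylow_smul_map_subtype {H : Type*} [Group H] {p : ℕ} (L : Subgroup H) (l : ↥L)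
    (S : Sylow p ↥L) :
    ((l • S : Sylow p L) : Subgroup L).map L.subtype =
      ((S : Subgroup L).map L.subtype).map (MulAut.conj (l : H)).toMonoidHom := by
  rw [sylow_smul_coe, Subgroup.map_map, Subgroup.map_map]
  rfl

/-- `L` normalizes `[K, Y]` when it normalizes `K` and `Y`. -/
theorem le_normalizer_commutator_of_le {H : Type*} [Group H] {K Y L : Subgroup H}
    (hK : L ≤ Subgroup.normalizer (K : Set H)) (hY : L ≤ Subgroup.normalizer (Y : Set H)) :
    L ≤ Subgroup.normalizer ((⁅K, Y⁆ : Subgroup H) : Set H) := by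
  apply le_normalizer_of_conj_mem
  intro l hl n hn
  have h1 : (⁅K, Y⁆ : Subgroup H).map (MulAut.conj l).toMonoidHom = ⁅K, Y⁆ := by
    rw [Subgroup.map_commutator, map_conj_eq_of_mem_normalizer (hK hl),
      map_conj_eq_of_mem_normalizer (hY hl)]
  have h2 : (MulAut.conj l).toMonoidHom n ∈ (⁅K, Y⁆ : Subgroup H).map (MulAut.conj l).toMonoidHom :=
    ⟨n, hn, rfl⟩
  rw [h1] at h2
  exact h2

/-- `O^p(L) T = L` in the ambient group. -/
theorem pResidual_map_sup_sylow {H : Type*} [Group H] [Finite H] {p : ℕ} [Fact p.Prime]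
    (T : Sylow p H) (L : Subgroup H) (hTL : (T : Subgroup H) ≤ L) :
    (Cfsg.pResidual p ↥L).map L.subtype ⊔ (T : Subgroup H) = L := by
  have h := pResidual_sup_sylow (T.subtype hTL)
  have h2 := congrArg (Subgroup.map L.subtype) h
  rw [Subgroup.map_sup, Sylow.coe_subtype, Subgroup.subgroupOf_map_subtype, inf_of_le_left hTL,
    ← MonoidHom.range_eq_map, Subgroup.range_subtype] at h2
  exact h2

/-- Structure of `Z_L` in a group of characteristic `p`. -/
theorem sylowCenterClosure_structure {H : Type*} [Group H] [Finite H] {p : ℕ} [Fact p.Prime]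
    (T : Sylow p H) (L : Subgroup H) (hTL : (T : Subgroup H) ≤ L)
    (hL : Subgroup.centralizer (Cfsg.pCore p ↥L : Set ↥L) ≤ Cfsg.pCore p ↥L) :
    Cfsg.sylowCenterClosure p L =
        (Cfsg.omegaOne p (L ⊓ Subgroup.centralizer ((L : Subgroup H) : Set H))) ⊔
          ⁅Cfsg.sylowCenterClosure p L, (Cfsg.pResidual p ↥L).map L.subtype⁆ ∧
      ⁅Cfsg.sylowCenterClosure p L, L⁆ =
        ⁅Cfsg.sylowCenterClosure p L, (Cfsg.pResidual p ↥L).map L.subtype⁆ := by
  have hp : p.Prime := Fact.out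
  have hVL : Cfsg.sylowCenterClosure p L ≤ L := sylowCenterClosure_le p L
  have hLV := le_normalizer_sylowCenterClosure p L
  have hVel := isElementaryAbelian_sylowCenterClosure L hL
  rw [isElementaryAbelian_iff] at hVel
  have hRL : (Cfsg.pResidual p ↥L).map L.subtype ≤ L := by
    rintro _ ⟨x, -, rfl⟩; exact x.2
  have hRn := pResidual_normal p ↥L
  have hLR : L ≤ Subgroup.normalizer (((Cfsg.pResidual p ↥L).map L.subtype : Subgroup H) : Set H) :=
    le_normalizer_map_subtype (Cfsg.pResidual p ↥L)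
  have hWV : ⁅Cfsg.sylowCenterClosure p L, (Cfsg.pResidual p ↥L).map L.subtype⁆ ≤
      Cfsg.sylowCenterClosure p L :=
    commutator_le_of_le_normalizer (hRL.trans hLV) le_rfl
  have hLW := le_normalizer_commutator_of_le hLV hLR
  have hRT := pResidual_map_sup_sylow T L hTL
  have eT : ((T.subtype hTL : Sylow p L) : Subgroup L).map L.subtype = (T : Subgroup H) := by
    rw [Sylow.coe_subtype, Subgroup.subgroupOf_map_subtype, inf_of_le_left hTL]
  have hZ₀V : Cfsg.omegaOne p ((T : Subgroup H) ⊓ Subgroup.centralizer ((T : Subgroup H) : Set H)) ≤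
      Cfsg.sylowCenterClosure p L := by
    have h := omegaOne_sylow_le_sylowCenterClosure p L (T.subtype hTL)
    rw [eT] at h
    exact h
  -- Step 1
  have hVZW : Cfsg.sylowCenterClosure p L ≤
      Cfsg.omegaOne p ((T : Subgroup H) ⊓ Subgroup.centralizer ((T : Subgroup H) : Set H)) ⊔
        ⁅Cfsg.sylowCenterClosure p L, (Cfsg.pResidual p ↥L).map L.subtype⁆ := by
    conv_lhs => unfold Cfsg.sylowCenterClosure
    refine iSup_le (fun S => ?_)
    obtain ⟨r, hr, hrS⟩ := exists_mem_pResidual_smul_eq (T.subtype hTL) S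
    have e1 : (S : Subgroup L).map L.subtype =
        (T : Subgroup H).map (MulAut.conj (r : H)).toMonoidHom := by
      rw [← hrS, sylow_smul_map_subtype, eT]
    rw [e1, centralizer_map_conj, ← Subgroup.map_inf _ _ _ (MulAut.conj (r : H)).injective,
      ← omegaOne_map_conj]
    rintro _ ⟨z, hz, rfl⟩
    have hrR : (r : H) ∈ (Cfsg.pResidual p ↥L).map L.subtype := ⟨r, hr, rfl⟩
    have hc : ⁅(r : H), z⁆ ∈ ⁅Cfsg.sylowCenterClosure p L, (Cfsg.pResidual p ↥L).map L.subtype⁆ := by
      rw [Subgroup.commutator_comm]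
      exact Subgroup.commutator_mem_commutator hrR (hZ₀V hz)
    have e2 : (MulAut.conj (r : H)).toMonoidHom z = ⁅(r : H), z⁆ * z := by
      simp [commutatorElement_def]
    rw [e2]
    exact Subgroup.mul_mem _ (le_sup_right (a := Cfsg.omegaOne p ((T : Subgroup H) ⊓
      Subgroup.centralizer ((T : Subgroup H) : Set H))) hc) (le_sup_left (b := ⁅Cfsg.sylowCenterClosure p L,
        (Cfsg.pResidual p ↥L).map L.subtype⁆) hz)
  -- Step 2
  have hVT : ⁅Cfsg.sylowCenterClosure p L, (T : Subgroup H)⁆ ≤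
      ⁅Cfsg.sylowCenterClosure p L, (Cfsg.pResidual p ↥L).map L.subtype⁆ := by
    rw [Subgroup.commutator_le]
    intro v hv t ht
    have hv' : v ∈ ((Cfsg.omegaOne p ((T : Subgroup H) ⊓ Subgroup.centralizer ((T : Subgroup H) : Set H)) ⊔
        ⁅Cfsg.sylowCenterClosure p L, (Cfsg.pResidual p ↥L).map L.subtype⁆ : Subgroup H) : Set H) :=
      hVZW hv
    rw [Subgroup.coe_mul_of_left_le_normalizer_right _ _ ((hZ₀V.trans hVL).trans hLW)] at hv'
    obtain ⟨z, hz, w, hw, rfl⟩ := hv'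
    have hzc : z ∈ (T : Subgroup H) ⊓ Subgroup.centralizer ((T : Subgroup H) : Set H) :=
      omegaOne_le p _ hz
    have hzt : t * z = z * t := (Subgroup.mem_centralizer_iff.mp hzc.2) t ht
    have htw : t * w⁻¹ * t⁻¹ ∈ ⁅Cfsg.sylowCenterClosure p L, (Cfsg.pResidual p ↥L).map L.subtype⁆ :=
      (Subgroup.mem_normalizer_iff.mp (hLW (hTL ht)) w⁻¹).mp (Subgroup.inv_mem _ hw)
    have hzn := hLW (hVL (hZ₀V hz))
    have e : ⁅z * w, t⁆ = z * (w * (t * w⁻¹ * t⁻¹)) * z⁻¹ := by
      have h3 : z * t * z⁻¹ * t⁻¹ = 1 := by rw [← hzt]; group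
      have h4 : ⁅z * w, t⁆ = z * (w * (t * w⁻¹ * t⁻¹)) * z⁻¹ * (z * t * z⁻¹ * t⁻¹) := by
        simp only [commutatorElement_def]; group
      rw [h4, h3, mul_one]
    rw [e]
    exact (Subgroup.mem_normalizer_iff.mp hzn _).mp (Subgroup.mul_mem _ hw htw)
  have hVLW : ⁅Cfsg.sylowCenterClosure p L, L⁆ ≤
      ⁅Cfsg.sylowCenterClosure p L, (Cfsg.pResidual p ↥L).map L.subtype⁆ := by
    have h1 : ⁅Cfsg.sylowCenterClosure p L, (Cfsg.pResidual p ↥L).map L.subtype ⊔ (T : Subgroup H)⁆ ≤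
        ⁅Cfsg.sylowCenterClosure p L, (Cfsg.pResidual p ↥L).map L.subtype⁆ := by
      rw [commutator_sup_right _ _ _ (hRL.trans hLV) (hTL.trans hLV)]
      exact sup_le le_rfl hVT
    rw [hRT] at h1
    exact h1
  refine ⟨?_, le_antisymm hVLW (Subgroup.commutator_mono le_rfl hRL)⟩
  -- Step 3
  have hZLT : L ⊓ Subgroup.centralizer ((L : Subgroup H) : Set H) ≤
      (T : Subgroup H) ⊓ Subgroup.centralizer ((T : Subgroup H) : Set H) := by
    refine le_inf ?_ (inf_le_right.trans (Subgroup.centralizer_le hTL))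
    rintro x ⟨hxL, hxC⟩
    have h1 : (⟨x, hxL⟩ : ↥L) ∈ Subgroup.centralizer (Cfsg.pCore p ↥L : Set ↥L) := by
      rw [Subgroup.mem_centralizer_iff]
      intro o _
      exact Subtype.ext ((Subgroup.mem_centralizer_iff.mp hxC) (o : H) o.2)
    exact pCoreOf_le_sylow T hTL ⟨⟨x, hxL⟩, hL h1, rfl⟩
  apply le_antisymm
  · refine hVZW.trans (sup_le ?_ le_sup_right)
    conv_lhs => unfold Cfsg.omegaOne
    rw [Subgroup.closure_le]
    rintro z ⟨hz, hzp⟩
    have hzZ₀ : z ∈ Cfsg.omegaOne p ((T : Subgroup H) ⊓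
        Subgroup.centralizer ((T : Subgroup H) : Set H)) := Subgroup.subset_closure ⟨hz, hzp⟩
    have hzV := hZ₀V hzZ₀
    have hVn : ((Cfsg.sylowCenterClosure p L).subgroupOf L).Normal :=
      (Subgroup.normal_subgroupOf_iff_le_normalizer hVL).mpr hLV
    obtain ⟨c, hc, hfix, hcw⟩ := exists_fixed_norm ((Cfsg.sylowCenterClosure p L).subgroupOf L)
      (fun a ha b hb => Subtype.ext (hVel.1 a (Subgroup.mem_subgroupOf.mp ha) b
        (Subgroup.mem_subgroupOf.mp hb)))
      ((T.subtype hTL : Sylow p L) : Subgroup L)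
      ((⁅Cfsg.sylowCenterClosure p L, (Cfsg.pResidual p ↥L).map L.subtype⁆).subgroupOf L)
      (by
        intro l v hv
        rw [Subgroup.mem_subgroupOf]
        have h1 : ⁅(l : H), (v : H)⁆ ∈ ⁅L, Cfsg.sylowCenterClosure p L⁆ :=
          Subgroup.commutator_mem_commutator l.2 (Subgroup.mem_subgroupOf.mp hv)
        rw [Subgroup.commutator_comm] at h1
        have h2 := hVLW h1
        simpa [commutatorElement_def] using h2)
      (z := ⟨z, hVL hzV⟩) (Subgroup.mem_subgroupOf.mpr hzV)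
      (by
        intro s hs
        rw [Sylow.coe_subtype] at hs
        exact Subtype.ext ((Subgroup.mem_centralizer_iff.mp hz.2) (s : H)
          (Subgroup.mem_subgroupOf.mp hs)))
    have hcΩ : (c : H) ∈ Cfsg.omegaOne p (L ⊓ Subgroup.centralizer ((L : Subgroup H) : Set H)) := by
      apply Subgroup.subset_closure
      refine ⟨Subgroup.mem_inf.mpr ⟨c.2, ?_⟩, hVel.2 _ (Subgroup.mem_subgroupOf.mp hc)⟩
      rw [Subgroup.mem_centralizer_iff]
      intro l hl
      have h1 := congrArg Subtype.val (hfix ⟨l, hl⟩)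
      have h2 : l * (c : H) * l⁻¹ = (c : H) := by simpa using h1
      calc l * (c : H) = l * (c : H) * l⁻¹ * l := by group
        _ = (c : H) * l := by rw [h2]
    have hcw' : (c : H) * (z ^ ((T.subtype hTL : Sylow p L) : Subgroup L).index)⁻¹ ∈
        ⁅Cfsg.sylowCenterClosure p L, (Cfsg.pResidual p ↥L).map L.subtype⁆ := by
      have h1 := Subgroup.mem_subgroupOf.mp hcw
      simpa using h1
    have hzn : z ^ ((T.subtype hTL : Sylow p L) : Subgroup L).index ∈
        Cfsg.omegaOne p (L ⊓ Subgroup.centralizer ((L : Subgroup H) : Set H)) ⊔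
          ⁅Cfsg.sylowCenterClosure p L, (Cfsg.pResidual p ↥L).map L.subtype⁆ := by
      have e : z ^ ((T.subtype hTL : Sylow p L) : Subgroup L).index =
          ((c : H) * (z ^ ((T.subtype hTL : Sylow p L) : Subgroup L).index)⁻¹)⁻¹ * (c : H) := by
        group
      rw [e]
      exact Subgroup.mul_mem _ (Subgroup.inv_mem _ (le_sup_right (a := Cfsg.omegaOne p (L ⊓
        Subgroup.centralizer ((L : Subgroup H) : Set H))) hcw'))
        (le_sup_left (b := ⁅Cfsg.sylowCenterClosure p L, (Cfsg.pResidual p ↥L).map L.subtype⁆) hcΩ)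
    have hcop : Nat.Coprime ((T.subtype hTL : Sylow p L) : Subgroup L).index (orderOf z) := by
      have h1 : ¬ p ∣ ((T.subtype hTL : Sylow p L) : Subgroup L).index :=
        Sylow.not_dvd_index (T.subtype hTL)
      have h2 : Nat.Coprime p ((T.subtype hTL : Sylow p L) : Subgroup L).index :=
        (Nat.Prime.coprime_iff_not_dvd hp).2 h1
      exact Nat.Coprime.coprime_dvd_right (orderOf_dvd_of_pow_eq_one hzp) h2.symm
    obtain ⟨m, hm⟩ := exists_pow_eq_self_of_coprime hcop
    rw [← hm]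
    exact Subgroup.pow_mem _ hzn m
  · exact sup_le ((omegaOne_mono p hZLT).trans hZ₀V) hWV

end Cfsg.Agent.Lib.Helper47
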