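import Mathlib
import Cfsg.Agent.Lib.Helper47.NClosure
import Cfsg.Agent.Lib.Helper47.ZL2

set_option autoImplicit false

namespace Cfsg.Agent.Lib.Helper47

theorem normalizer_inf_le_normalizer_sup {G : Type*} [Group G] (P C : Subgroup G) :
    Subgroup.normalizer (P : Set G) ⊓ Subgroup.normalizer (C : Set G) ≤
      Subgroup.normalizer ((P ⊔ C : Subgroup G) : Set G) := by
  apply le_normalizer_of_conj_mem
  rintro s ⟨hsP, hsC⟩ n hn
  have h1 : (P ⊔ C).map (MulAut.conj s).toMonoidHom = P ⊔ C := by
    rw [Subgroup.map_sup, map_conj_eq_of_mem_normalizer hsP, map_conj_eq_of_mem_normalizer hsC]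
  have h2 : (MulAut.conj s).toMonoidHom n ∈ (P ⊔ C).map (MulAut.conj s).toMonoidHom := ⟨n, hn, rfl⟩
  rw [h1] at h2
  exact h2

/-- If `D ≤ N(C)` with `C ≤ K`-style hypotheses: every element of `D ⊔ C` has a `p`-power in `C`
when the elements of `D` have `p`-powers in `C` and `C` is normal. -/
theorem exists_pow_mem_of_mem_sup {G : Type*} [Group G] {p : ℕ} {D C : Subgroup G} [hC : C.Normal]
    (hD : ∀ d ∈ D, ∃ k : ℕ, d ^ (p ^ k) ∈ C) : ∀ e ∈ D ⊔ C, ∃ k : ℕ, e ^ (p ^ k) ∈ C := by
  intro e he
  have he' : e ∈ ((D ⊔ C : Subgroup G) : Set G) := he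
  rw [Subgroup.mul_normal] at he'
  obtain ⟨d, hd, c, hc, rfl⟩ := he'
  obtain ⟨k, hk⟩ := hD d hd
  have hdn : d ∈ Subgroup.normalizer (C : Set G) := by
    rw [Subgroup.normalizer_eq_top_iff.mpr hC]; exact Subgroup.mem_top d
  obtain ⟨c', hc', hpow⟩ := exists_pow_mul_eq hdn hc (p ^ k)
  exact ⟨k, by rw [hpow]; exact C.mul_mem hk hc'⟩

/-- Structure of the largest `p`-reduced normal subgroup `Y` of a group of characteristic `p`. -/
theorem largest_pReduced_structure {L : Type*} [Group L] [Finite L] {p : ℕ} [Fact p.Prime]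
    (hchar : Subgroup.centralizer (Cfsg.pCore p L : Set L) ≤ Cfsg.pCore p L) (T : Sylow p L)
    (Y : Subgroup L)
    (hY : Cfsg.IsPReducedNormal p Y ∧ ∀ V : Subgroup L, Cfsg.IsPReducedNormal p V → V ≤ Y) :
    (∀ g : L, ∃ a ∈ Subgroup.normalizer
        (((T : Subgroup L) ⊓ Subgroup.centralizer (Y : Set L) : Subgroup L) : Set L),
        ∃ c ∈ Subgroup.centralizer (Y : Set L), g = a * c) ∧
      Cfsg.pCoreOf p (Subgroup.normalizer
        (((T : Subgroup L) ⊓ Subgroup.centralizer (Y : Set L) : Subgroup L) : Set L)) =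
        (T : Subgroup L) ⊓ Subgroup.centralizer (Y : Set L) ∧
      Y = Cfsg.omegaOne p (((T : Subgroup L) ⊓ Subgroup.centralizer (Y : Set L)) ⊓
        Subgroup.centralizer ((((T : Subgroup L) ⊓ Subgroup.centralizer (Y : Set L) : Subgroup L)) : Set L)) := by
  obtain ⟨hYn, hYel, hYred⟩ := (isPReducedNormal_iff p Y).mp hY.1
  rw [isElementaryAbelian_iff] at hYel
  have hCn : (Subgroup.centralizer (Y : Set L)).Normal := inferInstance
  have hNCtop : Subgroup.normalizer ((Subgroup.centralizer (Y : Set L) : Subgroup L) : Set L) = ⊤ :=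
    Subgroup.normalizer_eq_top_iff.mpr hCn
  have hfr := normalizer_inf_sup_eq_top T (Subgroup.centralizer (Y : Set L))
  have hTN : (T : Subgroup L) ≤ Subgroup.normalizer
      (((T : Subgroup L) ⊓ Subgroup.centralizer (Y : Set L) : Subgroup L) : Set L) := by
    refine (le_inf Subgroup.le_normalizer ?_).trans Subgroup.inf_normalizer_le_normalizer_inf
    rw [hNCtop]; exact le_top
  have hTLp : IsPGroup p ((T : Subgroup L) ⊓ Subgroup.centralizer (Y : Set L) : Subgroup L) :=
    T.isPGroup'.to_le inf_le_left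
  -- a normal-in-`N(TL)` subgroup `D` whose elements have `p`-powers in `C(Y)` lies in `C(Y)`
  have key : ∀ D : Subgroup L, Subgroup.normalizer
      (((T : Subgroup L) ⊓ Subgroup.centralizer (Y : Set L) : Subgroup L) : Set L) ≤
        Subgroup.normalizer (D : Set L) →
      (∀ d ∈ D, ∃ k : ℕ, d ^ (p ^ k) ∈ Subgroup.centralizer (Y : Set L)) →
      D ≤ Subgroup.centralizer (Y : Set L) := by
    intro D hND hDp
    have hDCn : (D ⊔ Subgroup.centralizer (Y : Set L)).Normal := by
      apply Subgroup.normalizer_eq_top_iff.mp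
      apply top_le_iff.mp
      rw [← hfr]
      refine sup_le ?_ (le_sup_right.trans Subgroup.le_normalizer)
      refine (le_inf hND ?_).trans (normalizer_inf_le_normalizer_sup D _)
      rw [hNCtop]; exact le_top
    exact le_sup_left.trans (hYred _ hDCn (exists_pow_mem_of_mem_sup hDp))
  refine ⟨?_, ?_, ?_⟩
  · intro g
    have hg : g ∈ ((Subgroup.normalizer
        (((T : Subgroup L) ⊓ Subgroup.centralizer (Y : Set L) : Subgroup L) : Set L) ⊔
          Subgroup.centralizer (Y : Set L) : Subgroup L) : Set L) := by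
      rw [hfr]; trivial
    rw [Subgroup.mul_normal] at hg
    obtain ⟨a, ha, c, hc, rfl⟩ := hg
    exact ⟨a, ha, c, hc, rfl⟩
  · apply le_antisymm
    · refine le_inf (pCoreOf_le_sylow T hTN) ?_
      apply key _ (le_normalizer_pCoreOf p _)
      intro d hd
      obtain ⟨k, hk⟩ := pCoreOf_isPGroup p _ ⟨d, hd⟩
      have hk' : d ^ (p ^ k) = 1 := by simpa [Subtype.ext_iff] using hk
      exact ⟨k, by rw [hk']; exact Subgroup.one_mem _⟩
    · exact le_pCoreOf_normalizer hTLp
  · have hYT : Y ≤ (T : Subgroup L) ⊓ Subgroup.centralizer (Y : Set L) := by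
      refine le_inf ((le_pCore_of_isPReducedNormal hY.1).trans (pCore_le_sylow T)) ?_
      intro y hy
      rw [Subgroup.mem_centralizer_iff]
      intro z hz
      exact hYel.1 z hz y hy
    have hYC : Y ≤ Subgroup.centralizer
        ((((T : Subgroup L) ⊓ Subgroup.centralizer (Y : Set L) : Subgroup L)) : Set L) :=
      Subgroup.le_centralizer_iff.mp inf_le_right
    have hYU : Y ≤ Cfsg.omegaOne p (((T : Subgroup L) ⊓ Subgroup.centralizer (Y : Set L)) ⊓
        Subgroup.centralizer ((((T : Subgroup L) ⊓ Subgroup.centralizer (Y : Set L) : Subgroup L)) : Set L)) := by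
      intro y hy
      apply Subgroup.subset_closure
      exact ⟨Subgroup.mem_inf.mpr ⟨hYT hy, hYC hy⟩, hYel.2 y hy⟩
    apply le_antisymm hYU
    have hUTL := omegaOne_le p (((T : Subgroup L) ⊓ Subgroup.centralizer (Y : Set L)) ⊓
        Subgroup.centralizer ((((T : Subgroup L) ⊓ Subgroup.centralizer (Y : Set L) : Subgroup L)) : Set L))
    have hUN : Cfsg.omegaOne p (((T : Subgroup L) ⊓ Subgroup.centralizer (Y : Set L)) ⊓
        Subgroup.centralizer ((((T : Subgroup L) ⊓ Subgroup.centralizer (Y : Set L) : Subgroup L)) : Set L)) ≤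
        Subgroup.normalizer (((T : Subgroup L) ⊓ Subgroup.centralizer (Y : Set L) : Subgroup L) : Set L) :=
      (hUTL.trans inf_le_left).trans Subgroup.le_normalizer
    have hNU : Subgroup.normalizer (((T : Subgroup L) ⊓ Subgroup.centralizer (Y : Set L) : Subgroup L) : Set L) ≤
        Subgroup.normalizer ((Cfsg.omegaOne p (((T : Subgroup L) ⊓ Subgroup.centralizer (Y : Set L)) ⊓
        Subgroup.centralizer ((((T : Subgroup L) ⊓ Subgroup.centralizer (Y : Set L) : Subgroup L)) : Set L)) :
          Subgroup L) : Set L) := by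
      apply le_normalizer_of_conj_mem
      intro n hn u hu
      have h1 : (Cfsg.omegaOne p (((T : Subgroup L) ⊓ Subgroup.centralizer (Y : Set L)) ⊓
          Subgroup.centralizer ((((T : Subgroup L) ⊓ Subgroup.centralizer (Y : Set L) : Subgroup L)) : Set L))).map
          (MulAut.conj n).toMonoidHom =
          Cfsg.omegaOne p (((T : Subgroup L) ⊓ Subgroup.centralizer (Y : Set L)) ⊓
          Subgroup.centralizer ((((T : Subgroup L) ⊓ Subgroup.centralizer (Y : Set L) : Subgroup L)) : Set L)) := by
        rw [omegaOne_map_conj, Subgroup.map_inf _ _ _ (MulAut.conj n).injective, ← centralizer_map_conj,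
          map_conj_eq_of_mem_normalizer hn]
      have h2 : (MulAut.conj n).toMonoidHom u ∈ (Cfsg.omegaOne p (((T : Subgroup L) ⊓ Subgroup.centralizer (Y : Set L)) ⊓
          Subgroup.centralizer ((((T : Subgroup L) ⊓ Subgroup.centralizer (Y : Set L) : Subgroup L)) : Set L))).map
          (MulAut.conj n).toMonoidHom := ⟨u, hu, rfl⟩
      rw [h1] at h2
      exact h2
    have hTLU : (T : Subgroup L) ⊓ Subgroup.centralizer (Y : Set L) ≤
        Subgroup.centralizer ((Cfsg.omegaOne p (((T : Subgroup L) ⊓ Subgroup.centralizer (Y : Set L)) ⊓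
        Subgroup.centralizer ((((T : Subgroup L) ⊓ Subgroup.centralizer (Y : Set L) : Subgroup L)) : Set L)) :
          Subgroup L) : Set L) :=
      Subgroup.le_centralizer_iff.mp (hUTL.trans inf_le_right)
    have hCUY : Subgroup.centralizer ((Cfsg.omegaOne p (((T : Subgroup L) ⊓ Subgroup.centralizer (Y : Set L)) ⊓
        Subgroup.centralizer ((((T : Subgroup L) ⊓ Subgroup.centralizer (Y : Set L) : Subgroup L)) : Set L)) :
          Subgroup L) : Set L) ≤ Subgroup.centralizer (Y : Set L) :=
      Subgroup.centralizer_le hYU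
    have hUred : Cfsg.IsPReducedNormal p ((Cfsg.omegaOne p (((T : Subgroup L) ⊓ Subgroup.centralizer (Y : Set L)) ⊓
        Subgroup.centralizer ((((T : Subgroup L) ⊓ Subgroup.centralizer (Y : Set L) : Subgroup L)) : Set L))).subgroupOf
        (Subgroup.normalizer (((T : Subgroup L) ⊓ Subgroup.centralizer (Y : Set L) : Subgroup L) : Set L))) := by
      rw [isPReducedNormal_subgroupOf_iff p hUN]
      refine ⟨hNU, ?_, ?_⟩
      · apply isElementaryAbelian_omegaOne
        rintro a ⟨ha, -⟩ b ⟨-, hb⟩
        exact (Subgroup.mem_centralizer_iff.mp hb) a ha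
      · intro D hDN hND hDp
        have hDY : D ≤ Subgroup.centralizer (Y : Set L) := by
          apply key D hND
          intro d hd
          obtain ⟨k, hk⟩ := hDp d hd
          exact ⟨k, hCUY hk⟩
        have h3 := le_sup_sylow_map_of_pow_mem hDN hND _ hDp (T.subtype hTN)
        rw [Sylow.coe_subtype, Subgroup.subgroupOf_map_subtype, inf_of_le_left hTN] at h3
        intro d hd
        have hd' : d ∈ ((Subgroup.centralizer ((Cfsg.omegaOne p (((T : Subgroup L) ⊓ Subgroup.centralizer (Y : Set L)) ⊓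
            Subgroup.centralizer ((((T : Subgroup L) ⊓ Subgroup.centralizer (Y : Set L) : Subgroup L)) : Set L)) :
            Subgroup L) : Set L) ⊔ (T : Subgroup L) : Subgroup L) : Set L) := h3 hd
        rw [Subgroup.coe_mul_of_right_le_normalizer_left _ _
          ((hTN.trans hNU).trans (normalizer_le_normalizer_centralizer _))] at hd'
        obtain ⟨c, hc, t, ht, rfl⟩ := hd'
        have htY : t ∈ Subgroup.centralizer (Y : Set L) := by
          have e : t = c⁻¹ * (c * t) := by group
          rw [e]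
          exact Subgroup.mul_mem _ (Subgroup.inv_mem _ (hCUY hc)) (hDY hd)
        exact Subgroup.mul_mem _ hc (hTLU (Subgroup.mem_inf.mpr ⟨ht, htY⟩))
    have h4 := hY.2 _ (isPReducedNormal_normalClosure hchar T hTN hUN hUred)
    exact Subgroup.subset_normalClosure.trans h4

end Cfsg.Agent.Lib.Helper47
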