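import Mathlib
import Cfsg.Agent.Lib.Helper47.YL
import Cfsg.Agent.Lib.Helper47.Subn
import Cfsg.Agent.S2822

set_option autoImplicit false

namespace Cfsg.Agent.Lib.Helper47

theorem omegaOne_subgroupOf_map {H : Type*} [Group H] (p : ℕ) {K L : Subgroup H} (hKL : K ≤ L) :
    (Cfsg.omegaOne p (K.subgroupOf L)).map L.subtype = Cfsg.omegaOne p K := by
  unfold Cfsg.omegaOne
  rw [MonoidHom.map_closure]
  congr 1
  ext x
  constructor
  · rintro ⟨y, ⟨hy, hyp⟩, rfl⟩
    refine ⟨Subgroup.mem_subgroupOf.mp hy, ?_⟩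
    have := congrArg Subtype.val hyp
    simpa using this
  · rintro ⟨hx, hxp⟩
    exact ⟨⟨x, hKL hx⟩, ⟨Subgroup.mem_subgroupOf.mpr hx, Subtype.ext (by simpa using hxp)⟩, rfl⟩

/-- Characteristic `p` in ambient form. -/
theorem inf_centralizer_pCoreOf_le {H : Type*} [Group H] {p : ℕ} (L : Subgroup H)
    (hL : Subgroup.centralizer (Cfsg.pCore p ↥L : Set ↥L) ≤ Cfsg.pCore p ↥L) :
    L ⊓ Subgroup.centralizer ((Cfsg.pCoreOf p L : Subgroup H) : Set H) ≤ Cfsg.pCoreOf p L := by
  rintro x ⟨hxL, hxC⟩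
  refine ⟨⟨x, hxL⟩, hL ?_, rfl⟩
  rw [Subgroup.mem_centralizer_iff]
  intro o ho
  have := (Subgroup.mem_centralizer_iff.mp hxC) (o : H) ⟨o, ho, rfl⟩
  exact Subtype.ext this

/-- `Y_L = Ω₁(Z(C_T(Y_L)))` for `L` of characteristic `p` (ambient form). -/
theorem largestPReducedOf_eq_omegaOne {H : Type*} [Group H] [Finite H] {p : ℕ} [Fact p.Prime]
    (T : Sylow p H) (L : Subgroup H) (hTL : (T : Subgroup H) ≤ L)
    (hL : Subgroup.centralizer (Cfsg.pCore p ↥L : Set ↥L) ≤ Cfsg.pCore p ↥L) :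
    Cfsg.largestPReducedOf p L = Cfsg.omegaOne p
      (((T : Subgroup H) ⊓ Subgroup.centralizer ((Cfsg.largestPReducedOf p L : Subgroup H) : Set H)) ⊓
        Subgroup.centralizer ((((T : Subgroup H) ⊓
          Subgroup.centralizer ((Cfsg.largestPReducedOf p L : Subgroup H) : Set H) : Subgroup H)) : Set H)) := by
  have h := (largest_pReduced_structure hL (T.subtype hTL) (Cfsg.largestPReduced p ↥L)
    ⟨largestPReduced_isPReducedNormal p, fun V hV => le_largestPReduced hV⟩).2.2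
  have hYL := largestPReducedOf_le p L
  have e1 : ((T.subtype hTL : Sylow p L) : Subgroup L) ⊓
      Subgroup.centralizer ((Cfsg.largestPReduced p ↥L : Subgroup L) : Set L) =
      ((T : Subgroup H) ⊓ Subgroup.centralizer ((Cfsg.largestPReducedOf p L : Subgroup H) : Set H)).subgroupOf L := by
    ext x
    rw [Subgroup.mem_inf, Sylow.coe_subtype, Subgroup.mem_subgroupOf, Subgroup.mem_subgroupOf,
      Subgroup.mem_inf, ← largestPReducedOf_subgroupOf, mem_centralizer_subgroupOf_iff hYL]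
  have hT₀L : (T : Subgroup H) ⊓ Subgroup.centralizer ((Cfsg.largestPReducedOf p L : Subgroup H) : Set H) ≤ L :=
    inf_le_left.trans hTL
  have e2 : (((T.subtype hTL : Sylow p L) : Subgroup L) ⊓
      Subgroup.centralizer ((Cfsg.largestPReduced p ↥L : Subgroup L) : Set L)) ⊓
      Subgroup.centralizer ((((T.subtype hTL : Sylow p L) : Subgroup L) ⊓
      Subgroup.centralizer ((Cfsg.largestPReduced p ↥L : Subgroup L) : Set L) : Subgroup L) : Set L) =
      (((T : Subgroup H) ⊓ Subgroup.centralizer ((Cfsg.largestPReducedOf p L : Subgroup H) : Set H)) ⊓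
        Subgroup.centralizer ((((T : Subgroup H) ⊓
          Subgroup.centralizer ((Cfsg.largestPReducedOf p L : Subgroup H) : Set H) : Subgroup H)) : Set H)).subgroupOf L := by
    rw [e1]
    ext x
    rw [Subgroup.mem_inf, Subgroup.mem_subgroupOf, Subgroup.mem_subgroupOf, Subgroup.mem_inf,
      mem_centralizer_subgroupOf_iff hT₀L]
    simp only [Subgroup.mem_inf]
  rw [e2] at h
  have h2 := congrArg (Subgroup.map L.subtype) h
  rw [omegaOne_subgroupOf_map p (inf_le_left.trans hT₀L)] at h2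
  exact h2

/-- Ambient Frattini argument: `M = N_M(T ∩ C) (M ∩ C)` when `M ≥ T` normalizes `C`. -/
theorem le_inf_normalizer_sup_inf {H : Type*} [Group H] [Finite H] {p : ℕ} [Fact p.Prime]
    (T : Sylow p H) {M C : Subgroup H} (hTM : (T : Subgroup H) ≤ M)
    (hMC : M ≤ Subgroup.normalizer (C : Set H)) :
    M ≤ (M ⊓ Subgroup.normalizer (((T : Subgroup H) ⊓ C : Subgroup H) : Set H)) ⊔ (M ⊓ C) := by
  have hCn : (C.subgroupOf M).Normal := Subgroup.normal_subgroupOf_of_le_normalizer hMC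
  have hfr := normalizer_inf_sup_eq_top (T.subtype hTM) (C.subgroupOf M)
  rw [Sylow.coe_subtype] at hfr
  intro m hm
  have hm' : (⟨m, hm⟩ : ↥M) ∈ ((Subgroup.normalizer
      (((T : Subgroup H).subgroupOf M ⊓ C.subgroupOf M : Subgroup M) : Set M) ⊔
        C.subgroupOf M : Subgroup M) : Set M) := by rw [hfr]; trivial
  rw [Subgroup.mul_normal] at hm'
  obtain ⟨n, hn, c, hc, hnc⟩ := hm'
  have hnN : (n : H) ∈ Subgroup.normalizer (((T : Subgroup H) ⊓ C : Subgroup H) : Set H) := by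
    rw [Subgroup.mem_normalizer_iff]
    intro x
    constructor
    · intro hx
      have hxM : x ∈ M := hTM hx.1
      have h1 := (Subgroup.mem_normalizer_iff.mp hn ⟨x, hxM⟩).mp
        (Subgroup.mem_inf.mpr ⟨Subgroup.mem_subgroupOf.mpr hx.1, Subgroup.mem_subgroupOf.mpr hx.2⟩)
      have h2 := Subgroup.mem_inf.mp h1
      exact Subgroup.mem_inf.mpr ⟨Subgroup.mem_subgroupOf.mp h2.1, Subgroup.mem_subgroupOf.mp h2.2⟩
    · intro hx
      have hxM : x ∈ M := by
        have h0 : (n : H)⁻¹ * ((n : H) * x * (n : H)⁻¹) * (n : H) ∈ M :=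
          M.mul_mem (M.mul_mem (M.inv_mem n.2) (hTM hx.1)) n.2
        simpa [mul_assoc] using h0
      have h1 := (Subgroup.mem_normalizer_iff.mp hn ⟨x, hxM⟩).mpr
        (Subgroup.mem_inf.mpr ⟨Subgroup.mem_subgroupOf.mpr hx.1, Subgroup.mem_subgroupOf.mpr hx.2⟩)
      have h2 := Subgroup.mem_inf.mp h1
      exact Subgroup.mem_inf.mpr ⟨Subgroup.mem_subgroupOf.mp h2.1, Subgroup.mem_subgroupOf.mp h2.2⟩
  have e : m = (n : H) * (c : H) := by
    have h0 := congrArg Subtype.val hnc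
    simpa using h0.symm
  rw [e]
  exact Subgroup.mul_mem _
    ((le_sup_left : M ⊓ Subgroup.normalizer (((T : Subgroup H) ⊓ C : Subgroup H) : Set H) ≤ _)
      (Subgroup.mem_inf.mpr ⟨n.2, hnN⟩))
    ((le_sup_right : M ⊓ C ≤ _) (Subgroup.mem_inf.mpr ⟨c.2, Subgroup.mem_subgroupOf.mp hc⟩))

/-- Core of the transfer of `Y_L` to `N_M(C_T(Y_L))`. -/
theorem largestPReducedOf_transfer_core {H : Type*} [Group H] [Finite H] {p : ℕ} [Fact p.Prime]
    (T : Sylow p H) (L M Y : Subgroup H) (hTL : (T : Subgroup H) ≤ L) (hTM : (T : Subgroup H) ≤ M)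
    (hM : M ⊓ Subgroup.centralizer ((Cfsg.pCoreOf p M : Subgroup H) : Set H) ≤ Cfsg.pCoreOf p M)
    (hLY : L ≤ Subgroup.normalizer (Y : Set H)) (hEA : Cfsg.IsElementaryAbelian p Y)
    (hLred : ∀ D : Subgroup H, D ≤ L → L ≤ Subgroup.normalizer (D : Set H) →
        (∀ d ∈ D, ∃ k : ℕ, d ^ (p ^ k) ∈ Subgroup.centralizer (Y : Set H)) →
          D ≤ Subgroup.centralizer (Y : Set H))
    (hYT : Y ≤ (T : Subgroup H))
    (hYΩ : Y = Cfsg.omegaOne p (((T : Subgroup H) ⊓ Subgroup.centralizer (Y : Set H)) ⊓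
        Subgroup.centralizer ((((T : Subgroup H) ⊓ Subgroup.centralizer (Y : Set H) : Subgroup H)) : Set H)))
    (hfac : M ⊔ Subgroup.centralizer (Y : Set H) = L ⊔ Subgroup.centralizer (Y : Set H)) :
    Cfsg.largestPReducedOf p (M ⊓ Subgroup.normalizer
        ((((T : Subgroup H) ⊓ Subgroup.centralizer (Y : Set H) : Subgroup H)) : Set H)) = Y ∧
      L ⊔ Subgroup.centralizer (Y : Set H) =
        (M ⊓ Subgroup.normalizer ((((T : Subgroup H) ⊓ Subgroup.centralizer (Y : Set H) : Subgroup H)) : Set H)) ⊔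
          Subgroup.centralizer (Y : Set H) := by
  have hCN : Subgroup.centralizer (Y : Set H) ≤ Subgroup.normalizer (Y : Set H) :=
    Subgroup.centralizer_le_normalizer _
  have hMY : M ≤ Subgroup.normalizer (Y : Set H) := by
    have h1 : M ≤ L ⊔ Subgroup.centralizer (Y : Set H) := hfac ▸ le_sup_left
    exact h1.trans (sup_le hLY hCN)
  have hNC := normalizer_le_normalizer_centralizer Y
  have hTT₀ : (T : Subgroup H) ≤ Subgroup.normalizer
      ((((T : Subgroup H) ⊓ Subgroup.centralizer (Y : Set H) : Subgroup H)) : Set H) :=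
    (le_inf Subgroup.le_normalizer ((hTL.trans hLY).trans hNC)).trans
      Subgroup.inf_normalizer_le_normalizer_inf
  have hb : L ⊔ Subgroup.centralizer (Y : Set H) =
      (M ⊓ Subgroup.normalizer ((((T : Subgroup H) ⊓ Subgroup.centralizer (Y : Set H) : Subgroup H)) : Set H)) ⊔
        Subgroup.centralizer (Y : Set H) := by
    rw [← hfac]
    apply le_antisymm
    · refine sup_le ?_ le_sup_right
      refine (le_inf_normalizer_sup_inf T hTM (hMY.trans hNC)).trans ?_
      exact sup_le_sup_left inf_le_right _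
    · exact sup_le_sup_right inf_le_left _
  refine ⟨?_, hb⟩
  have hTLs : (T : Subgroup H) ≤ M ⊓ Subgroup.normalizer
      ((((T : Subgroup H) ⊓ Subgroup.centralizer (Y : Set H) : Subgroup H)) : Set H) := le_inf hTM hTT₀
  have hYLs := hYT.trans hTLs
  have hYM : Y ≤ M := hYT.trans hTM
  have hYredM := Cfsg.Agent.S2822.pReduced_transfer M L Y hYM hLY hEA hLred hfac
  have hYredLs := Cfsg.Agent.S2822.pReduced_transfer _ L Y hYLs hLY hEA hLred hb.symm
  have hOC : Cfsg.pCoreOf p M ≤ Subgroup.centralizer (Y : Set H) := by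
    rintro _ ⟨x, hx, rfl⟩
    exact (mem_centralizer_subgroupOf_iff hYM x).mp
      (pCore_le_centralizer_of_isPReducedNormal hYredM hx)
  have hOT₀ : Cfsg.pCoreOf p M ≤ (T : Subgroup H) ⊓ Subgroup.centralizer (Y : Set H) :=
    le_inf (pCoreOf_le_sylow T hTM) hOC
  have hT₀Ls : (T : Subgroup H) ⊓ Subgroup.centralizer (Y : Set H) ≤ M ⊓ Subgroup.normalizer
      ((((T : Subgroup H) ⊓ Subgroup.centralizer (Y : Set H) : Subgroup H)) : Set H) :=
    le_inf (inf_le_left.trans hTM) Subgroup.le_normalizer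
  have hT₀O := le_pCoreOf_of_le_normalizer (p := p) (T.isPGroup'.to_le inf_le_left) hT₀Ls inf_le_right
  have hYsC : Cfsg.largestPReducedOf p (M ⊓ Subgroup.normalizer
        ((((T : Subgroup H) ⊓ Subgroup.centralizer (Y : Set H) : Subgroup H)) : Set H)) ≤
      Subgroup.centralizer ((((T : Subgroup H) ⊓ Subgroup.centralizer (Y : Set H) : Subgroup H)) : Set H) :=
    Subgroup.le_centralizer_iff.mp (hT₀O.trans (pCoreOf_le_centralizer_largestPReducedOf p _))
  have hYsT₀ : Cfsg.largestPReducedOf p (M ⊓ Subgroup.normalizer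
        ((((T : Subgroup H) ⊓ Subgroup.centralizer (Y : Set H) : Subgroup H)) : Set H)) ≤
      (T : Subgroup H) ⊓ Subgroup.centralizer (Y : Set H) := by
    refine (le_inf ((largestPReducedOf_le p _).trans inf_le_left)
      (hYsC.trans (Subgroup.centralizer_le hOT₀))).trans (hM.trans hOT₀)
  apply le_antisymm
  · obtain ⟨-, hel, -⟩ := largestPReducedOf_spec p (M ⊓ Subgroup.normalizer
        ((((T : Subgroup H) ⊓ Subgroup.centralizer (Y : Set H) : Subgroup H)) : Set H))
    rw [isElementaryAbelian_iff] at hel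
    intro y hy
    rw [hYΩ]
    apply Subgroup.subset_closure
    exact ⟨Subgroup.mem_inf.mpr ⟨hYsT₀ hy, hYsC hy⟩, hel.2 y hy⟩
  · exact le_largestPReducedOf hYLs hYredLs

end Cfsg.Agent.Lib.Helper47
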