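import Mathlib
import Cfsg.Agent.Lib.Helper47.Basic

set_option autoImplicit false

namespace Cfsg.Agent.Lib.Helper47

theorem comap_map_mk' {G : Type*} [Group G] (N : Subgroup G) [N.Normal] {K : Subgroup G}
    (h : N ≤ K) : (K.map (QuotientGroup.mk' N)).comap (QuotientGroup.mk' N) = K :=
  Subgroup.comap_map_eq_self (by rw [QuotientGroup.ker_mk']; exact h)

theorem map_comap_mk' {G : Type*} [Group G] (N : Subgroup G) [N.Normal] (K : Subgroup (G ⧸ N)) :
    (K.comap (QuotientGroup.mk' N)).map (QuotientGroup.mk' N) = K :=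
  Subgroup.map_comap_eq_self_of_surjective (QuotientGroup.mk'_surjective N) K

theorem le_comap_mk' {G : Type*} [Group G] (N : Subgroup G) [N.Normal] (K : Subgroup (G ⧸ N)) :
    N ≤ K.comap (QuotientGroup.mk' N) := by
  intro x hx
  rw [Subgroup.mem_comap, QuotientGroup.mk'_apply, (QuotientGroup.eq_one_iff x).mpr hx]
  exact K.one_mem

/-- The image of a coatom containing `N` in `G ⧸ N` is a coatom. -/
theorem isCoatom_map_mk' {G : Type*} [Group G] (N : Subgroup G) [N.Normal] {M : Subgroup G}
    (hM : IsCoatom M) (hNM : N ≤ M) : IsCoatom (M.map (QuotientGroup.mk' N)) := by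
  refine ⟨?_, ?_⟩
  · intro h
    apply hM.1
    rw [← comap_map_mk' N hNM, h, Subgroup.comap_top]
  · intro K hK
    have h1 : M ≤ K.comap (QuotientGroup.mk' N) := by
      rw [← comap_map_mk' N hNM]
      exact Subgroup.comap_mono hK.le
    have h2 : M ≠ K.comap (QuotientGroup.mk' N) := by
      intro h
      apply hK.ne
      rw [h, map_comap_mk']
    have h3 := hM.2 _ (lt_of_le_of_ne h1 h2)
    rw [← map_comap_mk' N K, h3]
    exact Subgroup.map_top_of_surjective _ (QuotientGroup.mk'_surjective N)

/-- The preimage of a coatom of `G ⧸ N` is a coatom. -/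
theorem isCoatom_comap_mk' {G : Type*} [Group G] (N : Subgroup G) [N.Normal]
    {M : Subgroup (G ⧸ N)} (hM : IsCoatom M) : IsCoatom (M.comap (QuotientGroup.mk' N)) := by
  refine ⟨?_, ?_⟩
  · intro h
    apply hM.1
    rw [← map_comap_mk' N M, h]
    exact Subgroup.map_top_of_surjective _ (QuotientGroup.mk'_surjective N)
  · intro K hK
    have hNK : N ≤ K := (le_comap_mk' N M).trans hK.le
    have h1 : M ≤ K.map (QuotientGroup.mk' N) := by
      rw [← map_comap_mk' N M]
      exact Subgroup.map_mono hK.le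
    have h2 : M ≠ K.map (QuotientGroup.mk' N) := by
      intro h
      apply hK.ne
      rw [h, comap_map_mk' N hNK]
    have h3 := hM.2 _ (lt_of_le_of_ne h1 h2)
    rw [← comap_map_mk' N hNK, h3, Subgroup.comap_top]

end Cfsg.Agent.Lib.Helper47
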