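import Mathlib
import Cfsg.Agent.Lib.Helper47.PIrr
import Cfsg.Agent.Lib.Helper47.Syl
import Cfsg.Agent.Lib.Helper47.Quot

set_option autoImplicit false

namespace Cfsg.Agent.Lib.Helper47

/-- `H` is `p`-closed iff a Sylow `p`-subgroup lies in `O_p(H)`. -/
theorem isPClosed_iff_sylow_le_pCore {H : Type*} [Group H] {p : ℕ} [Fact p.Prime]
    (T : Sylow p H) : Cfsg.IsPClosed p H ↔ (T : Subgroup H) ≤ Cfsg.pCore p H := by
  constructor
  · intro h
    exact le_pCore (h T) T.isPGroup'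
  · intro h
    have e : (T : Subgroup H) = Cfsg.pCore p H := le_antisymm h (pCore_le_sylow T)
    have hn : (Cfsg.pCore p H).Normal := Subgroup.sSup_normal _ (fun _ h => h.1)
    exact isPClosed_of_normal_sylow T (e ▸ hn)

/-- A normal subgroup `N` is `p`-closed iff `T ∩ N ≤ O_p(H)`. -/
theorem isPClosed_normal_iff {H : Type*} [Group H] [Finite H] {p : ℕ} [Fact p.Prime]
    (T : Sylow p H) (N : Subgroup H) [hN : N.Normal] :
    Cfsg.IsPClosed p ↥N ↔ (T : Subgroup H) ⊓ N ≤ Cfsg.pCore p H := by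
  constructor
  · intro h
    exact le_pCore_of_isPClosed N h (T.isPGroup'.to_le inf_le_left) inf_le_right
  · intro h
    by_contra hcon
    apply not_normal_inf_of_not_isPClosed T N hcon
    have e : (T : Subgroup H) ⊓ N = Cfsg.pCore p H ⊓ N :=
      le_antisymm (le_inf h inf_le_right) (inf_le_inf_right _ (pCore_le_sylow T))
    have hn : (Cfsg.pCore p H).Normal := Subgroup.sSup_normal _ (fun _ h => h.1)
    rw [e]
    infer_instance

theorem map_pCore_le {H : Type*} [Group H] {p : ℕ} [Fact p.Prime] (D : Subgroup H) [D.Normal] :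
    (Cfsg.pCore p H).map (QuotientGroup.mk' D) ≤ Cfsg.pCore p (H ⧸ D) := by
  have hn : (Cfsg.pCore p H).Normal := Subgroup.sSup_normal _ (fun _ h => h.1)
  exact le_pCore (hn.map _ (QuotientGroup.mk'_surjective D)) ((pCore_isPGroup p H).map _)

theorem comap_pCore_le {H : Type*} [Group H] {p : ℕ} [Fact p.Prime] (D : Subgroup H) [D.Normal]
    (hD : IsPGroup p ↥D) :
    (Cfsg.pCore p (H ⧸ D)).comap (QuotientGroup.mk' D) ≤ Cfsg.pCore p H := by
  have hn : (Cfsg.pCore p (H ⧸ D)).Normal := Subgroup.sSup_normal _ (fun _ h => h.1)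
  apply le_pCore (hn.comap _)
  intro x
  obtain ⟨k, hk⟩ := pCore_isPGroup p (H ⧸ D) ⟨QuotientGroup.mk' D (x : H), x.2⟩
  have hk' : (QuotientGroup.mk' D (x : H)) ^ (p ^ k) = 1 := by
    simpa [Subtype.ext_iff] using hk
  have hxD : (x : H) ^ (p ^ k) ∈ D := by
    rw [← map_pow] at hk'
    exact (QuotientGroup.eq_one_iff _).mp hk'
  obtain ⟨j, hj⟩ := hD ⟨(x : H) ^ (p ^ k), hxD⟩
  have hj' : ((x : H) ^ (p ^ k)) ^ (p ^ j) = 1 := by simpa [Subtype.ext_iff] using hj
  refine ⟨k + j, Subtype.ext ?_⟩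
  simp only [Subgroup.coe_pow, Subgroup.coe_one]
  rw [pow_add, pow_mul]
  exact hj'

theorem le_pCore_of_normal_isPGroup {H : Type*} [Group H] {p : ℕ} (D : Subgroup H) [hDn : D.Normal]
    (hD : IsPGroup p ↥D) : D ≤ Cfsg.pCore p H := le_pCore hDn hD

theorem map_pResidual_le {H : Type*} [Group H] (p : ℕ) (D : Subgroup H) [D.Normal] :
    (Cfsg.pResidual p H).map (QuotientGroup.mk' D) ≤ Cfsg.pResidual p (H ⧸ D) := by
  unfold Cfsg.pResidual
  rw [MonoidHom.map_closure]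
  apply Subgroup.closure_mono
  rintro _ ⟨x, hx, rfl⟩
  exact Nat.Coprime.coprime_dvd_left (orderOf_map_dvd (QuotientGroup.mk' D) x) hx

theorem pResidual_le_map {H : Type*} [Group H] [Finite H] (p : ℕ) [Fact p.Prime]
    (D : Subgroup H) [D.Normal] :
    Cfsg.pResidual p (H ⧸ D) ≤ (Cfsg.pResidual p H).map (QuotientGroup.mk' D) := by
  have hp : p.Prime := Fact.out
  apply pResidual_le_of_forall
  intro xb hxb
  obtain ⟨x, rfl⟩ := QuotientGroup.mk'_surjective D xb
  have hpos : orderOf x ≠ 0 := (orderOf_pos x).ne'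
  obtain ⟨e, m, hm, hem⟩ := Nat.exists_eq_pow_mul_and_not_dvd hpos p hp.ne_one
  have h1 : (orderOf (x ^ (p ^ e))).Coprime p := by
    have h2 : orderOf (x ^ (p ^ e)) ∣ m := by
      apply orderOf_dvd_of_pow_eq_one
      rw [← pow_mul, ← hem, pow_orderOf_eq_one]
    exact Nat.Coprime.coprime_dvd_left h2 ((Nat.Prime.coprime_iff_not_dvd hp).2 hm).symm
  have h3 : x ^ (p ^ e) ∈ Cfsg.pResidual p H := Subgroup.subset_closure h1
  have h4 : (QuotientGroup.mk' D x) ^ (p ^ e) ∈ (Cfsg.pResidual p H).map (QuotientGroup.mk' D) :=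
    ⟨x ^ (p ^ e), h3, map_pow _ _ _⟩
  have hcop : (p ^ e).Coprime (orderOf (QuotientGroup.mk' D x)) :=
    Nat.Coprime.pow_left e (Nat.Coprime.symm hxb)
  obtain ⟨j, hj⟩ := exists_pow_eq_self_of_coprime hcop
  rw [← hj]
  exact Subgroup.pow_mem _ h4 j

/-- `H` is `p`-closed iff `H/D` is, for a normal `p`-subgroup `D`. -/
theorem isPClosed_quotient_iff {H : Type*} [Group H] [Finite H] {p : ℕ} [Fact p.Prime]
    (D : Subgroup H) [D.Normal] (hD : IsPGroup p ↥D) :
    Cfsg.IsPClosed p H ↔ Cfsg.IsPClosed p (H ⧸ D) := by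
  obtain ⟨T⟩ : Nonempty (Sylow p H) := inferInstance
  rw [isPClosed_iff_sylow_le_pCore T,
    isPClosed_iff_sylow_le_pCore (T.mapSurjective (QuotientGroup.mk'_surjective D)),
    Sylow.coe_mapSurjective]
  constructor
  · intro h
    exact (Subgroup.map_mono h).trans (map_pCore_le D)
  · intro h
    exact (Subgroup.map_le_iff_le_comap.mp h).trans (comap_pCore_le D hD)

/-- A normal subgroup of `H/D` is `p`-closed iff its preimage is. -/
theorem isPClosed_comap_iff {H : Type*} [Group H] [Finite H] {p : ℕ} [Fact p.Prime]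
    (D : Subgroup H) [D.Normal] (hD : IsPGroup p ↥D) (Nb : Subgroup (H ⧸ D)) [hNb : Nb.Normal] :
    Cfsg.IsPClosed p ↥(Nb.comap (QuotientGroup.mk' D)) ↔ Cfsg.IsPClosed p ↥Nb := by
  obtain ⟨T⟩ : Nonempty (Sylow p H) := inferInstance
  have hn : (Nb.comap (QuotientGroup.mk' D)).Normal := hNb.comap _
  rw [isPClosed_normal_iff T, isPClosed_normal_iff (T.mapSurjective (QuotientGroup.mk'_surjective D)),
    Sylow.coe_mapSurjective]
  constructor
  · intro h
    rintro xb ⟨⟨t, ht, rfl⟩, hxN⟩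
    exact map_pCore_le D ⟨t, h (Subgroup.mem_inf.mpr ⟨ht, Subgroup.mem_comap.mpr hxN⟩), rfl⟩
  · intro h x hx
    apply comap_pCore_le D hD
    rw [Subgroup.mem_comap]
    exact h (Subgroup.mem_inf.mpr ⟨⟨x, hx.1, rfl⟩, Subgroup.mem_comap.mp hx.2⟩)

/-- A normal subgroup of a `p`-closed normal subgroup is `p`-closed. -/
theorem isPClosed_of_le {H : Type*} [Group H] [Finite H] {p : ℕ} [Fact p.Prime]
    {N M : Subgroup H} [N.Normal] [M.Normal] (hNM : N ≤ M) (h : Cfsg.IsPClosed p ↥M) :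
    Cfsg.IsPClosed p ↥N := by
  obtain ⟨T⟩ : Nonempty (Sylow p H) := inferInstance
  rw [isPClosed_normal_iff T] at h ⊢
  exact (inf_le_inf_left _ hNM).trans h

/-- If `O^p(H) ≤ N D` with `D` a `p`-group then `O^p(H) ≤ N`. -/
theorem pResidual_le_of_le_sup {H : Type*} [Group H] {p : ℕ} [Fact p.Prime]
    {N D : Subgroup H} [N.Normal] (hD : IsPGroup p ↥D) (h : Cfsg.pResidual p H ≤ D ⊔ N) :
    Cfsg.pResidual p H ≤ N := by
  apply pResidual_le_of_forall
  intro x hx
  exact mem_of_mem_sup_of_coprime hD (h (Subgroup.subset_closure hx)) hx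

end Cfsg.Agent.Lib.Helper47
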