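import Mathlib
import Cfsg.Agent.Lib.Helper47.Minimal
import Cfsg.Agent.Lib.Helper47.Syl
import Cfsg.Agent.Lib.Helper47.QuotIrr
import Cfsg.Agent.Lib.Helper47.Subn

set_option autoImplicit false

namespace Cfsg.Agent.Lib.Helper47

/-- `Y`-minimal groups: for `N ⊴ L` inside the unique maximal subgroup `L₀` over `Y`, the Sylow
`p`-subgroup `S ∩ N` of `N` is normal in `L`. -/
theorem yMin_sylow_inf_le_pCore {L : Type*} [Group L] [Finite L] {p : ℕ} [Fact p.Prime]
    {L₀ Y : Subgroup L} (hL₀ : IsCoatom L₀)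
    (huniq : ∀ M : Subgroup L, IsCoatom M → Y ≤ M → M = L₀)
    (S : Sylow p L) (hYS : Y ≤ (S : Subgroup L)) (N : Subgroup L) [hNn : N.Normal] (hN : N ≤ L₀) :
    (S : Subgroup L) ⊓ N ≤ Cfsg.pCore p L := by
  have h1 := normalizer_inf_sup_eq_top S N
  have hYn : Y ≤ Subgroup.normalizer (((S : Subgroup L) ⊓ N : Subgroup L) : Set L) := by
    refine hYS.trans ?_
    apply le_normalizer_of_conj_mem
    intro s hs n hn
    exact ⟨(S : Subgroup L).mul_mem ((S : Subgroup L).mul_mem hs hn.1)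
      ((S : Subgroup L).inv_mem hs), hNn.conj_mem n hn.2 s⟩
  have htop : Subgroup.normalizer (((S : Subgroup L) ⊓ N : Subgroup L) : Set L) = ⊤ := by
    by_contra hne
    have h2 := le_of_unique_coatom huniq _ hYn hne
    have : (⊤ : Subgroup L) ≤ L₀ := h1 ▸ sup_le h2 hN
    exact hL₀.1 (top_le_iff.mp this)
  exact le_pCore (Subgroup.normalizer_eq_top_iff.mp htop) (S.isPGroup'.to_le inf_le_left)

/-- `Y`-minimal groups: `O_p(L) ≤ L₀`. -/
theorem yMin_pCore_le {L : Type*} [Group L] [Finite L] {p : ℕ} [Fact p.Prime]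
    {L₀ Y : Subgroup L} (hL₀ : IsCoatom L₀) (hY : IsPGroup p Y) (hYL₀ : Y ≤ L₀)
    (hncl : Subgroup.normalClosure (Y : Set L) = ⊤)
    (huniq : ∀ M : Subgroup L, IsCoatom M → Y ≤ M → M = L₀) : Cfsg.pCore p L ≤ L₀ := by
  obtain ⟨S, hS⟩ := hY.exists_le_sylow
  by_cases hS1 : (S : Subgroup L) = ⊤
  · exfalso
    have hLp : IsPGroup p L := by
      have h := S.isPGroup'
      rw [hS1] at h
      exact h.of_equiv Subgroup.topEquiv
    have hnil : Group.IsNilpotent L := hLp.isNilpotent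
    have hn : L₀.Normal :=
      Subgroup.NormalizerCondition.normal_of_coatom L₀ Group.normalizerCondition_of_isNilpotent hL₀
    exact hL₀.1 (eq_top_of_normal_of_le hncl L₀ hn hYL₀)
  · exact (pCore_le_sylow S).trans (le_of_unique_coatom huniq _ hS hS1)

/-- `Y`-minimal groups: the core of `L₀` lies in every maximal subgroup containing `O_p(L)`. -/
theorem yMin_normalCore_le_coatom {L : Type*} [Group L] [Finite L] {p : ℕ} [Fact p.Prime]
    {L₀ Y : Subgroup L} (hL₀ : IsCoatom L₀) (hY : IsPGroup p Y)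
    (huniq : ∀ M : Subgroup L, IsCoatom M → Y ≤ M → M = L₀)
    {M : Subgroup L} (hM : IsCoatom M) (hOM : Cfsg.pCore p L ≤ M) : L₀.normalCore ≤ M := by
  have hp : p.Prime := Fact.out
  by_contra hDM
  have htop : M ⊔ L₀.normalCore = ⊤ :=
    hM.2 _ (lt_of_le_of_ne le_sup_left (fun h => hDM (by rw [h]; exact le_sup_right)))
  obtain ⟨S, hS⟩ := hY.exists_le_sylow
  have hP : (S : Subgroup L) ⊓ L₀.normalCore ≤ Cfsg.pCore p L :=
    yMin_sylow_inf_le_pCore hL₀ huniq S hS L₀.normalCore (Subgroup.normalCore_le L₀)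
  have hPM : (S : Subgroup L) ⊓ L₀.normalCore ≤ M := hP.trans hOM
  obtain ⟨Q, hQ⟩ := exists_sylow_inf_normal S L₀.normalCore
  have h1 : ¬ p ∣ ((S : Subgroup L) ⊓ L₀.normalCore).relIndex L₀.normalCore := by
    rw [Subgroup.relIndex, ← hQ]; exact Q.not_dvd_index
  have h2 : ¬ p ∣ M.relIndex L₀.normalCore :=
    fun h => h1 (dvd_trans h (Subgroup.relIndex_dvd_of_le_left L₀.normalCore hPM))
  have h3 : M.index = M.relIndex L₀.normalCore := by
    have e1 : L₀.normalCore.index = (L₀.normalCore ⊓ M).relIndex M := by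
      rw [Subgroup.inf_relIndex_right, ← Subgroup.relIndex_sup_right M L₀.normalCore, htop,
        Subgroup.relIndex_top_right]
    have e2 := Subgroup.relIndex_mul_index (inf_le_right : L₀.normalCore ⊓ M ≤ M)
    have e3 := Subgroup.relIndex_mul_index (inf_le_left : L₀.normalCore ⊓ M ≤ L₀.normalCore)
    rw [← e1] at e2
    rw [Subgroup.inf_relIndex_left] at e3
    have hD0 : L₀.normalCore.index ≠ 0 := Subgroup.index_ne_zero_of_finite
    apply Nat.eq_of_mul_eq_mul_left (Nat.pos_of_ne_zero hD0)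
    rw [e2, mul_comm, e3]
  obtain ⟨SM⟩ : Nonempty (Sylow p ↥M) := inferInstance
  have h4 : ¬ p ∣ ((SM : Subgroup ↥M).map M.subtype).index := by
    rw [Subgroup.index_map_subtype, h3]
    exact Nat.Prime.not_dvd_mul hp SM.not_dvd_index h2
  obtain ⟨g, hg⟩ := exists_conj_le_sylow hY ((SM.isPGroup'.map M.subtype).toSylow h4)
  have hS'M : (((SM.isPGroup'.map M.subtype).toSylow h4 : Sylow p L) : Subgroup L) ≤ M := by
    rw [IsPGroup.toSylow_coe]; rintro _ ⟨x, -, rfl⟩; exact x.2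
  have hYg : Y ≤ M.map (MulAut.conj g⁻¹).toMonoidHom :=
    (map_conj_le_iff Y M g).mp (hg.trans hS'M)
  have hMg : M.map (MulAut.conj g⁻¹).toMonoidHom = L₀ :=
    huniq _ (isCoatom_map_conj hM g⁻¹) hYg
  apply hDM
  intro d hd
  have hd' : g⁻¹ * d * g⁻¹⁻¹ ∈ L₀.normalCore := (L₀.normalCore_normal).conj_mem d hd g⁻¹
  have hd'' := Subgroup.normalCore_le L₀ hd'
  rw [← hMg] at hd''
  obtain ⟨m, hm, e⟩ := hd''
  have : m = d := by
    simp only [MulEquiv.coe_toMonoidHom, MulAut.conj_apply] at e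
    exact mul_left_cancel (mul_right_cancel e)
  rw [← this]; exact hm

/-- `Y`-minimal groups: the core of `L₀` modulo `O_p(L)` is the Frattini subgroup. -/
theorem yMin_map_normalCore_eq_frattini {L : Type*} [Group L] [Finite L] {p : ℕ} [Fact p.Prime]
    {L₀ Y : Subgroup L} (hL₀ : IsCoatom L₀) (hY : IsPGroup p Y) (hO : Cfsg.pCore p L ≤ L₀)
    (huniq : ∀ M : Subgroup L, IsCoatom M → Y ≤ M → M = L₀) :
    (L₀.normalCore).map (QuotientGroup.mk' (Cfsg.pCore p L)) =
      frattini (L ⧸ Cfsg.pCore p L) := by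
  apply le_antisymm
  · rw [frattini, Order.radical]
    refine le_iInf₂ (fun Mb hMb => ?_)
    have hM : IsCoatom (Mb.comap (QuotientGroup.mk' (Cfsg.pCore p L))) :=
      Subgroup.isCoatom_comap_of_surjective (QuotientGroup.mk'_surjective _) hMb
    have hOM : Cfsg.pCore p L ≤ Mb.comap (QuotientGroup.mk' (Cfsg.pCore p L)) := by
      conv_lhs => rw [← QuotientGroup.ker_mk' (Cfsg.pCore p L)]
      exact Subgroup.ker_le_comap _ _
    have h := yMin_normalCore_le_coatom hL₀ hY huniq hM hOM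
    exact (Subgroup.map_mono h).trans (Subgroup.map_comap_le _ _)
  · have hFn : ((frattini (L ⧸ Cfsg.pCore p L)).comap
        (QuotientGroup.mk' (Cfsg.pCore p L))).Normal :=
      Subgroup.Normal.comap inferInstance _
    have hFL₀ : (frattini (L ⧸ Cfsg.pCore p L)).comap (QuotientGroup.mk' (Cfsg.pCore p L)) ≤
        L₀ := by
      by_contra hcon
      have htop : L₀ ⊔ (frattini (L ⧸ Cfsg.pCore p L)).comap
          (QuotientGroup.mk' (Cfsg.pCore p L)) = ⊤ :=
        hL₀.2 _ (lt_of_le_of_ne le_sup_left (fun h => hcon (by rw [h]; exact le_sup_right)))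
      have h1 : (L₀ ⊔ (frattini (L ⧸ Cfsg.pCore p L)).comap
          (QuotientGroup.mk' (Cfsg.pCore p L))).map (QuotientGroup.mk' (Cfsg.pCore p L)) = ⊤ := by
        rw [htop]; exact Subgroup.map_top_of_surjective _ (QuotientGroup.mk'_surjective _)
      rw [Subgroup.map_sup,
        Subgroup.map_comap_eq_self_of_surjective (QuotientGroup.mk'_surjective _)] at h1
      have h2 := frattini_nongenerating h1
      have h3 : L₀ ⊔ Cfsg.pCore p L = ⊤ := by
        have := congrArg (Subgroup.comap (QuotientGroup.mk' (Cfsg.pCore p L))) h2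
        rwa [Subgroup.comap_map_eq, QuotientGroup.ker_mk', Subgroup.comap_top] at this
      rw [sup_of_le_left hO] at h3
      exact hL₀.1 h3
    have hFD := Subgroup.normal_le_normalCore.mpr hFL₀
    calc frattini (L ⧸ Cfsg.pCore p L)
        = ((frattini (L ⧸ Cfsg.pCore p L)).comap (QuotientGroup.mk' (Cfsg.pCore p L))).map
            (QuotientGroup.mk' (Cfsg.pCore p L)) :=
          (Subgroup.map_comap_eq_self_of_surjective (QuotientGroup.mk'_surjective _) _).symm
      _ ≤ _ := Subgroup.map_mono hFD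

/-- Structure of the core of the maximal subgroup in a `Y`-minimal group. -/
theorem yMinimal_core_structure {L : Type*} [Group L] [Finite L] {p : ℕ} [Fact p.Prime]
    (L₀ : Subgroup L) (hL₀ : IsCoatom L₀) (T : Sylow p ↥L₀) (Y : Subgroup L)
    (hYT : Y ≤ (T : Subgroup ↥L₀).map L₀.subtype) (hmin : Cfsg.IsMinimalOver Y) :
    (Cfsg.pCore p L ≤ L₀.normalCore ∧
      (L₀.normalCore).map (QuotientGroup.mk' (Cfsg.pCore p L)) = frattini (L ⧸ Cfsg.pCore p L) ∧
      Cfsg.IsPClosed p ↥(L₀.normalCore)) ∧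
    ∀ (N : Subgroup L) [N.Normal], N ≤ L₀ →
      Cfsg.IsPClosed p ↥N ∧ Group.IsNilpotent (↥N ⧸ Cfsg.pCore p ↥N) ∧
        (Nat.card (↥N ⧸ Cfsg.pCore p ↥N)).Coprime p := by
  have hp : p.Prime := Fact.out
  have hY : IsPGroup p Y := (T.isPGroup'.map L₀.subtype).to_le hYT
  have hYL₀ : Y ≤ L₀ := hYT.trans (by rintro _ ⟨x, -, rfl⟩; exact x.2)
  have hncl := hmin.1
  have huniq : ∀ M : Subgroup L, IsCoatom M → Y ≤ M → M = L₀ := by
    obtain ⟨M₀, hM₀, hu⟩ := hmin.2
    intro M hM hYM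
    rw [hu M ⟨hM, hYM⟩, hu L₀ ⟨hL₀, hYL₀⟩]
  obtain ⟨S, hS⟩ := hY.exists_le_sylow
  have hcl : ∀ (N : Subgroup L) [N.Normal], N ≤ L₀ → Cfsg.IsPClosed p ↥N := fun N _ hN =>
    (isPClosed_normal_iff S N).mpr (yMin_sylow_inf_le_pCore hL₀ huniq S hS N hN)
  have hO := yMin_pCore_le hL₀ hY hYL₀ hncl huniq
  have hfr := yMin_map_normalCore_eq_frattini hL₀ hY hO huniq
  refine ⟨⟨Subgroup.normal_le_normalCore.mpr hO, hfr, hcl _ (Subgroup.normalCore_le L₀)⟩, ?_⟩
  intro N hNn hN
  have hNcl := hcl N hN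
  refine ⟨hNcl, ?_, ?_⟩
  · have hle : Cfsg.pCore p ↥N ≤ (Cfsg.pCore p L).comap N.subtype := by
      intro x hx
      exact pCoreOf_le_pCore_of_isSubnormal hNn.isSubnormal ⟨x, hx, rfl⟩
    have hψinj : Function.Injective
        (QuotientGroup.map (Cfsg.pCore p ↥N) (Cfsg.pCore p L) N.subtype hle) := by
      rw [← MonoidHom.ker_eq_bot_iff, eq_bot_iff]
      intro xb hxb
      obtain ⟨x, rfl⟩ := QuotientGroup.mk_surjective xb
      rw [MonoidHom.mem_ker, QuotientGroup.map_mk, QuotientGroup.eq_one_iff] at hxb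
      have h2 : ((Cfsg.pCore p L).subgroupOf N) ≤ Cfsg.pCore p ↥N :=
        le_pCore (Subgroup.Normal.comap inferInstance _)
          ((pCore_isPGroup p L).comap_of_injective N.subtype N.subtype_injective)
      rw [Subgroup.mem_bot, QuotientGroup.eq_one_iff]
      exact h2 (Subgroup.mem_subgroupOf.mpr hxb)
    have hψr : ∀ xb, QuotientGroup.map (Cfsg.pCore p ↥N) (Cfsg.pCore p L) N.subtype hle xb ∈
        frattini (L ⧸ Cfsg.pCore p L) := by
      intro xb
      obtain ⟨x, rfl⟩ := QuotientGroup.mk_surjective xb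
      rw [← hfr, QuotientGroup.map_mk]
      exact ⟨(x : L), Subgroup.normal_le_normalCore.mpr hN x.2, rfl⟩
    have : Group.IsNilpotent ↥(frattini (L ⧸ Cfsg.pCore p L)) := frattini_nilpotent
    refine Subgroup.isNilpotent_of_ker_le_center
      ((QuotientGroup.map (Cfsg.pCore p ↥N) (Cfsg.pCore p L) N.subtype hle).codRestrict _ hψr) ?_
    rw [MonoidHom.ker_codRestrict, (MonoidHom.ker_eq_bot_iff _).mpr hψinj]
    exact bot_le
  · obtain ⟨Q⟩ : Nonempty (Sylow p ↥N) := inferInstance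
    have hQ : (Q : Subgroup ↥N) ≤ Cfsg.pCore p ↥N := (isPClosed_iff_sylow_le_pCore Q).mp hNcl
    have h1 : (Cfsg.pCore p ↥N).index ∣ (Q : Subgroup ↥N).index := Subgroup.index_dvd_of_le hQ
    have h2 : ¬ p ∣ (Cfsg.pCore p ↥N).index := fun h => Q.not_dvd_index (dvd_trans h h1)
    rw [← Subgroup.index_eq_card]
    exact ((Nat.Prime.coprime_iff_not_dvd hp).mpr h2).symm

end Cfsg.Agent.Lib.Helper47
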