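import Mathlib
import Cfsg.Agent.Lib.Helper47.PRedSub
import Cfsg.Agent.Lib.Helper47.Subn
import Cfsg.Agent.Lib.Helper47.Comm
import Cfsg.Agent.Lib.Helper47.ZL2

set_option autoImplicit false

namespace Cfsg.Agent.Lib.Helper47

open scoped commutatorElement

/-- A subnormal subgroup acting as a `p`-group on a `p`-reduced normal subgroup centralizes it. -/
theorem le_centralizer_of_isSubnormal_of_isPReducedNormal {L : Type*} [Group L] {p : ℕ}
    [Fact p.Prime] {V : Subgroup L} (hV : Cfsg.IsPReducedNormal p V) {D : Subgroup L}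
    (hD : D.IsSubnormal)
    (hp : ∀ d ∈ D, ∃ k : ℕ, d ^ (p ^ k) ∈ Subgroup.centralizer (V : Set L)) :
    D ≤ Subgroup.centralizer (V : Set L) := by
  obtain ⟨hVn, hVe, hCn, hcore⟩ := hV
  have hsub : (D.map (QuotientGroup.mk' (Subgroup.centralizer (V : Set L)))).IsSubnormal :=
    hD.map (QuotientGroup.mk'_surjective _)
  have hpg : IsPGroup p (D.map (QuotientGroup.mk' (Subgroup.centralizer (V : Set L)))) := by
    rintro ⟨_, d, hd, rfl⟩
    obtain ⟨k, hk⟩ := hp d hd
    refine ⟨k, Subtype.ext ?_⟩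
    rw [Subgroup.coe_pow, Subgroup.coe_one, ← map_pow, QuotientGroup.mk'_apply,
      QuotientGroup.eq_one_iff]
    exact hk
  have h1 := le_pCore_of_isSubnormal_of_isPGroup hsub hpg
  rw [hcore] at h1
  intro d hd
  have h2 : QuotientGroup.mk' (Subgroup.centralizer (V : Set L)) d ∈
      (⊥ : Subgroup (L ⧸ Subgroup.centralizer (V : Set L))) := h1 ⟨d, hd, rfl⟩
  rwa [Subgroup.mem_bot, QuotientGroup.mk'_apply, QuotientGroup.eq_one_iff] at h2

/-- Coprime action on an abelian `p`-group: `[v, x] ∈ [V, x, x]`. -/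
theorem commutator_mem_commutator_commutator_of_coprime {G : Type*} [Group G] {p : ℕ}
    [Fact p.Prime] {V : Subgroup G} (hVc : ∀ a ∈ V, ∀ b ∈ V, a * b = b * a) (hVp : IsPGroup p V)
    {x : G} (hx : x ∈ Subgroup.normalizer (V : Set G)) (hxc : (orderOf x).Coprime p) {v : G}
    (hv : v ∈ V) :
    v * x * v⁻¹ * x⁻¹ ∈ ⁅⁅V, Subgroup.zpowers x⁆, Subgroup.zpowers x⁆ := by
  set T := ⁅V, Subgroup.zpowers x⁆ with hT
  set W := ⁅T, Subgroup.zpowers x⁆ with hW
  have hzx : Subgroup.zpowers x ≤ Subgroup.normalizer (V : Set G) :=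
    (Subgroup.zpowers_le).mpr hx
  have hTV : T ≤ V := commutator_le_of_le_normalizer hzx le_rfl
  have hWT : W ≤ T := Subgroup.commutator_mono hTV le_rfl
  have hWV : W ≤ V := hWT.trans hTV
  set c := v * x * v⁻¹ * x⁻¹ with hc
  have hcT : c ∈ T := by
    have : c = ⁅v, x⁆ := by rw [commutatorElement_def]
    rw [this]; exact Subgroup.commutator_mem_commutator hv (Subgroup.mem_zpowers x)
  have hcV : c ∈ V := hTV hcT
  have key : ∀ n : ℕ, ∃ w ∈ W, v * x ^ n * v⁻¹ * (x ^ n)⁻¹ = c ^ n * w := by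
    intro n
    induction n with
    | zero => exact ⟨1, W.one_mem, by simp⟩
    | succ n ih =>
      obtain ⟨w, hw, h⟩ := ih
      have hw' : x ^ n * c * (x ^ n)⁻¹ * c⁻¹ ∈ W := by
        have h1 : ⁅c, x ^ n⁆ ∈ W :=
          Subgroup.commutator_mem_commutator hcT (Subgroup.pow_mem _ (Subgroup.mem_zpowers x) n)
        have h2 : x ^ n * c * (x ^ n)⁻¹ * c⁻¹ = ⁅c, x ^ n⁆⁻¹ := by
          rw [commutatorElement_def]; group
        rw [h2]; exact W.inv_mem h1
      refine ⟨w * (x ^ n * c * (x ^ n)⁻¹ * c⁻¹), W.mul_mem hw hw', ?_⟩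
      have e1 : v * x ^ (n + 1) * v⁻¹ * (x ^ (n + 1))⁻¹ =
          (v * x ^ n * v⁻¹ * (x ^ n)⁻¹) * ((x ^ n * c * (x ^ n)⁻¹ * c⁻¹) * c) := by
        rw [hc, pow_succ]; group
      rw [e1, h, pow_succ]
      have hcomm := hVc _ (hWV hw') c hcV
      have hcomm2 := hVc _ (hWV hw) c hcV
      calc c ^ n * w * ((x ^ n * c * (x ^ n)⁻¹ * c⁻¹) * c)
          = c ^ n * w * (c * (x ^ n * c * (x ^ n)⁻¹ * c⁻¹)) := by rw [hcomm]
        _ = c ^ n * (w * c) * (x ^ n * c * (x ^ n)⁻¹ * c⁻¹) := by simp only [mul_assoc]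
        _ = c ^ n * (c * w) * (x ^ n * c * (x ^ n)⁻¹ * c⁻¹) := by rw [hcomm2]
        _ = c ^ n * c * (w * (x ^ n * c * (x ^ n)⁻¹ * c⁻¹)) := by simp only [mul_assoc]
  obtain ⟨w, hw, h⟩ := key (orderOf x)
  rw [pow_orderOf_eq_one] at h
  have hcn : c ^ orderOf x ∈ W := by
    have : c ^ orderOf x = w⁻¹ := by
      rw [eq_inv_iff_mul_eq_one, ← h]; simp
    rw [this]; exact W.inv_mem hw
  obtain ⟨k, hk⟩ := hVp ⟨c, hcV⟩
  have hk' : c ^ (p ^ k) = 1 := by simpa [Subtype.ext_iff] using hk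
  have hcop : (orderOf x).Coprime (orderOf c) :=
    Nat.Coprime.coprime_dvd_right (orderOf_dvd_of_pow_eq_one hk') (Nat.Coprime.pow_right k hxc)
  obtain ⟨m, hm⟩ := exists_pow_eq_self_of_coprime hcop
  rw [← hm]; exact W.pow_mem hcn m

/-- `[[V, O^p(K)], O^p(H)] = [V, O^p(H)]` for `H ≤ K` and `V` a normal abelian `p`-subgroup. -/
theorem commutator_commutator_pResidual_eq {L : Type*} [Group L] {p : ℕ} [Fact p.Prime]
    {V : Subgroup L} [hVn : V.Normal] (hVc : ∀ a ∈ V, ∀ b ∈ V, a * b = b * a)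
    (hVp : IsPGroup p V) {H K : Subgroup L} (hHK : H ≤ K) :
    ⁅⁅V, (Cfsg.pResidual p ↥K).map K.subtype⁆, (Cfsg.pResidual p ↥H).map H.subtype⁆ =
      ⁅V, (Cfsg.pResidual p ↥H).map H.subtype⁆ := by
  apply le_antisymm
  · exact Subgroup.commutator_mono (Subgroup.commutator_le_left _ _) le_rfl
  · have hD : ⁅⁅V, (Cfsg.pResidual p ↥K).map K.subtype⁆, (Cfsg.pResidual p ↥H).map H.subtype⁆ ≤ V :=
      (Subgroup.commutator_mono (Subgroup.commutator_le_left _ _) le_rfl).trans
        (Subgroup.commutator_le_left _ _)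
    have hmono := pResidual_map_subtype_mono p hHK
    have h1 : (Cfsg.pResidual p ↥H).map H.subtype ≤ commStab V _ hD := by
      conv_lhs => rw [pResidual_map_subtype_eq]
      rw [Subgroup.closure_le]
      rintro x ⟨hxH, hxc⟩
      have hxR : x ∈ (Cfsg.pResidual p ↥H).map H.subtype := by
        rw [pResidual_map_subtype_eq]; exact Subgroup.subset_closure ⟨hxH, hxc⟩
      have hxN : x ∈ Subgroup.normalizer (V : Set L) := by
        rw [Subgroup.normalizer_eq_top_iff.mpr hVn]; exact Subgroup.mem_top x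
      refine ⟨hxN, fun v hv => ?_⟩
      have h2 := commutator_mem_commutator_commutator_of_coprime hVc hVp hxN hxc hv
      have h3 : ⁅⁅V, Subgroup.zpowers x⁆, Subgroup.zpowers x⁆ ≤
          ⁅⁅V, (Cfsg.pResidual p ↥K).map K.subtype⁆, (Cfsg.pResidual p ↥H).map H.subtype⁆ :=
        Subgroup.commutator_mono
          (Subgroup.commutator_mono le_rfl ((Subgroup.zpowers_le).mpr (hmono hxR)))
          ((Subgroup.zpowers_le).mpr hxR)
      rw [commutatorElement_def]
      exact h3 h2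
    rw [Subgroup.commutator_le]
    intro v hv l hl
    exact (h1 hl).2 v hv

/-- Step lemma: if `K ⊴ K₁` and `U₁` is `p`-reduced normal in `K₁`, then `[U₁, O^p(K)]` lies in
`K` and is `p`-reduced normal in `K`. -/
theorem isPReducedNormal_commutator_pResidual_step {L : Type*} [Group L] [Finite L] {p : ℕ}
    [Fact p.Prime] {K K₁ U₁ : Subgroup L} (hKK₁ : K ≤ K₁) (hKn : (K.subgroupOf K₁).Normal)
    (hU₁ : U₁ ≤ K₁) (hred : Cfsg.IsPReducedNormal p (U₁.subgroupOf K₁)) :
    ⁅U₁, (Cfsg.pResidual p ↥K).map K.subtype⁆ ≤ K ∧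
      Cfsg.IsPReducedNormal p ((⁅U₁, (Cfsg.pResidual p ↥K).map K.subtype⁆).subgroupOf K) := by
  have hp : p.Prime := Fact.out
  set R := (Cfsg.pResidual p ↥K).map K.subtype with hR
  have hRK : R ≤ K := pResidual_map_subtype_le p K
  have hK₁NK : K₁ ≤ Subgroup.normalizer (K : Set L) :=
    (Subgroup.normal_subgroupOf_iff_le_normalizer hKK₁).mp hKn
  obtain ⟨hK₁NU, hU₁e, hU₁r⟩ := (isPReducedNormal_subgroupOf_iff p hU₁).mp hred
  have hUK : ⁅U₁, R⁆ ≤ K := by
    rw [Subgroup.commutator_comm]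
    exact commutator_le_of_le_normalizer (hU₁.trans hK₁NK) hRK
  have hUU₁ : ⁅U₁, R⁆ ≤ U₁ :=
    commutator_le_of_le_normalizer ((hRK.trans hKK₁).trans hK₁NU) le_rfl
  refine ⟨hUK, ?_⟩
  rw [isPReducedNormal_subgroupOf_iff p hUK]
  rw [isElementaryAbelian_iff] at hU₁e
  refine ⟨?_, ?_, ?_⟩
  · exact le_normalizer_commutator_of_le (hKK₁.trans hK₁NU)
      (Subgroup.le_normalizer.trans (normalizer_le_normalizer_pResidual_map p K))
  · rw [isElementaryAbelian_iff]
    exact ⟨fun a ha b hb => hU₁e.1 a (hUU₁ ha) b (hUU₁ hb), fun a ha => hU₁e.2 a (hUU₁ ha)⟩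
  · intro D hDK hKND hDp
    have hcop : ∀ x ∈ D, (orderOf x).Coprime p → x ∈ Subgroup.centralizer (U₁ : Set L) := by
      intro x hxD hxc
      have hxR : x ∈ R := by
        rw [hR, pResidual_map_subtype_eq]; exact Subgroup.subset_closure ⟨hDK hxD, hxc⟩
      have hxCU : x ∈ Subgroup.centralizer ((⁅U₁, R⁆ : Subgroup L) : Set L) := by
        obtain ⟨k, hk⟩ := hDp x hxD
        have hcop' : (p ^ k).Coprime (orderOf x) := (Nat.Coprime.pow_right k hxc).symm
        obtain ⟨m, hm⟩ := exists_pow_eq_self_of_coprime hcop'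
        rw [← hm]; exact Subgroup.pow_mem _ hk m
      rw [Subgroup.mem_centralizer_iff]
      intro u hu
      have hc : u * x * u⁻¹ * x⁻¹ ∈ ⁅U₁, R⁆ := by
        have : u * x * u⁻¹ * x⁻¹ = ⁅u, x⁆ := by rw [commutatorElement_def]
        rw [this]; exact Subgroup.commutator_mem_commutator hu hxR
      have hcx : Commute (u * x * u⁻¹ * x⁻¹) x := Subgroup.mem_centralizer_iff.mp hxCU _ hc
      have hc1 : u * x * u⁻¹ * x⁻¹ = 1 :=
        eq_one_of_conj_eq_mul (p := p) (a := u) (x := x) hcx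
          ⟨1, by rw [pow_one]; exact hU₁e.2 _ (hUU₁ hc)⟩ hxc (by group)
      calc u * x = (u * x * u⁻¹ * x⁻¹) * (x * u) := by group
        _ = x * u := by rw [hc1, one_mul]
    have hDp₁ : ∀ d ∈ D, ∃ k : ℕ, d ^ (p ^ k) ∈ Subgroup.centralizer (U₁ : Set L) := by
      intro d hd
      have h0 : orderOf d ≠ 0 := (orderOf_pos d).ne'
      obtain ⟨k, m, hm, hkm⟩ := Nat.exists_eq_pow_mul_and_not_dvd h0 p hp.ne_one
      refine ⟨k, hcop _ (D.pow_mem hd _) ?_⟩
      have h1 : (d ^ (p ^ k)) ^ m = 1 := by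
        rw [← pow_mul, ← hkm, pow_orderOf_eq_one]
      exact Nat.Coprime.coprime_dvd_left (orderOf_dvd_of_pow_eq_one h1)
        ((Nat.Prime.coprime_iff_not_dvd hp).mpr hm).symm
    have hDsub : D ≤ Subgroup.centralizer (U₁ : Set L) := by
      have hsn : (D.subgroupOf K₁).IsSubnormal := by
        refine Subgroup.IsSubnormal.step _ (K.subgroupOf K₁) ?_ hKn.isSubnormal ?_
        · intro d hd
          rw [Subgroup.mem_subgroupOf] at hd ⊢
          exact hDK hd
        · refine ⟨fun n hn g => ?_⟩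
          rw [Subgroup.mem_subgroupOf, Subgroup.mem_subgroupOf] at hn ⊢
          have hg : ((g : ↥K₁) : L) ∈ K := Subgroup.mem_subgroupOf.mp g.2
          have := (Subgroup.mem_normalizer_iff.mp (hKND hg) _).mp hn
          simpa using this
      have h1 := le_centralizer_of_isSubnormal_of_isPReducedNormal hred hsn (by
        rintro ⟨d, hdK₁⟩ hd
        obtain ⟨k, hk⟩ := hDp₁ d (Subgroup.mem_subgroupOf.mp hd)
        exact ⟨k, (mem_centralizer_subgroupOf_iff hU₁ _).mpr (by simpa using hk)⟩)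
      intro d hd
      exact (mem_centralizer_subgroupOf_iff hU₁ ⟨d, hKK₁ (hDK hd)⟩).mp
        (h1 (Subgroup.mem_subgroupOf.mpr hd))
    exact hDsub.trans (Subgroup.centralizer_le hUU₁)

/-- If `V` is a `p`-reduced normal subgroup of `L` and `K` is subnormal in `L`, then
`[V, O^p(K)] ≤ K` is a `p`-reduced normal subgroup of `K`. -/
theorem commutator_pResidual_isPReducedNormal {L : Type*} [Group L] [Finite L] {p : ℕ}
    [Fact p.Prime] (V : Subgroup L) (hV : Cfsg.IsPReducedNormal p V) (K : Subgroup L)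
    (hK : K.IsSubnormal) :
    ⁅V, (Cfsg.pResidual p ↥K).map K.subtype⁆ ≤ K ∧
      Cfsg.IsPReducedNormal p ((⁅V, (Cfsg.pResidual p ↥K).map K.subtype⁆).subgroupOf K) := by
  obtain ⟨hVn, hVe, hVr⟩ := (isPReducedNormal_iff p V).mp hV
  have hVe' := (isElementaryAbelian_iff p V).mp hVe
  induction hK with
  | top =>
    have hVtop : Cfsg.IsPReducedNormal p (V.subgroupOf ⊤) := by
      rw [isPReducedNormal_subgroupOf_iff p le_top]
      refine ⟨?_, hVe, fun D _ hND hDp => hVr D ?_ hDp⟩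
      · rw [Subgroup.normalizer_eq_top_iff.mpr hVn]
      · exact Subgroup.normalizer_eq_top_iff.mp (top_le_iff.mp hND)
    exact isPReducedNormal_commutator_pResidual_step le_rfl inferInstance le_top hVtop
  | step H K h_le hSubn hN ih =>
    obtain ⟨ih1, ih2⟩ := ih
    have h := isPReducedNormal_commutator_pResidual_step h_le hN ih1 ih2
    have e := commutator_commutator_pResidual_eq (p := p) (V := V) hVe'.1
      (isPGroup_of_isElementaryAbelian hVe) h_le
    rwa [e] at h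

end Cfsg.Agent.Lib.Helper47
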