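import Mathlib
import Cfsg.Agent.Lib.Helper47.PRedSubn
import Cfsg.Agent.Lib.Helper47.Large
import Cfsg.Agent.Lib.Helper47.Frat2

set_option autoImplicit false

namespace Cfsg.Agent.Lib.Helper47

open scoped commutatorElement

/-- A nontrivial normal subgroup of a finite `p`-group contains a nontrivial central element. -/
theorem exists_mem_center_of_normal_of_ne_bot {R : Type*} [Group R] [Finite R] {p : ℕ}
    [Fact p.Prime] (hR : IsPGroup p R) (D : Subgroup R) [D.Normal] (hD : D ≠ ⊥) :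
    ∃ z : R, z ∈ D ∧ z ≠ 1 ∧ z ∈ Subgroup.center R := by
  have hRc : IsPGroup p (ConjAct R) := hR
  have hDp : p ∣ Nat.card D := by
    rcases (hR.to_subgroup D).card_eq_or_dvd with h | h
    · exact absurd (Subgroup.card_eq_one.mp h) hD
    · exact h
  have h1 : (1 : D) ∈ MulAction.fixedPoints (ConjAct R) D := by
    intro g
    exact smul_one g
  obtain ⟨b, hb, hb1⟩ := hRc.exists_fixed_point_of_prime_dvd_card_of_fixed_point D hDp h1
  refine ⟨(b : R), b.2, fun h => hb1 (Subtype.ext h.symm), ?_⟩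
  rw [Subgroup.mem_center_iff]
  intro g
  have h2 := hb (ConjAct.toConjAct g)
  have h3 := congrArg Subtype.val h2
  rw [ConjAct.Subgroup.val_conj_smul, ConjAct.smul_def, ConjAct.ofConjAct_toConjAct] at h3
  calc g * (b : R) = g * (b : R) * g⁻¹ * g := by group
    _ = (b : R) * g := by rw [h3]

/-- A nontrivial subgroup `M` of a finite `p`-subgroup `P` that is normalized by `P` contains a
nontrivial element central in `P`. -/
theorem exists_mem_center_of_normal_subgroup {G : Type*} [Group G] [Finite G] {p : ℕ}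
    [Fact p.Prime] {P M : Subgroup G} (hP : IsPGroup p P) (hMP : M ≤ P)
    (hPN : P ≤ Subgroup.normalizer (M : Set G)) (hM : M ≠ ⊥) :
    ∃ w ∈ M, w ≠ 1 ∧ ∀ g ∈ P, g * w = w * g := by
  have hn : (M.subgroupOf P).Normal := (Subgroup.normal_subgroupOf_iff_le_normalizer hMP).mpr hPN
  have hne : M.subgroupOf P ≠ ⊥ := by
    intro h
    apply hM
    rw [Subgroup.subgroupOf_eq_bot] at h
    exact h.eq_bot_of_le hMP
  obtain ⟨z, hzD, hz1, hzc⟩ := exists_mem_center_of_normal_of_ne_bot hP (M.subgroupOf P) hne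
  refine ⟨z, Subgroup.mem_subgroupOf.mp hzD, fun h => hz1 (Subtype.ext h), fun g hg => ?_⟩
  have h1 := Subgroup.mem_center_iff.mp hzc ⟨g, hg⟩
  exact congrArg Subtype.val h1

/-- Every element has a `p`-power of order prime to `p`. -/
theorem exists_pow_coprime {G : Type*} [Group G] [Finite G] (p : ℕ) [Fact p.Prime] (d : G) :
    ∃ k : ℕ, (orderOf (d ^ (p ^ k))).Coprime p := by
  have hp : p.Prime := Fact.out
  obtain ⟨k, m, hm, hkm⟩ := Nat.exists_eq_pow_mul_and_not_dvd (orderOf_pos d).ne' p hp.ne_one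
  refine ⟨k, ?_⟩
  have h1 : (d ^ (p ^ k)) ^ m = 1 := by rw [← pow_mul, ← hkm, pow_orderOf_eq_one]
  exact Nat.Coprime.coprime_dvd_left (orderOf_dvd_of_pow_eq_one h1)
    ((Nat.Prime.coprime_iff_not_dvd hp).mpr hm).symm

/-- If the `p'`-elements of `D` lie in `C` then every element of `D` has a `p`-power in `C`. -/
theorem exists_pow_mem_of_coprime_mem {G : Type*} [Group G] [Finite G] {p : ℕ} [Fact p.Prime]
    {D C : Subgroup G} (h : ∀ x ∈ D, (orderOf x).Coprime p → x ∈ C) :
    ∀ d ∈ D, ∃ k : ℕ, d ^ (p ^ k) ∈ C := by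
  intro d hd
  obtain ⟨k, hk⟩ := exists_pow_coprime p d
  exact ⟨k, h _ (D.pow_mem hd _) hk⟩

/-- A `p'`-element with a `p`-power in `C` lies in `C`. -/
theorem mem_of_pow_mem_of_coprime {G : Type*} [Group G] {p : ℕ} {C : Subgroup G} {x : G}
    (hxc : (orderOf x).Coprime p) {k : ℕ} (hk : x ^ (p ^ k) ∈ C) : x ∈ C := by
  have hcop' : (p ^ k).Coprime (orderOf x) := (Nat.Coprime.pow_right k hxc).symm
  obtain ⟨m, hm⟩ := exists_pow_eq_self_of_coprime hcop'
  rw [← hm]; exact C.pow_mem hk m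

/-- `p`-reduced normal subgroups are preserved by isomorphisms. -/
theorem isPReducedNormal_map_equiv {G G' : Type*} [Group G] [Group G'] {p : ℕ} (e : G ≃* G')
    {V : Subgroup G} (hV : Cfsg.IsPReducedNormal p V) :
    Cfsg.IsPReducedNormal p (V.map e.toMonoidHom) := by
  obtain ⟨hVn, hVe, hVr⟩ := (isPReducedNormal_iff p V).mp hV
  have hVe' := (isElementaryAbelian_iff p V).mp hVe
  rw [isPReducedNormal_iff]
  refine ⟨Subgroup.Normal.map hVn e.toMonoidHom e.surjective, ?_, ?_⟩
  · rw [isElementaryAbelian_iff]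
    constructor
    · rintro _ ⟨a, ha, rfl⟩ _ ⟨b, hb, rfl⟩
      rw [← map_mul, ← map_mul, hVe'.1 a ha b hb]
    · rintro _ ⟨a, ha, rfl⟩
      rw [← map_pow, hVe'.2 a ha, map_one]
  · intro D' hD'n hD'p
    have hDn : (D'.comap e.toMonoidHom).Normal := hD'n.comap _
    have hD : D'.comap e.toMonoidHom ≤ Subgroup.centralizer (V : Set G) := by
      apply hVr _ hDn
      intro d hd
      obtain ⟨k, hk⟩ := hD'p (e d) hd
      refine ⟨k, ?_⟩
      rw [Subgroup.mem_centralizer_iff]
      intro v hv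
      have h1 := Subgroup.mem_centralizer_iff.mp hk (e v) ⟨v, hv, rfl⟩
      apply e.injective
      rw [map_mul, map_mul, map_pow]
      exact h1
    intro d' hd'
    rw [Subgroup.mem_centralizer_iff]
    rintro _ ⟨v, hv, rfl⟩
    have hd : e.symm d' ∈ D'.comap e.toMonoidHom := by
      rw [Subgroup.mem_comap]
      simpa using hd'
    have h1 := Subgroup.mem_centralizer_iff.mp (hD hd) v hv
    have h2 := congrArg e h1
    rw [map_mul, map_mul, e.apply_symm_apply] at h2
    exact h2

/-- `Y_G` is a characteristic subgroup. -/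
theorem largestPReduced_characteristic (p : ℕ) [Fact p.Prime] (G : Type*) [Group G] :
    (Cfsg.largestPReduced p G).Characteristic := by
  rw [Subgroup.characteristic_iff_map_le]
  intro φ
  exact le_largestPReduced (isPReducedNormal_map_equiv φ (largestPReduced_isPReducedNormal p))

/-- `N(L)` normalizes `Y_L`. -/
theorem normalizer_le_normalizer_largestPReducedOf {H : Type*} [Group H] (p : ℕ) [Fact p.Prime]
    (L : Subgroup H) :
    Subgroup.normalizer (L : Set H) ≤
      Subgroup.normalizer ((Cfsg.largestPReducedOf p L : Subgroup H) : Set H) := by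
  have := largestPReduced_characteristic p ↥L
  exact normalizer_le_normalizer_map_subtype_of_characteristic L (Cfsg.largestPReduced p ↥L)

/-- `p`-reducedness in `⊤` and in the group. -/
theorem isPReducedNormal_subgroupOf_top_iff {H : Type*} [Group H] (p : ℕ) (V : Subgroup H) :
    Cfsg.IsPReducedNormal p (V.subgroupOf ⊤) ↔ Cfsg.IsPReducedNormal p V := by
  rw [isPReducedNormal_subgroupOf_iff p le_top, isPReducedNormal_iff]
  constructor
  · rintro ⟨h1, h2, h3⟩
    refine ⟨Subgroup.normalizer_eq_top_iff.mp (top_le_iff.mp h1), h2, fun D hD hDp => ?_⟩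
    refine h3 D le_top ?_ hDp
    rw [Subgroup.normalizer_eq_top_iff.mpr hD]
  · rintro ⟨h1, h2, h3⟩
    refine ⟨?_, h2, fun D _ hND hDp =>
      h3 D (Subgroup.normalizer_eq_top_iff.mp (top_le_iff.mp hND)) hDp⟩
    rw [Subgroup.normalizer_eq_top_iff.mpr h1]

theorem largestPReducedOf_top_le {H : Type*} [Group H] (p : ℕ) [Fact p.Prime] :
    Cfsg.largestPReducedOf p (⊤ : Subgroup H) ≤ Cfsg.largestPReduced p H :=
  le_largestPReduced ((isPReducedNormal_subgroupOf_top_iff p _).mp
    (isPReducedNormal_largestPReducedOf p ⊤))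

/-- If `L ⊴ K` and `U` is `p`-reduced normal in `K`, then `U ∩ L` is `p`-reduced normal in `L`
and `C_L(U ∩ L) ≤ C(U)`. -/
theorem isPReducedNormal_inf_of_normal {H : Type*} [Group H] [Finite H] {p : ℕ} [Fact p.Prime]
    {K L U : Subgroup H} (hLK : L ≤ K) (hN : (L.subgroupOf K).Normal) (hUK : U ≤ K)
    (hred : Cfsg.IsPReducedNormal p (U.subgroupOf K)) :
    Cfsg.IsPReducedNormal p ((U ⊓ L).subgroupOf L) ∧
      L ⊓ Subgroup.centralizer ((U ⊓ L : Subgroup H) : Set H) ≤
        Subgroup.centralizer (U : Set H) := by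
  have hKNL : K ≤ Subgroup.normalizer (L : Set H) :=
    (Subgroup.normal_subgroupOf_iff_le_normalizer hLK).mp hN
  obtain ⟨hKNU, hUe, -⟩ := (isPReducedNormal_subgroupOf_iff p hUK).mp hred
  have hUe' := (isElementaryAbelian_iff p U).mp hUe
  have CC : ∀ D : Subgroup H, D ≤ L → L ≤ Subgroup.normalizer (D : Set H) →
      (∀ d ∈ D, ∃ k : ℕ, d ^ (p ^ k) ∈ Subgroup.centralizer ((U ⊓ L : Subgroup H) : Set H)) →
      D ≤ Subgroup.centralizer (U : Set H) := by
    intro D hDL hLND hDp
    have hcop : ∀ x ∈ D, (orderOf x).Coprime p → x ∈ Subgroup.centralizer (U : Set H) := by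
      intro x hxD hxc
      obtain ⟨k, hk⟩ := hDp x hxD
      have hxCU := mem_of_pow_mem_of_coprime hxc hk
      rw [Subgroup.mem_centralizer_iff]
      intro u hu
      have hxK : x ∈ K := hLK (hDL hxD)
      have hc : u * x * u⁻¹ * x⁻¹ ∈ U ⊓ L := by
        constructor
        · have : x * u⁻¹ * x⁻¹ ∈ U :=
            (Subgroup.mem_normalizer_iff.mp (hKNU hxK) _).mp (U.inv_mem hu)
          have e : u * x * u⁻¹ * x⁻¹ = u * (x * u⁻¹ * x⁻¹) := by group
          rw [e]; exact U.mul_mem hu this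
        · have : u * x * u⁻¹ ∈ L :=
            (Subgroup.mem_normalizer_iff.mp (hKNL (hUK hu)) _).mp (hDL hxD)
          exact L.mul_mem this (L.inv_mem (hDL hxD))
      have hcx : Commute (u * x * u⁻¹ * x⁻¹) x := Subgroup.mem_centralizer_iff.mp hxCU _ hc
      have hc1 : u * x * u⁻¹ * x⁻¹ = 1 :=
        eq_one_of_conj_eq_mul (p := p) (a := u) (x := x) hcx
          ⟨1, by rw [pow_one]; exact hUe'.2 _ hc.1⟩ hxc (by group)
      calc u * x = (u * x * u⁻¹ * x⁻¹) * (x * u) := by group
        _ = x * u := by rw [hc1, one_mul]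
    have hDp₁ := exists_pow_mem_of_coprime_mem hcop
    have hsn : (D.subgroupOf K).IsSubnormal := by
      refine Subgroup.IsSubnormal.step _ (L.subgroupOf K) ?_ hN.isSubnormal ?_
      · intro d hd
        rw [Subgroup.mem_subgroupOf] at hd ⊢
        exact hDL hd
      · refine ⟨fun n hn g => ?_⟩
        rw [Subgroup.mem_subgroupOf, Subgroup.mem_subgroupOf] at hn ⊢
        have hg : ((g : ↥K) : H) ∈ L := Subgroup.mem_subgroupOf.mp g.2
        have := (Subgroup.mem_normalizer_iff.mp (hLND hg) _).mp hn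
        simpa using this
    have h1 := le_centralizer_of_isSubnormal_of_isPReducedNormal hred hsn (by
      rintro ⟨d, hdK⟩ hd
      obtain ⟨k, hk⟩ := hDp₁ d (Subgroup.mem_subgroupOf.mp hd)
      exact ⟨k, (mem_centralizer_subgroupOf_iff hUK _).mpr (by simpa using hk)⟩)
    intro d hd
    exact (mem_centralizer_subgroupOf_iff hUK ⟨d, hLK (hDL hd)⟩).mp
      (h1 (Subgroup.mem_subgroupOf.mpr hd))
  have hLNUL : L ≤ Subgroup.normalizer ((U ⊓ L : Subgroup H) : Set H) := by
    apply le_normalizer_of_conj_mem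
    rintro l hl n ⟨hnU, hnL⟩
    exact ⟨(Subgroup.mem_normalizer_iff.mp (hKNU (hLK hl)) n).mp hnU,
      L.mul_mem (L.mul_mem hl hnL) (L.inv_mem hl)⟩
  refine ⟨?_, ?_⟩
  · rw [isPReducedNormal_subgroupOf_iff p inf_le_right]
    refine ⟨hLNUL, ?_, fun D hDL hLND hDp =>
      (CC D hDL hLND hDp).trans (Subgroup.centralizer_le inf_le_left)⟩
    rw [isElementaryAbelian_iff]
    exact ⟨fun a ha b hb => hUe'.1 a ha.1 b hb.1, fun a ha => hUe'.2 a ha.1⟩
  · apply CC _ inf_le_left
    · have h1 : L ≤ Subgroup.normalizer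
          ((Subgroup.centralizer ((U ⊓ L : Subgroup H) : Set H) : Subgroup H) : Set H) :=
        hLNUL.trans (normalizer_le_normalizer_centralizer _)
      apply le_normalizer_of_conj_mem
      rintro l hl n ⟨hnL, hnC⟩
      exact ⟨L.mul_mem (L.mul_mem hl hnL) (L.inv_mem hl),
        (Subgroup.mem_normalizer_iff.mp (h1 hl) n).mp hnC⟩
    · intro d hd
      exact ⟨0, by simpa using hd.2⟩

/-- Thompson `A × B`-type lemma for commuting actions: `x` is a `p'`-element normalizing the
abelian `p`-group `U`; `P` normalizes `U` and acts on it as a `p`-group; the commutators `[b, x]`,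
`b ∈ P`, centralize `U`.  If `x` centralizes `C_U(P)` then `x` centralizes `U`. -/
theorem mem_centralizer_of_centralizes_fixed {H : Type*} [Group H] [Finite H] {p : ℕ}
    [Fact p.Prime] {U P : Subgroup H} (hUc : ∀ a ∈ U, ∀ b ∈ U, a * b = b * a) (hUp : IsPGroup p U)
    (hPU : P ≤ Subgroup.normalizer (U : Set H))
    (hPp : ∀ d ∈ P, ∃ k : ℕ, d ^ (p ^ k) ∈ Subgroup.centralizer (U : Set H))
    {x : H} (hxU : x ∈ Subgroup.normalizer (U : Set H)) (hxc : (orderOf x).Coprime p)
    (hcomm : ∀ b ∈ P, b * x * b⁻¹ * x⁻¹ ∈ Subgroup.centralizer (U : Set H))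
    (hfix : x ∈ Subgroup.centralizer
      ((U ⊓ Subgroup.centralizer (P : Set H) : Subgroup H) : Set H)) :
    x ∈ Subgroup.centralizer (U : Set H) := by
  by_contra hxU'
  have hmem : ∀ u ∈ U, u * x * u⁻¹ * x⁻¹ ∈ U := fun u hu => by
    have : x * u⁻¹ * x⁻¹ ∈ U := (Subgroup.mem_normalizer_iff.mp hxU _).mp (U.inv_mem hu)
    have e : u * x * u⁻¹ * x⁻¹ = u * (x * u⁻¹ * x⁻¹) := by group
    rw [e]; exact U.mul_mem hu this
  let φ : ↥U →* H := MonoidHom.mk' (fun u => (u : H) * x * (u : H)⁻¹ * x⁻¹) (by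
    intro a b
    have hc := hUc _ (hmem b b.2) a a.2
    have hc2 := hUc _ (hmem b b.2) _ (hmem a a.2)
    simp only [Subgroup.coe_mul]
    calc (a : H) * b * x * ((a : H) * b)⁻¹ * x⁻¹
        = a * ((b : H) * x * (b : H)⁻¹ * x⁻¹) * (x * (a : H)⁻¹ * x⁻¹) := by group
      _ = ((b : H) * x * (b : H)⁻¹ * x⁻¹) * a * (x * (a : H)⁻¹ * x⁻¹) := by rw [hc]
      _ = ((b : H) * x * (b : H)⁻¹ * x⁻¹) * ((a : H) * x * (a : H)⁻¹ * x⁻¹) := by group
      _ = _ := hc2)
  have hφ : ∀ u : ↥U, φ u = (u : H) * x * (u : H)⁻¹ * x⁻¹ := fun _ => rfl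
  have hWU : φ.range ≤ U := by
    rintro _ ⟨u, rfl⟩; exact hmem u u.2
  have hWp : IsPGroup p φ.range := hUp.to_le hWU
  have hW : φ.range ≠ ⊥ := by
    intro hbot
    apply hxU'
    rw [Subgroup.mem_centralizer_iff]
    intro u hu
    have h1 : φ ⟨u, hu⟩ ∈ φ.range := ⟨⟨u, hu⟩, rfl⟩
    rw [hbot, Subgroup.mem_bot, hφ] at h1
    calc u * x = (u * x * u⁻¹ * x⁻¹) * (x * u) := by group
      _ = x * u := by rw [h1, one_mul]
  obtain ⟨B⟩ : Nonempty (Sylow p ↥P) := inferInstance
  have hB'p : IsPGroup p ((B : Subgroup ↥P).map P.subtype) := B.isPGroup'.map _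
  have hB'P : (B : Subgroup ↥P).map P.subtype ≤ P := by
    rintro _ ⟨b, -, rfl⟩; exact b.2
  have hB'W : (B : Subgroup ↥P).map P.subtype ≤ Subgroup.normalizer (φ.range : Set H) := by
    apply le_normalizer_of_conj_mem
    rintro b hb _ ⟨u, rfl⟩
    have hbP := hB'P hb
    have hu' : b * (u : H) * b⁻¹ ∈ U := (Subgroup.mem_normalizer_iff.mp (hPU hbP) _).mp u.2
    refine ⟨⟨b * (u : H) * b⁻¹, hu'⟩, ?_⟩
    rw [hφ, hφ]
    have hc := hcomm b hbP
    have h1 := Subgroup.mem_centralizer_iff.mp hc _ hu'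
    have h2 := Subgroup.mem_centralizer_iff.mp hc _ (hmem _ hu')
    symm
    calc b * ((u : H) * x * (u : H)⁻¹ * x⁻¹) * b⁻¹
        = (b * (u : H) * b⁻¹) * (b * x * b⁻¹ * x⁻¹) * (x * (b * (u : H) * b⁻¹)⁻¹ * x⁻¹) *
            (b * x * b⁻¹ * x⁻¹)⁻¹ := by group
      _ = (b * x * b⁻¹ * x⁻¹) * (b * (u : H) * b⁻¹) * (x * (b * (u : H) * b⁻¹)⁻¹ * x⁻¹) *
            (b * x * b⁻¹ * x⁻¹)⁻¹ := by rw [h1]
      _ = (b * x * b⁻¹ * x⁻¹) * ((b * (u : H) * b⁻¹) * x * (b * (u : H) * b⁻¹)⁻¹ * x⁻¹) *
            (b * x * b⁻¹ * x⁻¹)⁻¹ := by group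
      _ = ((b * (u : H) * b⁻¹) * x * (b * (u : H) * b⁻¹)⁻¹ * x⁻¹) * (b * x * b⁻¹ * x⁻¹) *
            (b * x * b⁻¹ * x⁻¹)⁻¹ := by rw [h2]
      _ = (b * (u : H) * b⁻¹) * x * (b * (u : H) * b⁻¹)⁻¹ * x⁻¹ := by group
  obtain ⟨w, hwW, hw1, hwc⟩ := exists_mem_center_of_normal_subgroup
    (P := φ.range ⊔ (B : Subgroup ↥P).map P.subtype) (M := φ.range)
    (hWp.to_sup_of_normal_left' hB'p hB'W) le_sup_left
    (sup_le Subgroup.le_normalizer hB'W) hW
  have hwU : w ∈ U := hWU hwW
  have hPeq : (Cfsg.pResidual p ↥P).map P.subtype ⊔ (B : Subgroup ↥P).map P.subtype = P := by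
    have h := congrArg (Subgroup.map P.subtype) (pResidual_sup_sylow B)
    rwa [Subgroup.map_sup, ← MonoidHom.range_eq_map, Subgroup.range_subtype] at h
  have hPw : P ≤ Subgroup.centralizer ({w} : Set H) := by
    rw [← hPeq]
    refine sup_le ?_ ?_
    · rw [pResidual_map_subtype_eq, Subgroup.closure_le]
      rintro y ⟨hyP, hyc⟩
      obtain ⟨k, hk⟩ := hPp y hyP
      have hyU := mem_of_pow_mem_of_coprime hyc hk
      rw [SetLike.mem_coe, Subgroup.mem_centralizer_iff]
      rintro _ rfl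
      exact Subgroup.mem_centralizer_iff.mp hyU _ hwU
    · intro b hb
      rw [Subgroup.mem_centralizer_iff]
      rintro _ rfl
      exact (hwc b ((le_sup_right : _ ≤ φ.range ⊔ (B : Subgroup ↥P).map P.subtype) hb)).symm
  have hwP : w ∈ Subgroup.centralizer (P : Set H) := by
    rw [Subgroup.mem_centralizer_iff]
    intro g hg
    exact (Subgroup.mem_centralizer_iff.mp (hPw hg) w rfl).symm
  have hwx : w * x = x * w := Subgroup.mem_centralizer_iff.mp hfix w ⟨hwU, hwP⟩
  obtain ⟨u, rfl⟩ := hwW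
  obtain ⟨k, hk⟩ := hUp ⟨φ u, hwU⟩
  have hk' : (φ u) ^ (p ^ k) = 1 := by simpa [Subtype.ext_iff] using hk
  apply hw1
  exact eq_one_of_conj_eq_mul (p := p) (a := (u : H)) (x := x) hwx ⟨k, hk'⟩ hxc
    (by rw [hφ]; group)

/-- For `L ⊴ K`: `C_L(Y_K) ≤ C(Y_L)`. -/
theorem inf_centralizer_largestPReducedOf_le {H : Type*} [Group H] [Finite H] {p : ℕ}
    [Fact p.Prime] {K L : Subgroup H} (hLK : L ≤ K)
    (hKNL : K ≤ Subgroup.normalizer (L : Set H)) :
    L ⊓ Subgroup.centralizer ((Cfsg.largestPReducedOf p K : Subgroup H) : Set H) ≤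
      Subgroup.centralizer ((Cfsg.largestPReducedOf p L : Subgroup H) : Set H) := by
  obtain ⟨hLNM, hMe, hMred⟩ := largestPReducedOf_spec p L
  have hMe' := (isElementaryAbelian_iff p _).mp hMe
  have hML : Cfsg.largestPReducedOf p L ≤ L := largestPReducedOf_le p L
  have hKNM : K ≤ Subgroup.normalizer ((Cfsg.largestPReducedOf p L : Subgroup H) : Set H) :=
    hKNL.trans (normalizer_le_normalizer_largestPReducedOf p L)
  obtain ⟨U, hU, hUmin⟩ := WellFounded.has_min (wellFounded_lt (α := Subgroup H))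
    {U : Subgroup H | U ≤ Cfsg.largestPReducedOf p L ∧ K ≤ Subgroup.normalizer (U : Set H) ∧
      ∀ x ∈ L, (orderOf x).Coprime p → x ∈ Subgroup.centralizer (U : Set H) →
        x ∈ Subgroup.centralizer ((Cfsg.largestPReducedOf p L : Subgroup H) : Set H)}
    ⟨Cfsg.largestPReducedOf p L, le_rfl, hKNM, fun x _ _ h => h⟩
  obtain ⟨hUM, hKNU, hUb⟩ := hU
  have hQ : ∀ Q : Subgroup H, Q ≤ L → L ≤ Subgroup.normalizer (Q : Set H) →
      (∀ x ∈ Q, (orderOf x).Coprime p → x ∈ Subgroup.centralizer (U : Set H)) →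
      Q ≤ Subgroup.centralizer ((Cfsg.largestPReducedOf p L : Subgroup H) : Set H) := by
    intro Q hQL hLNQ hQc
    apply hMred Q hQL hLNQ
    exact exists_pow_mem_of_coprime_mem (fun x hx hxc => hUb x (hQL hx) hxc (hQc x hx hxc))
  have hUK : U ≤ K := hUM.trans (hML.trans hLK)
  have hUp : IsPGroup p U := (isPGroup_of_isElementaryAbelian hMe).to_le hUM
  have hUc : ∀ a ∈ U, ∀ b ∈ U, a * b = b * a := fun a ha b hb => hMe'.1 a (hUM ha) b (hUM hb)
  have hUred : Cfsg.IsPReducedNormal p (U.subgroupOf K) := by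
    rw [isPReducedNormal_subgroupOf_iff p hUK]
    refine ⟨hKNU, ?_, ?_⟩
    · rw [isElementaryAbelian_iff]
      exact ⟨hUc, fun a ha => hMe'.2 a (hUM ha)⟩
    · intro P hPK hKNP hPp
      have hKNCP : K ≤ Subgroup.normalizer
          ((Subgroup.centralizer (P : Set H) : Subgroup H) : Set H) :=
        hKNP.trans (normalizer_le_normalizer_centralizer P)
      have hPL : P ⊓ L ≤ Subgroup.centralizer (U : Set H) := by
        have h1 : P ⊓ L ≤ Subgroup.centralizer
            ((Cfsg.largestPReducedOf p L : Subgroup H) : Set H) := by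
          apply hQ _ inf_le_right
          · apply le_normalizer_of_conj_mem
            rintro l hl n ⟨hnP, hnL⟩
            exact ⟨(Subgroup.mem_normalizer_iff.mp (hKNP (hLK hl)) n).mp hnP,
              L.mul_mem (L.mul_mem hl hnL) (L.inv_mem hl)⟩
          · rintro y ⟨hyP, -⟩ hyc
            obtain ⟨k, hk⟩ := hPp y hyP
            exact mem_of_pow_mem_of_coprime hyc hk
        exact h1.trans (Subgroup.centralizer_le hUM)
      have hU'mem : U ⊓ Subgroup.centralizer (P : Set H) ∈
          {U : Subgroup H | U ≤ Cfsg.largestPReducedOf p L ∧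
            K ≤ Subgroup.normalizer (U : Set H) ∧
            ∀ x ∈ L, (orderOf x).Coprime p → x ∈ Subgroup.centralizer (U : Set H) →
              x ∈ Subgroup.centralizer ((Cfsg.largestPReducedOf p L : Subgroup H) : Set H)} := by
        refine ⟨inf_le_left.trans hUM, ?_, ?_⟩
        · apply le_normalizer_of_conj_mem
          rintro k hk n ⟨hnU, hnC⟩
          exact ⟨(Subgroup.mem_normalizer_iff.mp (hKNU hk) n).mp hnU,
            (Subgroup.mem_normalizer_iff.mp (hKNCP hk) n).mp hnC⟩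
        · intro x hxL hxc hxU'
          apply hUb x hxL hxc
          refine mem_centralizer_of_centralizes_fixed hUc hUp (hPK.trans hKNU) hPp
            (hKNU (hLK hxL)) hxc ?_ hxU'
          intro b hb
          apply hPL
          constructor
          · have : x * b⁻¹ * x⁻¹ ∈ P :=
              (Subgroup.mem_normalizer_iff.mp (hKNP (hLK hxL)) _).mp (P.inv_mem hb)
            have e : b * x * b⁻¹ * x⁻¹ = b * (x * b⁻¹ * x⁻¹) := by group
            rw [e]; exact P.mul_mem hb this
          · have : b * x * b⁻¹ ∈ L := (Subgroup.mem_normalizer_iff.mp (hKNL (hPK hb)) _).mp hxL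
            exact L.mul_mem this (L.inv_mem hxL)
      have hmin := hUmin _ hU'mem
      have heq : U ⊓ Subgroup.centralizer (P : Set H) = U := by
        by_contra hne; exact hmin (lt_of_le_of_ne inf_le_left hne)
      rw [Subgroup.le_centralizer_iff, ← heq]
      exact inf_le_right
  have hUY : U ≤ Cfsg.largestPReducedOf p K := le_largestPReducedOf hUK hUred
  apply hQ _ inf_le_left
  · obtain ⟨hKNY, -, -⟩ := largestPReducedOf_spec p K
    have h1 := (hLK.trans hKNY).trans (normalizer_le_normalizer_centralizer _)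
    apply le_normalizer_of_conj_mem
    rintro l hl n ⟨hnL, hnC⟩
    exact ⟨L.mul_mem (L.mul_mem hl hnL) (L.inv_mem hl),
      (Subgroup.mem_normalizer_iff.mp (h1 hl) n).mp hnC⟩
  · rintro x ⟨hxL, hxC⟩ _
    exact Subgroup.centralizer_le hUY hxC

theorem largestPReduced_subnormal_aux {H : Type*} [Group H] [Finite H] {p : ℕ} [Fact p.Prime]
    {L : Subgroup H} (hL : L.IsSubnormal) :
    Cfsg.IsPReducedNormal p ((Cfsg.largestPReduced p H ⊓ L).subgroupOf L) ∧
      L ⊓ Subgroup.centralizer ((Cfsg.largestPReduced p H ⊓ L : Subgroup H) : Set H) ≤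
        Subgroup.centralizer (Cfsg.largestPReduced p H : Set H) ∧
      L ⊓ Subgroup.centralizer (Cfsg.largestPReduced p H : Set H) ≤
        Subgroup.centralizer ((Cfsg.largestPReducedOf p L : Subgroup H) : Set H) := by
  induction hL with
  | top =>
    refine ⟨?_, ?_, ?_⟩
    · rw [inf_top_eq, isPReducedNormal_subgroupOf_top_iff]
      exact largestPReduced_isPReducedNormal p
    · rw [inf_top_eq]; exact inf_le_right
    · exact inf_le_right.trans (Subgroup.centralizer_le (largestPReducedOf_top_le p))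
  | step L K h_le hSubn hN ih =>
    obtain ⟨ih1, ih2, ih3⟩ := ih
    obtain ⟨s1, s2⟩ := isPReducedNormal_inf_of_normal h_le hN inf_le_right ih1
    have e : Cfsg.largestPReduced p H ⊓ K ⊓ L = Cfsg.largestPReduced p H ⊓ L := by
      rw [inf_assoc, inf_of_le_right h_le]
    rw [e] at s1 s2
    refine ⟨s1, ?_, ?_⟩
    · exact (le_inf (inf_le_left.trans h_le) s2).trans ih2
    · have hKNL : K ≤ Subgroup.normalizer (L : Set H) :=
        (Subgroup.normal_subgroupOf_iff_le_normalizer h_le).mp hN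
      have h1 : L ⊓ Subgroup.centralizer (Cfsg.largestPReduced p H : Set H) ≤
          L ⊓ Subgroup.centralizer ((Cfsg.largestPReducedOf p K : Subgroup H) : Set H) :=
        le_inf inf_le_left ((inf_le_inf_right _ h_le).trans ih3)
      exact h1.trans (inf_centralizer_largestPReducedOf_le h_le hKNL)

/-- `Y_H ∩ L` for a subnormal subgroup `L` of `H`. -/
theorem largestPReduced_subnormal {H : Type*} [Group H] [Finite H] {p : ℕ} [Fact p.Prime]
    (L : Subgroup H) (hL : L.IsSubnormal) :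
    Cfsg.largestPReduced p H ⊓ L = Cfsg.largestPReduced p H ⊓ (Cfsg.largestPReducedOf p L) ∧
    Cfsg.IsPReducedNormal p ((Cfsg.largestPReduced p H ⊓ L).subgroupOf L) ∧
    L ⊓ Subgroup.centralizer ((Cfsg.largestPReducedOf p L : Subgroup H) : Set H) =
      L ⊓ Subgroup.centralizer (Cfsg.largestPReduced p H : Set H) ∧
    L ⊓ Subgroup.centralizer (Cfsg.largestPReduced p H : Set H) =
      L ⊓ Subgroup.centralizer ((Cfsg.largestPReduced p H ⊓ L : Subgroup H) : Set H) ∧
    (Cfsg.pResidual p H ≤ L → (⁅(Cfsg.largestPReducedOf p L), L⁆ = ⊥ ↔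
      ⁅Cfsg.largestPReduced p H, (⊤ : Subgroup H)⁆ = ⊥)) := by
  obtain ⟨a1, a2, a3⟩ := largestPReduced_subnormal_aux (p := p) hL
  have hle : Cfsg.largestPReduced p H ⊓ L ≤ Cfsg.largestPReducedOf p L :=
    le_largestPReducedOf inf_le_right a1
  have h3 : L ⊓ Subgroup.centralizer ((Cfsg.largestPReducedOf p L : Subgroup H) : Set H) =
      L ⊓ Subgroup.centralizer (Cfsg.largestPReduced p H : Set H) := by
    apply le_antisymm
    · exact le_inf inf_le_left
        ((le_inf inf_le_left (inf_le_right.trans (Subgroup.centralizer_le hle))).trans a2)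
    · exact le_inf inf_le_left a3
  refine ⟨?_, a1, h3, ?_, ?_⟩
  · apply le_antisymm
    · exact le_inf inf_le_left hle
    · exact le_inf inf_le_left (inf_le_right.trans (largestPReducedOf_le p L))
  · apply le_antisymm
    · exact le_inf inf_le_left (inf_le_right.trans (Subgroup.centralizer_le inf_le_left))
    · exact le_inf inf_le_left a2
  · intro hO
    rw [Subgroup.commutator_eq_bot_iff_le_centralizer,
      Subgroup.commutator_eq_bot_iff_le_centralizer]
    constructor
    · intro h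
      have hLC : L ≤ Subgroup.centralizer ((Cfsg.largestPReducedOf p L : Subgroup H) : Set H) :=
        Subgroup.le_centralizer_iff.mp h
      have hLC' : L ≤ Subgroup.centralizer (Cfsg.largestPReduced p H : Set H) := by
        have h4 : L ≤ L ⊓ Subgroup.centralizer
            ((Cfsg.largestPReducedOf p L : Subgroup H) : Set H) := le_inf le_rfl hLC
        rw [h3] at h4; exact h4.trans inf_le_right
      obtain ⟨-, -, hr⟩ := (isPReducedNormal_iff p _).mp
        (largestPReduced_isPReducedNormal p (L := H))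
      have htop : (⊤ : Subgroup H) ≤ Subgroup.centralizer (Cfsg.largestPReduced p H : Set H) := by
        apply hr ⊤ inferInstance
        intro d _
        obtain ⟨k, hk⟩ := exists_pow_coprime p d
        exact ⟨k, hLC' (hO (Subgroup.subset_closure hk))⟩
      exact Subgroup.le_centralizer_iff.mp htop
    · intro h
      have htop : (⊤ : Subgroup H) ≤ Subgroup.centralizer (Cfsg.largestPReduced p H : Set H) :=
        Subgroup.le_centralizer_iff.mp h
      have h4 : L ≤ L ⊓ Subgroup.centralizer (Cfsg.largestPReduced p H : Set H) :=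
        le_inf le_rfl (le_top.trans htop)
      rw [← h3] at h4
      exact Subgroup.le_centralizer_iff.mp (h4.trans inf_le_right)

end Cfsg.Agent.Lib.Helper47
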