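import Mathlib
import Cfsg.Agent.Lib.Helper47.NClosure
import Cfsg.Agent.Lib.Helper47.YSub
import Cfsg.Agent.Lib.Helper47.Subn
import Cfsg.Agent.Lib.Helper47.YL2
import Cfsg.Agent.Lib.Helper47.YMin
import Cfsg.Agent.S2821
import Cfsg.Agent.S2822
import Cfsg.Agent.S2824
import Cfsg.Agent.S2802

set_option autoImplicit false

namespace Cfsg.Agent.Lib.Helper47

/-- Members of `𝓛_H` have characteristic `p` (internal form). -/
theorem charP_of_mem_charPSubgroups {H : Type*} [Group H] {p : ℕ} {K : Subgroup H}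
    (hK : K ∈ Cfsg.charPSubgroups p H) :
    Subgroup.centralizer (Cfsg.pCore p ↥K : Set ↥K) ≤ Cfsg.pCore p ↥K := by
  intro x hx
  have h1 : (x : H) ∈ Subgroup.centralizer
      (((Cfsg.pCore p ↥K).map K.subtype : Subgroup H) : Set H) := by
    rw [Subgroup.mem_centralizer_iff]
    rintro _ ⟨y, hy, rfl⟩
    have := (Subgroup.mem_centralizer_iff.mp hx) y hy
    exact congrArg Subtype.val this
  obtain ⟨y, hy, hyx⟩ := hK.2 h1
  have : y = x := Subtype.ext hyx
  rw [← this]; exact hy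

theorem pCore_ne_bot_of_pCoreOf_ne_bot {H : Type*} [Group H] {p : ℕ} {K : Subgroup H}
    (h : Cfsg.pCoreOf p K ≠ ⊥) : Cfsg.pCore p ↥K ≠ ⊥ := by
  intro h0
  apply h
  unfold Cfsg.pCoreOf
  rw [h0, Subgroup.map_bot]

theorem pCoreOf_ne_bot_of_pCore_ne_bot {H : Type*} [Group H] {p : ℕ} {K : Subgroup H}
    (h : Cfsg.pCore p ↥K ≠ ⊥) : Cfsg.pCoreOf p K ≠ ⊥ := by
  intro h0
  apply h
  exact (Subgroup.map_eq_bot_iff_of_injective _ K.subtype_injective).mp h0

/-- In a group of parabolic characteristic `p`, every parabolic subgroup with nontrivial `p`-core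
lies in `𝓛_H`. -/
theorem mem_charPSubgroups_of_parabolic {H : Type*} [Group H] [Finite H] {p : ℕ} [Fact p.Prime]
    (hH : Cfsg.IsOfParabolicCharacteristic p H) (T : Sylow p H) {K : Subgroup H}
    (hTK : (T : Subgroup H) ≤ K) (hK : Cfsg.pCore p ↥K ≠ ⊥) : K ∈ Cfsg.charPSubgroups p H := by
  refine ⟨hK, ?_⟩
  have hRp : IsPGroup p (Cfsg.pCoreOf p K) := pCoreOf_isPGroup p K
  have hR1 : Cfsg.pCoreOf p K ≠ ⊥ := pCoreOf_ne_bot_of_pCore_ne_bot hK
  have hKN : K ≤ Subgroup.normalizer ((Cfsg.pCoreOf p K : Subgroup H) : Set H) :=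
    le_normalizer_pCoreOf p K
  have hpar : Cfsg.IsParabolic p (Subgroup.normalizer ((Cfsg.pCoreOf p K : Subgroup H) : Set H)) :=
    ⟨T, hTK.trans hKN⟩
  have hc := hH (Cfsg.pCoreOf p K) hRp hR1 hpar
  have hON : Cfsg.pCoreOf p (Subgroup.normalizer ((Cfsg.pCoreOf p K : Subgroup H) : Set H)) ≤
      Cfsg.pCoreOf p K := by
    apply le_pCoreOf_of_le_normalizer (pCoreOf_isPGroup p _)
      ((pCoreOf_le_sylow T (hTK.trans hKN)).trans hTK)
    exact hKN.trans (le_normalizer_pCoreOf p _)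
  intro x hx
  have hxN : x ∈ Subgroup.normalizer ((Cfsg.pCoreOf p K : Subgroup H) : Set H) :=
    Subgroup.centralizer_le_normalizer _ hx
  have h1 : (⟨x, hxN⟩ : ↥(Subgroup.normalizer ((Cfsg.pCoreOf p K : Subgroup H) : Set H))) ∈
      Subgroup.centralizer (Cfsg.pCore p
        ↥(Subgroup.normalizer ((Cfsg.pCoreOf p K : Subgroup H) : Set H)) : Set _) := by
    rw [Subgroup.mem_centralizer_iff]
    intro y hy
    have hyR : (y : H) ∈ Cfsg.pCoreOf p K := hON ⟨y, hy, rfl⟩
    exact Subtype.ext ((Subgroup.mem_centralizer_iff.mp hx) y hyR)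
  have h2 := hc h1
  exact hON ⟨_, h2, rfl⟩

/-- Monotonicity of `Y`: `T ≤ L ≤ M`, `M` of characteristic `p`, gives `Y_L ≤ Y_M`. -/
theorem largestPReducedOf_mono_of_sylow {H : Type*} [Group H] [Finite H] {p : ℕ} [Fact p.Prime]
    (T : Sylow p H) {L M : Subgroup H} (hTL : (T : Subgroup H) ≤ L) (hLM : L ≤ M)
    (hM : Subgroup.centralizer (Cfsg.pCore p ↥M : Set ↥M) ≤ Cfsg.pCore p ↥M) :
    Cfsg.largestPReducedOf p L ≤ Cfsg.largestPReducedOf p M := by
  have hTM : (T : Subgroup H) ≤ M := hTL.trans hLM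
  let e := Subgroup.subgroupOfEquivOfLe hLM
  have hX : Cfsg.IsPReducedNormal p ((Cfsg.largestPReduced p ↥L).map e.symm.toMonoidHom) :=
    isPReducedNormal_map_equiv e.symm (largestPReduced_isPReducedNormal p)
  have hTR : ((T.subtype hTM : Sylow p ↥M) : Subgroup ↥M) ≤ L.subgroupOf M := by
    rw [Sylow.coe_subtype]
    intro x hx
    exact Subgroup.mem_subgroupOf.mpr (hTL (Subgroup.mem_subgroupOf.mp hx))
  have hcl := Cfsg.Agent.S2802.result hM (T.subtype hTM) (L.subgroupOf M) hTR _ hX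
  rintro _ ⟨y, hy, rfl⟩
  have h1 : (L.subgroupOf M).subtype (e.symm y) ∈
      Subgroup.normalClosure ((((Cfsg.largestPReduced p ↥L).map e.symm.toMonoidHom).map
        (L.subgroupOf M).subtype : Subgroup ↥M) : Set ↥M) :=
    Subgroup.subset_normalClosure ⟨e.symm y, ⟨y, hy, rfl⟩, rfl⟩
  have h2 := le_largestPReduced hcl h1
  exact ⟨_, h2, rfl⟩

theorem omegaOne_center_sylow_ne_bot {H : Type*} [Group H] [Finite H] {p : ℕ} [Fact p.Prime]
    (T : Sylow p H) (hT : (T : Subgroup H) ≠ ⊥) :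
    Cfsg.omegaOne p ((T : Subgroup H) ⊓ Subgroup.centralizer ((T : Subgroup H) : Set H)) ≠ ⊥ := by
  have : Nontrivial ↥(T : Subgroup H) := (Subgroup.nontrivial_iff_ne_bot _).mpr hT
  have := T.isPGroup'.center_nontrivial
  have hZp : IsPGroup p ↥(Subgroup.center ↥(T : Subgroup H)) := T.isPGroup'.to_subgroup _
  have hdvd : p ∣ Nat.card ↥(Subgroup.center ↥(T : Subgroup H)) := by
    rcases hZp.card_eq_or_dvd with h | h
    · exfalso
      have := Finite.one_lt_card (α := ↥(Subgroup.center ↥(T : Subgroup H)))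
      omega
    · exact h
  obtain ⟨z, hz⟩ := exists_prime_orderOf_dvd_card' p hdvd
  intro h0
  have hp : p.Prime := Fact.out
  have hmem : ((z : ↥(T : Subgroup H)) : H) ∈ Cfsg.omegaOne p
      ((T : Subgroup H) ⊓ Subgroup.centralizer ((T : Subgroup H) : Set H)) := by
    apply Subgroup.subset_closure
    refine ⟨⟨(z : ↥(T : Subgroup H)).2, ?_⟩, ?_⟩
    · show ((z : ↥(T : Subgroup H)) : H) ∈ Subgroup.centralizer ((T : Subgroup H) : Set H)
      rw [Subgroup.mem_centralizer_iff]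
      intro t ht
      have := (Subgroup.mem_center_iff.mp z.2) ⟨t, ht⟩
      exact congrArg Subtype.val this
    · have h1 : z ^ p = 1 := by
        have h := pow_orderOf_eq_one z
        rwa [hz] at h
      have h2 := congrArg (fun w : ↥(Subgroup.center ↥(T : Subgroup H)) =>
        ((w : ↥(T : Subgroup H)) : H)) h1
      simpa using h2
  rw [h0, Subgroup.mem_bot] at hmem
  have hz1 : z = 1 := Subtype.ext (Subtype.ext hmem)
  rw [hz1, orderOf_one] at hz
  exact hp.one_lt.ne hz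

/-- `Y_L ≠ 1` for a parabolic subgroup of characteristic `p` with nontrivial `p`-core. -/
theorem largestPReducedOf_ne_bot {H : Type*} [Group H] [Finite H] {p : ℕ} [Fact p.Prime]
    (T : Sylow p H) {L : Subgroup H} (hTL : (T : Subgroup H) ≤ L)
    (hL : Subgroup.centralizer (Cfsg.pCore p ↥L : Set ↥L) ≤ Cfsg.pCore p ↥L)
    (hO : Cfsg.pCore p ↥L ≠ ⊥) : Cfsg.largestPReducedOf p L ≠ ⊥ := by
  have hT : (T : Subgroup H) ≠ ⊥ := by
    intro h0
    apply pCoreOf_ne_bot_of_pCore_ne_bot hO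
    have := pCoreOf_le_sylow T hTL
    rw [h0] at this
    exact le_bot_iff.mp this
  obtain ⟨-, -, -, h1, h2, -⟩ := Cfsg.Agent.S2821.result T L hTL hL _ rfl
  intro h0
  apply omegaOne_center_sylow_ne_bot T hT
  rw [h0] at h2
  exact le_bot_iff.mp (h1.trans h2)

/-- If `K ⊔ N = ⊤` with `N` normal and `S ∩ N ≤ K`, then `K` contains a conjugate of `S`. -/
theorem exists_conj_sylow_le_of_sup_eq_top {G : Type*} [Group G] [Finite G] {p : ℕ} [Fact p.Prime]
    (S : Sylow p G) (N K : Subgroup G) [hN : N.Normal] (htop : K ⊔ N = ⊤)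
    (hSN : (S : Subgroup G) ⊓ N ≤ K) :
    ∃ g : G, (S : Subgroup G) ≤ K.map (MulAut.conj g).toMonoidHom := by
  have hp : p.Prime := Fact.out
  obtain ⟨Q, hQ⟩ := exists_sylow_inf_normal S N
  have h1 : ¬ p ∣ ((S : Subgroup G) ⊓ N).relIndex N := by
    rw [Subgroup.relIndex, ← hQ]; exact Q.not_dvd_index
  have h2 : ¬ p ∣ K.relIndex N :=
    fun h => h1 (dvd_trans h (Subgroup.relIndex_dvd_of_le_left N hSN))
  have h3 : K.index = K.relIndex N := by
    have e1 : N.index = (N ⊓ K).relIndex K := by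
      rw [Subgroup.inf_relIndex_right, ← Subgroup.relIndex_sup_right K N, htop,
        Subgroup.relIndex_top_right]
    have e2 := Subgroup.relIndex_mul_index (inf_le_right : N ⊓ K ≤ K)
    have e3 := Subgroup.relIndex_mul_index (inf_le_left : N ⊓ K ≤ N)
    rw [← e1] at e2
    rw [Subgroup.inf_relIndex_left] at e3
    have hD0 : N.index ≠ 0 := Subgroup.index_ne_zero_of_finite
    apply Nat.eq_of_mul_eq_mul_left (Nat.pos_of_ne_zero hD0)
    rw [e2, mul_comm, e3]
  obtain ⟨SK⟩ : Nonempty (Sylow p ↥K) := inferInstance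
  have h4 : ¬ p ∣ ((SK : Subgroup ↥K).map K.subtype).index := by
    rw [Subgroup.index_map_subtype, h3]
    exact Nat.Prime.not_dvd_mul hp SK.not_dvd_index h2
  obtain ⟨g, hg⟩ := exists_conj_le_sylow S.isPGroup' ((SK.isPGroup'.map K.subtype).toSylow h4)
  have hS'K : (((SK.isPGroup'.map K.subtype).toSylow h4 : Sylow p G) : Subgroup G) ≤ K := by
    rw [IsPGroup.toSylow_coe]; rintro _ ⟨x, -, rfl⟩; exact x.2
  exact ⟨g⁻¹, (map_conj_le_iff (S : Subgroup G) K g).mp (hg.trans hS'K)⟩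

/-- Existence of members of `𝔐_H` (the basic property) above a Sylow `p`-subgroup, attached to a
given `L ∈ 𝓛_H(T)`. -/
theorem exists_frakM {H : Type*} [Group H] [Finite H] {p : ℕ} [Fact p.Prime]
    (hH : Cfsg.IsOfParabolicCharacteristic p H) (T : Sylow p H) (L : Subgroup H)
    (hTL : (T : Subgroup H) ≤ L) (hL : L ∈ Cfsg.charPSubgroups p H) :
    ∃ M : Subgroup H, (T : Subgroup H) ≤ M ∧ Cfsg.IsInFrakM p M ∧
      Cfsg.largestPReducedOf p L ≤ Cfsg.largestPReducedOf p M ∧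
      ∀ l ∈ L, ∃ m ∈ M, ∃ a ∈ Subgroup.centralizer
        ((Cfsg.largestPReducedOf p L : Subgroup H) : Set H), l = m * a := by
  classical
  set A := Subgroup.centralizer ((Cfsg.largestPReducedOf p L : Subgroup H) : Set H) with hA
  let F : Set (Subgroup H) := {X | X ∈ Cfsg.charPSubgroups p H ∧ (T : Subgroup H) ≤ X ∧
      Cfsg.largestPReducedOf p L ≤ Cfsg.largestPReducedOf p X ∧
      ∀ l ∈ L, ∃ x ∈ X, ∃ a ∈ A, l = x * a}
  have hLF : L ∈ F := ⟨hL, hTL, le_rfl, fun l hl => ⟨l, hl, 1, A.one_mem, (mul_one l).symm⟩⟩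
  have hne : Nonempty ↥F := ⟨⟨L, hLF⟩⟩
  obtain ⟨⟨X₀, hX₀⟩, hmax⟩ := Finite.exists_max
    (fun X : ↥F => Nat.card ↥(Cfsg.largestPReducedOf p (X : Subgroup H)))
  have hYL1 : Cfsg.largestPReducedOf p L ≠ ⊥ :=
    largestPReducedOf_ne_bot T hTL (charP_of_mem_charPSubgroups hL) hL.1
  obtain ⟨hX₀L, hTX₀, hYX₀, hprodX₀⟩ := hX₀
  set Y := Cfsg.largestPReducedOf p X₀ with hY
  have hY1 : Y ≠ ⊥ := fun h => hYL1 (le_bot_iff.mp (h ▸ hYX₀))
  obtain ⟨hX₀Y, hYEA, -⟩ := largestPReducedOf_spec p X₀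
  have hYp : IsPGroup p Y := isPGroup_of_isElementaryAbelian hYEA
  set Mt := Subgroup.normalizer (Y : Set H) with hMt
  have hTMt : (T : Subgroup H) ≤ Mt := hTX₀.trans hX₀Y
  have hMtO : Cfsg.pCore p ↥Mt ≠ ⊥ := by
    apply pCore_ne_bot_of_pCoreOf_ne_bot
    intro h0
    apply hY1
    have h1 : Y ≤ Cfsg.pCoreOf p Mt := le_pCoreOf_normalizer hYp
    rw [h0] at h1
    exact le_bot_iff.mp h1
  have hMtL : Mt ∈ Cfsg.charPSubgroups p H := mem_charPSubgroups_of_parabolic hH T hTMt hMtO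
  have hMtc := charP_of_mem_charPSubgroups hMtL
  have hYMt : Y ≤ Cfsg.largestPReducedOf p Mt := largestPReducedOf_mono_of_sylow T hTX₀ hX₀Y hMtc
  have hMtF : Mt ∈ F := ⟨hMtL, hTMt, hYX₀.trans hYMt, fun l hl => by
    obtain ⟨x, hx, a, ha, e⟩ := hprodX₀ l hl
    exact ⟨x, hX₀Y hx, a, ha, e⟩⟩
  have hcardle : ∀ X ∈ F, Nat.card ↥(Cfsg.largestPReducedOf p X) ≤ Nat.card ↥Y :=
    fun X hX => hmax ⟨X, hX⟩
  have hFmax : ∀ X ∈ F, Y ≤ Cfsg.largestPReducedOf p X → Cfsg.largestPReducedOf p X = Y := by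
    intro X hX hle
    exact (Subgroup.eq_of_le_of_card_ge hle (hcardle X hX)).symm
  have hYMt' : Cfsg.largestPReducedOf p Mt = Y := hFmax Mt hMtF hYMt
  have hMtmax : Mt ∈ Cfsg.maxCharPSubgroups p H := by
    refine ⟨hMtL, ?_⟩
    intro X hX hMtX
    have hXc := charP_of_mem_charPSubgroups hX
    have hmono := largestPReducedOf_mono_of_sylow T hTMt hMtX hXc
    have hXF : X ∈ F := ⟨hX, hTMt.trans hMtX, (hYX₀.trans hYMt).trans hmono, fun l hl => by
      obtain ⟨x, hx, a, ha, e⟩ := hMtF.2.2.2 l hl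
      exact ⟨x, hMtX hx, a, ha, e⟩⟩
    have h1 : Cfsg.largestPReducedOf p X = Y := hFmax X hXF (by rwa [hYMt'] at hmono)
    have h2 : X ≤ Mt := by
      have := (largestPReducedOf_spec p X).1
      rwa [h1] at this
    exact le_antisymm h2 hMtX
  set C := Subgroup.centralizer (Y : Set H) with hC
  have hCMt : C ≤ Mt := Subgroup.centralizer_le_normalizer _
  have hMtC : Mt ≤ Subgroup.normalizer (C : Set H) := normalizer_le_normalizer_centralizer Y
  have hCA : C ≤ A := Subgroup.centralizer_le hYX₀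
  let S : Set (Subgroup H) := {M | (T : Subgroup H) ≤ M ∧ M ≤ Mt ∧ M ⊔ C = Mt}
  have hMtS : Mt ∈ S := ⟨hTMt, le_rfl, sup_of_le_left hCMt⟩
  obtain ⟨M, ⟨hTM, hMMt, hMC⟩, hMmin⟩ :=
    WellFounded.has_min (wellFounded_lt (α := Subgroup H)) S ⟨Mt, hMtS⟩
  have hMmin' : ∀ M' : Subgroup H, (T : Subgroup H) ≤ M' → M' ≤ M → M' ⊔ C = Mt → M' = M := by
    intro M' h1 h2 h3
    by_contra hne
    exact hMmin M' ⟨h1, h2.trans hMMt, h3⟩ (lt_of_le_of_ne h2 hne)
  have hMO : Cfsg.pCore p ↥M ≠ ⊥ := by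
    apply pCore_ne_bot_of_pCoreOf_ne_bot
    intro h0
    apply pCoreOf_ne_bot_of_pCore_ne_bot hMtO
    have h1 : Cfsg.pCoreOf p Mt ≤ Cfsg.pCoreOf p M :=
      le_pCoreOf_of_le_normalizer (pCoreOf_isPGroup p Mt)
        ((pCoreOf_le_sylow T hTMt).trans hTM) (hMMt.trans (le_normalizer_pCoreOf p Mt))
    rw [h0] at h1
    exact le_bot_iff.mp h1
  have hML : M ∈ Cfsg.charPSubgroups p H := mem_charPSubgroups_of_parabolic hH T hTM hMO
  have hMc := charP_of_mem_charPSubgroups hML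
  have hYM : Cfsg.largestPReducedOf p M = Y := by
    apply le_antisymm
    · have := largestPReducedOf_mono_of_sylow T hTM hMMt hMtc
      rwa [hYMt'] at this
    · have h := Cfsg.Agent.S2822.result T M Mt hTM hTMt hMc hMtc (by
        rw [hYMt']
        show M ⊔ C = Mt ⊔ C
        rw [hMC, sup_of_le_left hCMt])
      rwa [hYMt'] at h
  have hprodM : ∀ l ∈ L, ∃ m ∈ M, ∃ a ∈ A, l = m * a := by
    intro l hl
    obtain ⟨x, hx, a, ha, e⟩ := hMtF.2.2.2 l hl
    have hx' : x ∈ ((M ⊔ C : Subgroup H) : Set H) := by rw [hMC]; exact hx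
    rw [Subgroup.coe_mul_of_left_le_normalizer_right M C (hMMt.trans hMtC)] at hx'
    obtain ⟨m, hm, c, hc, rfl⟩ := hx'
    exact ⟨m, hm, c * a, A.mul_mem (hCA hc) ha, by rw [e, mul_assoc]⟩
  have huniq : ∀ X ∈ Cfsg.maxCharPSubgroups p H, M ≤ X → X = Mt := by
    intro X hX hMX
    have hXc := charP_of_mem_charPSubgroups hX.1
    have hYX : Y ≤ Cfsg.largestPReducedOf p X := by
      have := largestPReducedOf_mono_of_sylow T hTM hMX hXc
      rwa [hYM] at this
    have hXF : X ∈ F := ⟨hX.1, hTM.trans hMX, hYX₀.trans hYX, fun l hl => by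
      obtain ⟨m, hm, a, ha, e⟩ := hprodM l hl
      exact ⟨m, hMX hm, a, ha, e⟩⟩
    have h1 : Cfsg.largestPReducedOf p X = Y := hFmax X hXF hYX
    have h2 : X ≤ Mt := by
      have := (largestPReducedOf_spec p X).1
      rwa [h1] at this
    exact (hX.2 Mt hMtL h2).symm
  have hTNC : (T : Subgroup H) ≤ Subgroup.normalizer (C : Set H) := (hTM.trans hMMt).trans hMtC
  have hMT₀ : M ≤ Subgroup.normalizer (((T : Subgroup H) ⊓ C : Subgroup H) : Set H) := by
    have h1 := le_inf_normalizer_sup_inf T hTM (hMMt.trans hMtC)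
    have h2 : M ⊓ Subgroup.normalizer (((T : Subgroup H) ⊓ C : Subgroup H) : Set H) = M := by
      apply hMmin' _ ?_ inf_le_left ?_
      · refine le_inf hTM ?_
        exact (le_inf Subgroup.le_normalizer hTNC).trans Subgroup.inf_normalizer_le_normalizer_inf
      · apply le_antisymm
        · exact sup_le (inf_le_left.trans hMMt) hCMt
        · rw [← hMC]
          exact sup_le (h1.trans (sup_le le_sup_left (inf_le_right.trans le_sup_right)))
            le_sup_right
    exact h2.ge.trans inf_le_right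
  have hMNC : M ≤ Subgroup.normalizer ((M ⊓ C : Subgroup H) : Set H) :=
    (le_inf Subgroup.le_normalizer (hMMt.trans hMtC)).trans
      Subgroup.inf_normalizer_le_normalizer_inf
  have hclosed : Cfsg.IsPClosed p ↥(M ⊓ C) := by
    obtain ⟨P, hP⟩ := exists_sylow_subgroupOf_of_le_normalizer T (M ⊓ C) (hTM.trans hMNC)
    rw [isPClosed_iff_sylow_le_pCore P]
    refine le_pCore ⟨?_⟩ P.isPGroup'
    intro x hx g
    rw [hP] at hx ⊢
    rw [Subgroup.mem_subgroupOf] at hx ⊢
    have hxT₀ : (x : H) ∈ (T : Subgroup H) ⊓ C := ⟨hx, x.2.2⟩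
    have hg : (g : H) ∈ Subgroup.normalizer (((T : Subgroup H) ⊓ C : Subgroup H) : Set H) :=
      hMT₀ g.2.1
    have := (Subgroup.mem_normalizer_iff.mp hg (x : H)).mp hxT₀
    exact this.1
  have hfrat : ((M ⊓ C).subgroupOf M).map (QuotientGroup.mk' (Cfsg.pCore p ↥M)) ≤
      frattini (↥M ⧸ Cfsg.pCore p ↥M) := by
    rw [frattini, Order.radical]
    refine le_iInf₂ (fun Kb hKb => ?_)
    have hK : IsCoatom (Kb.comap (QuotientGroup.mk' (Cfsg.pCore p ↥M))) :=
      Subgroup.isCoatom_comap_of_surjective (QuotientGroup.mk'_surjective _) hKb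
    have hOK : Cfsg.pCore p ↥M ≤ Kb.comap (QuotientGroup.mk' (Cfsg.pCore p ↥M)) := by
      conv_lhs => rw [← QuotientGroup.ker_mk' (Cfsg.pCore p ↥M)]
      exact Subgroup.ker_le_comap _ _
    suffices h : (M ⊓ C).subgroupOf M ≤ Kb.comap (QuotientGroup.mk' (Cfsg.pCore p ↥M)) from
      (Subgroup.map_mono h).trans (Subgroup.map_comap_le _ _)
    generalize Kb.comap (QuotientGroup.mk' (Cfsg.pCore p ↥M)) = K at hK hOK ⊢
    by_contra hNK
    have hNn : ((M ⊓ C).subgroupOf M).Normal :=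
      (Subgroup.normal_subgroupOf_iff_le_normalizer inf_le_left).mpr hMNC
    have htop : K ⊔ (M ⊓ C).subgroupOf M = ⊤ :=
      hK.2 _ (lt_of_le_of_ne le_sup_left (fun h => hNK (by rw [h]; exact le_sup_right)))
    have hSN : ((T.subtype hTM : Sylow p ↥M) : Subgroup ↥M) ⊓ (M ⊓ C).subgroupOf M ≤ K := by
      refine le_trans ?_ hOK
      have hnorm : (((T : Subgroup H) ⊓ C).subgroupOf M).Normal :=
        (Subgroup.normal_subgroupOf_iff_le_normalizer (inf_le_left.trans hTM)).mpr hMT₀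
      have hpg : IsPGroup p ↥(((T : Subgroup H) ⊓ C).subgroupOf M) :=
        (T.isPGroup'.to_le inf_le_left).comap_of_injective M.subtype M.subtype_injective
      refine le_trans ?_ (le_pCore hnorm hpg)
      rintro x ⟨hx1, hx2⟩
      have hx1' : x ∈ (T : Subgroup H).subgroupOf M := by
        have := hx1
        rw [SetLike.mem_coe, Sylow.coe_subtype] at this
        exact this
      exact Subgroup.mem_subgroupOf.mpr
        ⟨Subgroup.mem_subgroupOf.mp hx1', (Subgroup.mem_subgroupOf.mp hx2).2⟩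
    obtain ⟨g, hg⟩ := exists_conj_sylow_le_of_sup_eq_top (T.subtype hTM)
      ((M ⊓ C).subgroupOf M) K htop hSN
    have hM'M : (K.map (MulAut.conj g).toMonoidHom).map M.subtype ≤ M := by
      rintro _ ⟨x, -, rfl⟩; exact x.2
    have hTM' : (T : Subgroup H) ≤ (K.map (MulAut.conj g).toMonoidHom).map M.subtype := by
      intro t ht
      have : (⟨t, hTM ht⟩ : ↥M) ∈ ((T.subtype hTM : Sylow p ↥M) : Subgroup ↥M) := by
        rw [Sylow.coe_subtype]; exact Subgroup.mem_subgroupOf.mpr ht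
      exact ⟨_, hg this, rfl⟩
    have htop' : K.map (MulAut.conj g).toMonoidHom ⊔ (M ⊓ C).subgroupOf M = ⊤ := by
      have := congrArg (Subgroup.map (MulAut.conj g).toMonoidHom) htop
      rw [Subgroup.map_sup, Subgroup.map_top_of_surjective _ (MulAut.conj g).surjective] at this
      rwa [map_conj_eq_of_mem_normalizer (A := (M ⊓ C).subgroupOf M) (g := g) (by
        rw [Subgroup.normalizer_eq_top_iff.mpr hNn]; exact Subgroup.mem_top g)] at this
    have hMeq : (K.map (MulAut.conj g).toMonoidHom).map M.subtype ⊔ (M ⊓ C) = M := by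
      have := congrArg (Subgroup.map M.subtype) htop'
      rw [Subgroup.map_sup, Subgroup.subgroupOf_map_subtype, ← MonoidHom.range_eq_map,
        Subgroup.range_subtype] at this
      rwa [inf_of_le_left (inf_le_left : M ⊓ C ≤ M)] at this
    have hM'eq : (K.map (MulAut.conj g).toMonoidHom).map M.subtype = M := by
      apply hMmin' _ hTM' hM'M
      apply le_antisymm
      · exact sup_le (hM'M.trans hMMt) hCMt
      · rw [← hMC]
        refine sup_le ?_ le_sup_right
        calc M = (K.map (MulAut.conj g).toMonoidHom).map M.subtype ⊔ (M ⊓ C) := hMeq.symm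
          _ ≤ (K.map (MulAut.conj g).toMonoidHom).map M.subtype ⊔ C :=
            sup_le_sup_left inf_le_right _
    have hKg : K.map (MulAut.conj g).toMonoidHom = ⊤ := by
      apply Subgroup.map_injective M.subtype_injective
      rw [← MonoidHom.range_eq_map, Subgroup.range_subtype]; exact hM'eq
    have hKtop : K = ⊤ := by
      have := congrArg (Subgroup.map (MulAut.conj g⁻¹).toMonoidHom) hKg
      rwa [map_conj_inv_map_conj,
        Subgroup.map_top_of_surjective _ (MulAut.conj g⁻¹).surjective] at this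
    exact hK.1 hKtop
  refine ⟨M, hTM, ⟨hML, ?_, ?_, ?_, ?_, ?_⟩, ?_, hprodM⟩
  · rw [hYM]
    show M ⊔ C ∈ Cfsg.maxCharPSubgroups p H
    rw [hMC]; exact hMtmax
  · intro X hX hMX
    rw [hYM]
    show X = M ⊔ C
    rw [hMC]; exact huniq X hX hMX
  · rw [hYM]
    show Y = Cfsg.largestPReducedOf p (M ⊔ C)
    rw [hMC, hYMt']
  · rw [hYM]; exact hclosed
  · rw [hYM]; exact hfrat
  · rw [hYM]; exact hYX₀

end Cfsg.Agent.Lib.Helper47
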