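import Mathlib
import Cfsg.Agent.Lib.Helper47.Basic

set_option autoImplicit false

namespace Cfsg.Agent.Lib.Helper47

open scoped commutatorElement Pointwise

/-- If `[A, B]` is central and finite of order `m`, then `a ^ m` centralizes `B` for `a ∈ A`. -/
theorem pow_card_mem_centralizer_of_commutator_le_center {X : Type*} [Group X] (A B : Subgroup X)
    (hcen : ⁅A, B⁆ ≤ Subgroup.center X) {a : X} (ha : a ∈ A) :
    a ^ Nat.card ↥⁅A, B⁆ ∈ Subgroup.centralizer (B : Set X) := by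
  rw [Subgroup.mem_centralizer_iff]
  intro b hb
  have hz : ⁅a⁻¹, b⁆ ∈ ⁅A, B⁆ := Subgroup.commutator_mem_commutator (A.inv_mem ha) hb
  have hzc : ⁅a⁻¹, b⁆ ∈ Subgroup.center X := hcen hz
  have e1 : b * a * b⁻¹ = a * ⁅a⁻¹, b⁆ := by
    simp [commutatorElement_def, mul_assoc]
  have e2 : (b * a * b⁻¹) ^ Nat.card ↥⁅A, B⁆ = b * a ^ Nat.card ↥⁅A, B⁆ * b⁻¹ := conj_pow
  have hc : Commute a ⁅a⁻¹, b⁆ := (Subgroup.mem_center_iff.mp hzc a)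
  have e3 : (a * ⁅a⁻¹, b⁆) ^ Nat.card ↥⁅A, B⁆ =
      a ^ Nat.card ↥⁅A, B⁆ * ⁅a⁻¹, b⁆ ^ Nat.card ↥⁅A, B⁆ := hc.mul_pow _
  have e4 : ⁅a⁻¹, b⁆ ^ Nat.card ↥⁅A, B⁆ = 1 := by
    have h := pow_card_eq_one' (G := ↥⁅A, B⁆) (x := ⟨_, hz⟩)
    have h' := congrArg Subtype.val h
    rw [Subgroup.coe_pow, Subgroup.coe_one] at h'
    exact h'
  rw [e1, e3, e4, mul_one] at e2
  calc b * a ^ Nat.card ↥⁅A, B⁆ = (b * a ^ Nat.card ↥⁅A, B⁆ * b⁻¹) * b := by group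
    _ = a ^ Nat.card ↥⁅A, B⁆ * b := by rw [← e2]

/-- Two normal subgroups `A₁`, `A₂` with `A₁ A₂ = X`, `X` generated by `p`-elements and
`[A₁, A₂]` a central `p'`-group, commute. -/
theorem commutator_eq_bot_of_central_coprime {X : Type*} [Group X] {p : ℕ}
    (hgen : Subgroup.closure {x : X | ∃ k : ℕ, x ^ p ^ k = 1} = ⊤)
    (A₁ A₂ : Subgroup X) [h₁ : A₁.Normal] [h₂ : A₂.Normal] (hsup : A₁ ⊔ A₂ = ⊤)
    (hcen : ⁅A₁, A₂⁆ ≤ Subgroup.center X) (hcop : (Nat.card ↥⁅A₁, A₂⁆).Coprime p) :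
    ⁅A₁, A₂⁆ = ⊥ := by
  have hcen' : ⁅A₂, A₁⁆ ≤ Subgroup.center X := by rw [Subgroup.commutator_comm]; exact hcen
  have hcard' : Nat.card ↥⁅A₂, A₁⁆ = Nat.card ↥⁅A₁, A₂⁆ := by rw [Subgroup.commutator_comm]
  obtain ⟨m, hm⟩ : ∃ m, m = Nat.card ↥⁅A₁, A₂⁆ := ⟨_, rfl⟩
  obtain ⟨B₁, hB₁⟩ : ∃ B₁ : Subgroup X, B₁ = A₁ ⊓ Subgroup.centralizer (A₂ : Set X) := ⟨_, rfl⟩
  obtain ⟨B₂, hB₂⟩ : ∃ B₂ : Subgroup X, B₂ = A₂ ⊓ Subgroup.centralizer (A₁ : Set X) := ⟨_, rfl⟩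
  have hB₁n : B₁.Normal := by rw [hB₁]; infer_instance
  have hB₂n : B₂.Normal := by rw [hB₂]; infer_instance
  obtain ⟨N, hN⟩ : ∃ N : Subgroup X, N = B₁ ⊔ B₂ := ⟨_, rfl⟩
  have hNn : N.Normal := by rw [hN]; infer_instance
  have c1 : ∀ a ∈ A₁, a ^ m ∈ N := by
    intro a ha
    rw [hN, hm]
    apply (le_sup_left : B₁ ≤ B₁ ⊔ B₂)
    rw [hB₁]
    exact Subgroup.mem_inf.mpr ⟨A₁.pow_mem ha _,
      pow_card_mem_centralizer_of_commutator_le_center A₁ A₂ hcen ha⟩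
  have c2 : ∀ b ∈ A₂, b ^ m ∈ N := by
    intro b hb
    rw [hN, hm, ← hcard']
    apply (le_sup_right : B₂ ≤ B₁ ⊔ B₂)
    rw [hB₂]
    exact Subgroup.mem_inf.mpr ⟨A₂.pow_mem hb _,
      pow_card_mem_centralizer_of_commutator_le_center A₂ A₁ hcen' hb⟩
  have c3 : ∀ a ∈ A₁, ∀ b ∈ A₂, ⁅a, b⁆ ∈ N := by
    intro a ha b hb
    rw [hN]
    apply (le_sup_left : B₁ ≤ B₁ ⊔ B₂)
    rw [hB₁]
    have hab : ⁅a, b⁆ ∈ ⁅A₁, A₂⁆ := Subgroup.commutator_mem_commutator ha hb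
    exact Subgroup.mem_inf.mpr ⟨Subgroup.commutator_le_left A₁ A₂ hab,
      Subgroup.center_le_centralizer _ (hcen hab)⟩
  have c4 : ∀ x : X, x ^ m ∈ N := by
    intro x
    have hx : x ∈ ((A₁ ⊔ A₂ : Subgroup X) : Set X) := by rw [hsup]; trivial
    rw [Subgroup.mul_normal] at hx
    obtain ⟨a, ha, b, hb, rfl⟩ := hx
    rw [← QuotientGroup.eq_one_iff (N := N)]
    have hcomm : Commute ((a : X) : X ⧸ N) ((b : X) : X ⧸ N) := by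
      have h := (QuotientGroup.eq_one_iff (N := N) ⁅a, b⁆).mpr (c3 a ha b hb)
      rw [commutatorElement_def, QuotientGroup.mk_mul, QuotientGroup.mk_mul, QuotientGroup.mk_mul,
        QuotientGroup.mk_inv, QuotientGroup.mk_inv] at h
      show ((a : X) : X ⧸ N) * ((b : X) : X ⧸ N) = ((b : X) : X ⧸ N) * ((a : X) : X ⧸ N)
      have h' := congrArg (fun t => t * (((b : X) : X ⧸ N) * ((a : X) : X ⧸ N))) h
      simpa [mul_assoc] using h'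
    rw [QuotientGroup.mk_pow, QuotientGroup.mk_mul, hcomm.mul_pow, ← QuotientGroup.mk_pow,
      ← QuotientGroup.mk_pow, (QuotientGroup.eq_one_iff _).mpr (c1 a ha),
      (QuotientGroup.eq_one_iff _).mpr (c2 b hb), one_mul]
  have c5 : N = ⊤ := by
    rw [eq_top_iff, ← hgen, Subgroup.closure_le]
    rintro x ⟨k, hk⟩
    have hcop2 : m.Coprime (orderOf x) := by
      rw [hm]
      exact Nat.Coprime.coprime_dvd_right (orderOf_dvd_of_pow_eq_one hk)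
        (Nat.Coprime.pow_right k hcop)
    obtain ⟨j, hj⟩ := exists_pow_eq_self_of_coprime hcop2
    rw [← hj]
    exact N.pow_mem (c4 x) j
  rw [Subgroup.commutator_eq_bot_iff_le_centralizer]
  intro a ha
  rw [Subgroup.mem_centralizer_iff]
  intro b hb
  have haN : a ∈ ((B₁ ⊔ B₂ : Subgroup X) : Set X) := by rw [← hN, c5]; trivial
  have hbN : b ∈ ((B₁ ⊔ B₂ : Subgroup X) : Set X) := by rw [← hN, c5]; trivial
  rw [Subgroup.mul_normal] at haN hbN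
  obtain ⟨a₁, ha₁, a₂, ha₂, rfl⟩ := haN
  obtain ⟨b₁, hb₁, b₂, hb₂, rfl⟩ := hbN
  rw [hB₁] at ha₁ hb₁
  rw [hB₂] at ha₂ hb₂
  have ha₂A : a₂ ∈ A₁ := by
    have := A₁.mul_mem (A₁.inv_mem ha₁.1) ha
    simpa using this
  have hb₁A : b₁ ∈ A₂ := by
    have := A₂.mul_mem hb (A₂.inv_mem hb₂.1)
    simpa using this
  have k1 := Subgroup.mem_centralizer_iff.mp ha₁.2
  have k2 := Subgroup.mem_centralizer_iff.mp hb₂.2
  have k3 := Subgroup.mem_centralizer_iff.mp hb₁.2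
  have e1 := k1 (b₁ * b₂) hb
  have e2 := k2 a₂ ha₂A
  have e3 := k3 a₂ ha₂.1
  calc b₁ * b₂ * (a₁ * a₂) = (b₁ * b₂ * a₁) * a₂ := by group
    _ = a₁ * (b₁ * b₂) * a₂ := by rw [e1]
    _ = a₁ * b₁ * (b₂ * a₂) := by group
    _ = a₁ * b₁ * (a₂ * b₂) := by rw [e2]
    _ = a₁ * (b₁ * a₂) * b₂ := by group
    _ = a₁ * (a₂ * b₁) * b₂ := by rw [e3]
    _ = a₁ * a₂ * (b₁ * b₂) := by group

end Cfsg.Agent.Lib.Helper47
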