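import Mathlib
import Cfsg.Agent.Lib.Helper47.FrakM
import Cfsg.Agent.Lib.Helper47.Large
import Cfsg.Agent.Lib.Helper47.WeakClosed

set_option autoImplicit false

namespace Cfsg.Agent.Lib.Helper47

/-- `Q!`: an element commuting with a nontrivial central element of a Sylow subgroup containing
the large subgroup `Q` normalizes `Q`. -/
theorem mem_normalizer_of_isLarge_of_commute {H : Type*} [Group H] {p : ℕ}
    {Q : Subgroup H} (hLg : Cfsg.IsLarge Q) (T : Sylow p H)
    (hQT : Q ≤ (T : Subgroup H)) {w : H} (hw1 : w ≠ 1) (hwc : ∀ g ∈ (T : Subgroup H), g * w = w * g)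
    {d : H} (hd : w * d = d * w) : d ∈ Subgroup.normalizer (Q : Set H) := by
  have hU : Subgroup.zpowers w ≤ Subgroup.centralizer (Q : Set H) := by
    rw [Subgroup.zpowers_le, Subgroup.mem_centralizer_iff]
    intro q hq
    exact hwc q (hQT hq)
  have hU1 : Subgroup.zpowers w ≠ ⊥ := fun h => hw1 (Subgroup.zpowers_eq_bot.mp h)
  apply hLg.2 _ hU hU1
  apply Subgroup.centralizer_le_normalizer
  rw [Subgroup.mem_centralizer_iff]
  rintro _ ⟨k, rfl⟩
  have hc : Commute w d := hd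
  exact (hc.zpow_left k).eq

/-- With a nontrivial large `p`-subgroup `Q ≤ T`, every subgroup `K ≥ T` with `O_p(K) ≠ 1`
satisfies `C_H(O_p(K)) ≤ O_p(K)`. -/
theorem centralizer_pCoreOf_le_of_isLarge {H : Type*} [Group H] [Finite H] {p : ℕ} [Fact p.Prime]
    {Q : Subgroup H} (hQp : IsPGroup p ↥Q) (hLg : Cfsg.IsLarge Q) (T : Sylow p H)
    (hQT : Q ≤ (T : Subgroup H)) {K : Subgroup H} (hTK : (T : Subgroup H) ≤ K)
    (hK : Cfsg.pCoreOf p K ≠ ⊥) :
    Subgroup.centralizer ((Cfsg.pCoreOf p K : Subgroup H) : Set H) ≤ Cfsg.pCoreOf p K := by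
  have hPT : Cfsg.pCoreOf p K ≤ (T : Subgroup H) := pCoreOf_le_sylow T hTK
  have hKN : K ≤ Subgroup.normalizer ((Cfsg.pCoreOf p K : Subgroup H) : Set H) :=
    le_normalizer_pCoreOf p K
  have hON : Cfsg.pCoreOf p (Subgroup.normalizer ((Cfsg.pCoreOf p K : Subgroup H) : Set H)) ≤
      Cfsg.pCoreOf p K := by
    apply le_pCoreOf_of_le_normalizer (pCoreOf_isPGroup p _)
      ((pCoreOf_le_sylow T (hTK.trans hKN)).trans hTK)
    exact hKN.trans (le_normalizer_pCoreOf p _)
  have hND : Subgroup.normalizer ((Cfsg.pCoreOf p K : Subgroup H) : Set H) ≤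
      Subgroup.normalizer ((Subgroup.centralizer ((Cfsg.pCoreOf p K : Subgroup H) : Set H) :
        Subgroup H) : Set H) := normalizer_le_normalizer_centralizer _
  obtain ⟨w, hwP, hw1, hwc⟩ :=
    exists_mem_center_of_normal_subgroup T.isPGroup' hPT (hTK.trans hKN) hK
  have hDQ : Subgroup.centralizer ((Cfsg.pCoreOf p K : Subgroup H) : Set H) ≤
      Subgroup.normalizer (Q : Set H) := by
    intro d hd
    exact mem_normalizer_of_isLarge_of_commute hLg T hQT hw1 hwc
      ((Subgroup.mem_centralizer_iff.mp hd) w hwP)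
  have hQ₁P : Q ⊓ Subgroup.centralizer ((Cfsg.pCoreOf p K : Subgroup H) : Set H) ≤
      Cfsg.pCoreOf p K := by
    have h1 : Q ⊓ Subgroup.centralizer ((Cfsg.pCoreOf p K : Subgroup H) : Set H) ≤
        Cfsg.pCoreOf p (Subgroup.centralizer ((Cfsg.pCoreOf p K : Subgroup H) : Set H)) :=
      le_pCoreOf_of_le_normalizer (hQp.to_le inf_le_left) inf_le_right
        ((le_inf hDQ Subgroup.le_normalizer).trans Subgroup.inf_normalizer_le_normalizer_inf)
    have h2 : Cfsg.pCoreOf p (Subgroup.centralizer ((Cfsg.pCoreOf p K : Subgroup H) : Set H)) ≤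
        Cfsg.pCoreOf p (Subgroup.normalizer ((Cfsg.pCoreOf p K : Subgroup H) : Set H)) :=
      le_pCoreOf_of_le_normalizer (pCoreOf_isPGroup p _)
        ((pCoreOf_le p _).trans (Subgroup.centralizer_le_normalizer _))
        (hND.trans (normalizer_le_normalizer_pCoreOf p _))
    exact (h1.trans h2).trans hON
  have hDp : IsPGroup p ↥(Subgroup.centralizer ((Cfsg.pCoreOf p K : Subgroup H) : Set H)) := by
    apply isPGroup_of_forall_coprime_eq_one
    intro x hx hxc
    have hxQ : ∀ q ∈ (Q : Set H), q * x = x * q := by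
      apply comm_of_step hxc (Q ⊓ Subgroup.centralizer ((Cfsg.pCoreOf p K : Subgroup H) : Set H))
        (Q : Set H)
      · intro b hb
        exact (Subgroup.mem_centralizer_iff.mp hx) b (hQ₁P hb)
      · exact hQp.to_le inf_le_left
      · intro q hq
        refine ⟨?_, ?_⟩
        · have h1 : x * q⁻¹ * x⁻¹ ∈ Q :=
            (Subgroup.mem_normalizer_iff.mp (hDQ hx) q⁻¹).mp (Q.inv_mem hq)
          have : q * x * q⁻¹ * x⁻¹ = q * (x * q⁻¹ * x⁻¹) := by group
          rw [this]; exact Q.mul_mem hq h1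
        · have hqN : q ∈ Subgroup.normalizer ((Subgroup.centralizer
              ((Cfsg.pCoreOf p K : Subgroup H) : Set H) : Subgroup H) : Set H) :=
            hND (hKN (hTK (hQT hq)))
          have h1 := (Subgroup.mem_normalizer_iff.mp hqN x).mp hx
          exact Subgroup.mul_mem _ h1 (Subgroup.inv_mem _ hx)
    have hxC : x ∈ Subgroup.centralizer (Q : Set H) := by
      rw [Subgroup.mem_centralizer_iff]; exact hxQ
    exact eq_one_of_isPGroup_of_coprime hQp (hLg.1 hxC) hxc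
  have hDle : Subgroup.centralizer ((Cfsg.pCoreOf p K : Subgroup H) : Set H) ≤
      Cfsg.pCoreOf p (Subgroup.normalizer ((Cfsg.pCoreOf p K : Subgroup H) : Set H)) :=
    le_pCoreOf_of_le_normalizer hDp (Subgroup.centralizer_le_normalizer _) hND
  exact hDle.trans hON

/-- A group with a nontrivial large `p`-subgroup has parabolic characteristic `p`. -/
theorem isOfParabolicCharacteristic_of_isLarge {H : Type*} [Group H] [Finite H] {p : ℕ}
    [Fact p.Prime] {Q : Subgroup H} (hQp : IsPGroup p ↥Q) (hQ1 : Q ≠ ⊥) (hLg : Cfsg.IsLarge Q) :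
    Cfsg.IsOfParabolicCharacteristic p H := by
  rintro R hRp hR1 ⟨T, hT⟩
  obtain ⟨g, hg⟩ := exists_conj_le_sylow hQp T
  have hK : Cfsg.pCoreOf p (Subgroup.normalizer (R : Set H)) ≠ ⊥ := by
    intro h0
    apply hR1
    have := le_pCoreOf_normalizer hRp
    rw [h0] at this
    exact le_bot_iff.mp this
  have h := centralizer_pCoreOf_le_of_isLarge (hQp.map _) (isLarge_map_conj hLg g) T hg hT hK
  exact charP_of_mem_charPSubgroups ⟨pCore_ne_bot_of_pCoreOf_ne_bot hK, h⟩

/-- Comparison of weak closures of a large subgroup modulo a subgroup normalizing it. -/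
theorem weakClosure_le_of_le_sup {H : Type*} [Group H] [Finite H] {p : ℕ} [Fact p.Prime]
    {Q : Subgroup H} (hQp : IsPGroup p ↥Q) (hQ1 : Q ≠ ⊥) (hLg : Cfsg.IsLarge Q) (S : Sylow p H)
    (hQS : Q ≤ (S : Subgroup H)) {X X' A : Subgroup H} (hSX : (S : Subgroup H) ≤ X)
    (hSX' : (S : Subgroup H) ≤ X') (hX'A : X' ≤ Subgroup.normalizer (A : Set H))
    (hAQ : A ≤ Subgroup.normalizer (Q : Set H)) (hXX' : X ≤ X' ⊔ A) :
    Cfsg.weakClosure Q X ≤ Cfsg.weakClosure Q X' := by
  unfold Cfsg.weakClosure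
  apply iSup_le
  rintro ⟨g, hg⟩
  suffices h : Q.map (MulAut.conj g).toMonoidHom ≤ X' from
    le_iSup_of_le (⟨g, h⟩ : {g : H // Q.map (MulAut.conj g).toMonoidHom ≤ X'}) le_rfl
  have hQgp : IsPGroup p ↥((Q.map (MulAut.conj g).toMonoidHom).subgroupOf X) :=
    (hQp.map _).comap_of_injective X.subtype X.subtype_injective
  obtain ⟨l, hl⟩ := exists_conj_le_sylow hQgp (S.subtype hSX)
  have h1 : Q.map (MulAut.conj ((l : H) * g)).toMonoidHom ≤ (S : Subgroup H) := by
    rintro _ ⟨q, hq, rfl⟩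
    have hq' : (⟨g * q * g⁻¹, hg ⟨q, hq, rfl⟩⟩ : ↥X) ∈
        (Q.map (MulAut.conj g).toMonoidHom).subgroupOf X :=
      Subgroup.mem_subgroupOf.mpr ⟨q, hq, rfl⟩
    have h2 := hl ⟨_, hq', rfl⟩
    rw [Sylow.coe_subtype, Subgroup.mem_subgroupOf] at h2
    simpa [mul_assoc] using h2
  have h2 := IsLarge_mem_normalizer_of_le_sylow hLg hQ1 S hQS _ h1
  have h3 : Q.map (MulAut.conj ((l : H) * g)).toMonoidHom = Q := map_conj_eq_of_mem_normalizer h2
  have h4 : Q.map (MulAut.conj g).toMonoidHom = Q.map (MulAut.conj (l : H)⁻¹).toMonoidHom := by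
    rw [← map_conj_map_conj] at h3
    have := congrArg (Subgroup.map (MulAut.conj (l : H)⁻¹).toMonoidHom) h3
    rwa [map_conj_inv_map_conj] at this
  have hl' : (l : H)⁻¹ ∈ ((X' ⊔ A : Subgroup H) : Set H) := hXX' (X.inv_mem l.2)
  rw [Subgroup.coe_mul_of_left_le_normalizer_right X' A hX'A] at hl'
  obtain ⟨x', hx', a, ha, e⟩ := hl'
  rw [h4, ← e, ← map_conj_map_conj, map_conj_eq_of_mem_normalizer (hAQ ha)]
  rintro _ ⟨q, hq, rfl⟩
  exact X'.mul_mem (X'.mul_mem hx' (hSX' (hQS hq))) (X'.inv_mem hx')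

end Cfsg.Agent.Lib.Helper47
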