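import Mathlib
import Cfsg.Agent.Lib.Helper50.FstarAction
import Cfsg.Agent.Lib.Helper30.Bender
import Cfsg.Agent.Lib.Helper32.FratLemmas
import Cfsg.Agent.Lib.Helper48.Generation
import Cfsg.Agent.Lib.Helper47.Subn
import Cfsg.Agent.Lib.Helper47.Large
import Cfsg.Agent.S1318

/-!
# The action of a `p`-subgroup `Q` on `F*(H)` when `O_p(H) = 1` (helper47)

* `centralizer_sup_eq`, `normalizer_inf_le_normalizer_commutator` : formal lemmas.
* `map_pow_card_eq_one_of_commutator_eq` : the "norm trick": if `L = [L, Q]` then any homomorphism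
  of `L` to a commutative group sends `C_L(Q)` to elements of exponent `|Q|`.
* `card_abelianization_coprime` : `F(M) E(M) = M`, `O_p(M) = 1` imply `M / M'` is a `p'`-group.
* `mem_commutator_of_mem_centralizer` : then `C_L(Q) ≤ L'` when `L = [L, Q]`.
* `exists_orderOf_eq_of_dvd_card_of_le_normalizer` : a `p`-group `Q` normalizing `C` with
  `p ∣ |C|` centralizes an element of order `p` of `C`.
* `fstar_data_type`, `fstar_Q` : the main statement.
-/

set_option autoImplicit false

namespace Cfsg.Agent.Lib.Helper47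

open scoped commutatorElement Pointwise

/-- Centralizer of a join. -/
theorem centralizer_sup_eq {G : Type*} [Group G] (A B : Subgroup G) :
    Subgroup.centralizer ((A ⊔ B : Subgroup G) : Set G) =
      Subgroup.centralizer (A : Set G) ⊓ Subgroup.centralizer (B : Set G) := by
  apply le_antisymm
  · exact le_inf (Subgroup.centralizer_le (SetLike.coe_subset_coe.mpr le_sup_left))
      (Subgroup.centralizer_le (SetLike.coe_subset_coe.mpr le_sup_right))
  · rw [Subgroup.le_centralizer_iff]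
    exact sup_le (Subgroup.le_centralizer_iff.mp inf_le_left)
      (Subgroup.le_centralizer_iff.mp inf_le_right)

/-- `N(A) ∩ N(B) ≤ N([A,B])`. -/
theorem normalizer_inf_le_normalizer_commutator {G : Type*} [Group G] (A B : Subgroup G) :
    Subgroup.normalizer (A : Set G) ⊓ Subgroup.normalizer (B : Set G) ≤
      Subgroup.normalizer ((⁅A, B⁆ : Subgroup G) : Set G) := by
  intro x hx
  obtain ⟨hA, hB⟩ := Subgroup.mem_inf.mp hx
  rw [Subgroup.mem_normalizer_iff_map_conj_eq, Subgroup.map_commutator]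
  have h1 := Subgroup.mem_normalizer_iff_map_conj_eq.mp hA
  have h2 := Subgroup.mem_normalizer_iff_map_conj_eq.mp hB
  rw [h1, h2]

/-- The norm trick. -/
theorem map_pow_card_eq_one_of_commutator_eq {G : Type*} [Group G] {A : Type*} [CommGroup A]
    (L Q : Subgroup G) [Finite ↥Q] (hQL : Q ≤ Subgroup.normalizer (L : Set G))
    (hLQ : ⁅L, Q⁆ = L) (φ : ↥L →* A) (z : ↥L)
    (hz : (z : G) ∈ Subgroup.centralizer (Q : Set G)) :
    φ z ^ Nat.card ↥Q = 1 := by
  classical
  letI : Fintype ↥Q := Fintype.ofFinite _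
  let c : ↥Q → (↥L →* ↥L) := fun q =>
    (Cfsg.Agent.Lib.Helper48.normConj L ⟨(q : G), hQL q.2⟩).toMonoidHom
  have hc : ∀ (q : ↥Q) (x : ↥L), ((c q x : ↥L) : G) = (q : G) * x * (q : G)⁻¹ := fun q x => rfl
  let ψ : ↥L →* A := ∏ q : ↥Q, φ.comp (c q)
  have hψ : ∀ x : ↥L, ψ x = ∏ q : ↥Q, φ (c q x) := by
    intro x
    simp only [ψ, MonoidHom.finsetProd_apply, MonoidHom.comp_apply]
  have hinv : ∀ (q₀ : ↥Q) (x : ↥L), ψ (c q₀ x) = ψ x := by
    intro q₀ x
    rw [hψ, hψ]
    refine Fintype.prod_equiv (Equiv.mulRight q₀) _ _ (fun q => ?_)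
    congr 1
    apply Subtype.ext
    rw [hc, hc, hc]
    simp [mul_assoc]
  have hker : L ≤ (ψ.ker).map L.subtype := by
    calc L = ⁅L, Q⁆ := hLQ.symm
      _ ≤ _ := by
        rw [Subgroup.commutator_le]
        intro x hx q hq
        refine Subgroup.mem_map.mpr ⟨⟨x, hx⟩ * (c ⟨q, hq⟩ ⟨x, hx⟩)⁻¹, ?_, ?_⟩
        · rw [MonoidHom.mem_ker, map_mul, map_inv, hinv, mul_inv_cancel]
        · simp only [Subgroup.coe_subtype, Subgroup.coe_mul, Subgroup.coe_inv, hc,
            commutatorElement_def]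
          group
  obtain ⟨z', hz', hzz⟩ := Subgroup.mem_map.mp (hker z.2)
  have hz'' : z' = z := Subtype.ext hzz
  rw [hz'', MonoidHom.mem_ker, hψ] at hz'
  have hfix : ∀ q : ↥Q, c q z = z := by
    intro q
    apply Subtype.ext
    rw [hc]
    have h1 := Subgroup.mem_centralizer_iff.mp hz (q : G) q.2
    rw [h1]; group
  simp only [hfix, Finset.prod_const, Finset.card_univ] at hz'
  rw [Nat.card_eq_fintype_card]
  exact hz'

/-- If `M = F(M) E(M)` and `O_p(M) = 1` then `M / M'` is a `p'`-group. -/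
theorem card_abelianization_coprime {M : Type*} [Group M] [Finite M] {p : ℕ} [Fact p.Prime]
    (h1 : Cfsg.fittingSubgroup M ⊔ Cfsg.layer M = ⊤) (h2 : Cfsg.pCore p M = ⊥) :
    (Nat.card (Abelianization M)).Coprime p := by
  have hF := Cfsg.Agent.Lib.Helper50.card_fittingSubgroup_coprime M h2
  let f : ↥(Cfsg.fittingSubgroup M) →* Abelianization M :=
    (Abelianization.of).comp (Cfsg.fittingSubgroup M).subtype
  have hsurj : Function.Surjective f := by
    intro a
    obtain ⟨m, rfl⟩ := QuotientGroup.mk_surjective a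
    have hm : m ∈ Cfsg.fittingSubgroup M ⊔ Cfsg.layer M := by rw [h1]; exact Subgroup.mem_top m
    have hLn : (Cfsg.layer M).Normal := Cfsg.Agent.Lib.Helper22.layer_normal' M
    have hm' : m ∈ ((Cfsg.fittingSubgroup M : Set M) * (Cfsg.layer M : Set M)) := by
      rw [← Subgroup.mul_normal]; exact hm
    obtain ⟨x, hx, e, he, rfl⟩ := Set.mem_mul.mp hm'
    refine ⟨⟨x, hx⟩, ?_⟩
    have hle : Cfsg.layer M ≤ commutator M := by
      calc Cfsg.layer M = ⁅Cfsg.layer M, Cfsg.layer M⁆ :=
            (Cfsg.Agent.Lib.Helper22.layer_perfect (G := M)).symm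
        _ ≤ ⁅(⊤ : Subgroup M), ⊤⁆ := Subgroup.commutator_mono le_top le_top
    have he' : (Abelianization.of e : Abelianization M) = 1 := by
      have : e ∈ (Abelianization.of (G := M)).ker := by
        rw [Abelianization.ker_of]; exact hle he
      exact MonoidHom.mem_ker.mp this
    show Abelianization.of x = Abelianization.of (x * e)
    rw [map_mul, he', mul_one]
  exact Nat.Coprime.coprime_dvd_left (Subgroup.card_dvd_of_surjective f hsurj) hF

/-- If `L = [L, Q]`, `L = F(L) E(L)`, `O_p(L) = 1` and `Q` is a `p`-group, then `C_L(Q) ≤ L'`. -/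
theorem mem_commutator_of_mem_centralizer {G : Type*} [Group G] [Finite G] {p : ℕ}
    [Fact p.Prime] (L Q : Subgroup G) (hQ : IsPGroup p ↥Q)
    (hQL : Q ≤ Subgroup.normalizer (L : Set G)) (hLQ : ⁅L, Q⁆ = L)
    (h1 : Cfsg.fittingSubgroup ↥L ⊔ Cfsg.layer ↥L = ⊤) (h2 : Cfsg.pCore p ↥L = ⊥) (z : ↥L)
    (hz : (z : G) ∈ Subgroup.centralizer (Q : Set G)) : z ∈ commutator ↥L := by
  have hpow := map_pow_card_eq_one_of_commutator_eq L Q hQL hLQ (Abelianization.of) z hz
  obtain ⟨n, hn⟩ := IsPGroup.iff_card.mp hQ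
  rw [hn] at hpow
  have hcop := card_abelianization_coprime h1 h2
  have h3 : orderOf (Abelianization.of z) ∣ p ^ n := orderOf_dvd_of_pow_eq_one hpow
  have h4 : orderOf (Abelianization.of z) ∣ Nat.card (Abelianization ↥L) := orderOf_dvd_natCard _
  have h6 : (orderOf (Abelianization.of z)).Coprime (p ^ n) :=
    Nat.Coprime.pow_right n (Nat.Coprime.coprime_dvd_left h4 hcop)
  have h5 : orderOf (Abelianization.of z) = 1 := h6.eq_one_of_dvd h3
  have h7 : z ∈ (Abelianization.of (G := ↥L)).ker := MonoidHom.mem_ker.mpr (orderOf_eq_one_iff.mp h5)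
  rwa [Abelianization.ker_of] at h7

/-- A `p`-group `Q` normalizing a subgroup `C` of order divisible by `p` centralizes an element of
order `p` of `C`. -/
theorem exists_orderOf_eq_of_dvd_card_of_le_normalizer {G : Type*} [Group G] [Finite G] {p : ℕ}
    [Fact p.Prime] (C Q : Subgroup G) (hQ : IsPGroup p ↥Q)
    (hQC : Q ≤ Subgroup.normalizer (C : Set G)) (hp : p ∣ Nat.card ↥C) :
    ∃ b ∈ C ⊓ Subgroup.centralizer (Q : Set G), orderOf b = p := by
  let act : ↥Q →* MulAut ↥C :=
    (Cfsg.Agent.Lib.Helper48.normConj C).comp (Subgroup.inclusion hQC)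
  letI : MulAction ↥Q ↥C := MulAction.compHom ↥C act
  have hsmul : ∀ (q : ↥Q) (c : ↥C), ((q • c : ↥C) : G) = (q : G) * c * (q : G)⁻¹ :=
    fun q c => rfl
  have hmod := hQ.card_modEq_card_fixedPoints ↥C
  let D : Subgroup ↥C := (C ⊓ Subgroup.centralizer (Q : Set G)).subgroupOf C
  have hset : (D : Set ↥C) = MulAction.fixedPoints ↥Q ↥C := by
    ext c
    simp only [SetLike.mem_coe, MulAction.mem_fixedPoints, D, Subgroup.mem_subgroupOf,
      Subgroup.mem_inf]
    constructor
    · rintro ⟨-, hc⟩ q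
      apply Subtype.ext
      rw [hsmul]
      have h1 := Subgroup.mem_centralizer_iff.mp hc (q : G) q.2
      rw [h1]; group
    · intro h
      refine ⟨c.2, ?_⟩
      rw [Subgroup.mem_centralizer_iff]
      intro q hq
      have h1 := congrArg Subtype.val (h ⟨q, hq⟩)
      rw [hsmul] at h1
      calc q * (c : G) = q * c * q⁻¹ * q := by group
        _ = c * q := by rw [h1]
  have hcard : Nat.card ↥(MulAction.fixedPoints ↥Q ↥C) = Nat.card ↥D := by rw [← hset]; rfl
  have hdvd : p ∣ Nat.card ↥D := by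
    rw [← hcard]
    exact (Nat.modEq_zero_iff_dvd.mp (hmod.symm.trans (Nat.modEq_zero_iff_dvd.mpr hp)))
  obtain ⟨x, hx⟩ := exists_prime_orderOf_dvd_card' (G := ↥D) p hdvd
  refine ⟨((x : ↥C) : G), Subgroup.mem_subgroupOf.mp x.2, ?_⟩
  rw [Subgroup.orderOf_coe, Subgroup.orderOf_coe]; exact hx

section Main

variable {H : Type*} [Group H] [Finite H] {p : ℕ} [Fact p.Prime]

/-- `F*`-data for a subnormal subgroup inside `F*(H)`, `O_p(H) = 1`. -/
theorem fstar_data_type (hO : Cfsg.pCore p H = ⊥) (S : Subgroup H)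
    (hS : S ≤ Cfsg.generalizedFittingSubgroup H)
    (hsn : (S.subgroupOf (Cfsg.generalizedFittingSubgroup H)).IsSubnormal) :
    Cfsg.fittingSubgroup ↥S ⊔ Cfsg.layer ↥S = ⊤ ∧ Cfsg.pCore p ↥S = ⊥ := by
  refine ⟨(Cfsg.Agent.S1318.result S hS hsn).2, ?_⟩
  have hSX : S.IsSubnormal := Subgroup.IsSubnormal.trans hS hsn
    (Cfsg.Agent.Lib.Helper22.generalizedFittingSubgroup_normal' H).isSubnormal
  have h1 : Cfsg.pCoreOf p S ≤ Cfsg.pCore p H := pCoreOf_le_pCore_of_isSubnormal hSX
  rw [hO, le_bot_iff] at h1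
  exact (Subgroup.map_eq_bot_iff_of_injective _ (Subgroup.subtype_injective _)).mp h1

/-- The main statement on `[F*(H), Q]`. -/
theorem fstar_Q (hO : Cfsg.pCore p H = ⊥) (Q : Subgroup H) (hQ : IsPGroup p ↥Q) (L : Subgroup H)
    (hL : L = ⁅Cfsg.generalizedFittingSubgroup H, Q⁆) (F : Subgroup H)
    (hF : F ≤ Cfsg.generalizedFittingSubgroup H ∧
      Cfsg.generalizedFittingSubgroup H ≤ Subgroup.normalizer (F : Set H) ∧
      Q ≤ Subgroup.centralizer (F : Set H) ∧
      ∀ N : Subgroup H, N ≤ Cfsg.generalizedFittingSubgroup H →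
        Cfsg.generalizedFittingSubgroup H ≤ Subgroup.normalizer (N : Set H) →
        Q ≤ Subgroup.centralizer (N : Set H) → N ≤ F) :
    F = Cfsg.generalizedFittingSubgroup H ⊓
        Subgroup.centralizer ((L ⊔ Q : Subgroup H) : Set H) ∧
      ⁅L, Q⁆ = L ∧ L ⊓ F ≤ (frattini ↥L).map L.subtype ∧
      (∀ B : Subgroup H, IsPGroup p ↥B → B ≤ Subgroup.normalizer (Q : Set H) → ⁅L, B⁆ ≤ F →
        ⁅L, B⁆ = ⊥) ∧
      (Nat.card ↥(Subgroup.centralizer ((F ⊔ L : Subgroup H) : Set H))).Coprime p := by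
  obtain ⟨hF1, hF2, hF3, hF4⟩ := hF
  have hEn : (Cfsg.generalizedFittingSubgroup H).Normal :=
    Cfsg.Agent.Lib.Helper22.generalizedFittingSubgroup_normal' H
  have hEdata := fstar_data_type hO (Cfsg.generalizedFittingSubgroup H) le_rfl
    (by rw [Subgroup.subgroupOf_self]; exact Subgroup.IsSubnormal.top)
  have hBender := Cfsg.Agent.Lib.Helper30.centralizer_generalizedFittingSubgroup_le H
  have hLE : L ≤ Cfsg.generalizedFittingSubgroup H := by
    rw [hL]; exact Subgroup.commutator_le_left _ Q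
  have hEL : Cfsg.generalizedFittingSubgroup H ≤ Subgroup.normalizer (L : Set H) := by
    rw [hL]; exact Cfsg.Agent.Lib.Helper1.le_normalizer_commutator_left _ Q
  have hQL : Q ≤ Subgroup.normalizer (L : Set H) := by
    rw [hL]; exact Cfsg.Agent.Lib.Helper1.le_normalizer_commutator_right _ Q
  have hLdata := fstar_data_type hO L hLE
    ((Subgroup.normal_subgroupOf_iff_le_normalizer hLE).mpr hEL).isSubnormal
  generalize Cfsg.generalizedFittingSubgroup H = E at *
  have hNE : Subgroup.normalizer (E : Set H) = ⊤ := Subgroup.normalizer_eq_top_iff.mpr hEn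
  have hQE : Q ≤ Subgroup.normalizer (E : Set H) := by rw [hNE]; exact le_top
  -- (b)
  have hb : ⁅L, Q⁆ = L := by
    have h1 := (Cfsg.Agent.Lib.Helper50.fstar_action_of_data E Q hEdata.1 hEdata.2 hQ hQE).2.2.2
    rw [hL]; exact h1.symm
  -- `F` centralizes `L`
  have hFL : L ≤ Subgroup.centralizer (F : Set H) := by
    rw [hL, ← Subgroup.commutator_eq_bot_iff_le_centralizer]
    apply Subgroup.commutator_commutator_eq_bot_of_rotate
    · have h1 : ⁅Q, F⁆ = ⊥ := Subgroup.commutator_eq_bot_iff_le_centralizer.mpr hF3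
      rw [h1, Subgroup.commutator_bot_left]
    · have h1 : ⁅F, E⁆ ≤ F := Cfsg.Agent.Lib.Helper1.commutator_le_of_le_normalizer hF2
      have h2 : ⁅F, Q⁆ = ⊥ := by
        rw [Subgroup.commutator_comm]
        exact Subgroup.commutator_eq_bot_iff_le_centralizer.mpr hF3
      rw [eq_bot_iff, ← h2]; exact Subgroup.commutator_mono h1 le_rfl
  -- (a)
  have ha : F = E ⊓ Subgroup.centralizer ((L ⊔ Q : Subgroup H) : Set H) := by
    rw [centralizer_sup_eq]
    apply le_antisymm
    · exact le_inf hF1 (le_inf (Subgroup.le_centralizer_iff.mp hFL)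
        (Subgroup.le_centralizer_iff.mp hF3))
    · apply hF4
      · exact inf_le_left
      · apply Cfsg.Agent.Lib.Helper50.wc_le_normalizer_of_conj_mem
        intro x hx d hd
        obtain ⟨hd1, hd23⟩ := Subgroup.mem_inf.mp hd
        obtain ⟨hd2, hd3⟩ := Subgroup.mem_inf.mp hd23
        have hc2 : x * d * x⁻¹ ∈ Subgroup.centralizer (L : Set H) :=
          (Subgroup.mem_normalizer_iff.mp (normalizer_le_normalizer_centralizer L (hEL hx)) d).mp
            hd2
        refine Subgroup.mem_inf.mpr ⟨hEn.conj_mem d hd1 x, Subgroup.mem_inf.mpr ⟨hc2, ?_⟩⟩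
        rw [Subgroup.mem_centralizer_iff]
        intro q hq
        have hl : q * x * q⁻¹ * x⁻¹ ∈ L := by
          have h1 : ⁅x, q⁆ ∈ L := by rw [hL]; exact Subgroup.commutator_mem_commutator hx hq
          have h' := L.inv_mem h1
          have e : (⁅x, q⁆)⁻¹ = q * x * q⁻¹ * x⁻¹ := by rw [commutatorElement_def]; group
          rwa [e] at h'
        have h1 := Subgroup.mem_centralizer_iff.mp hc2 _ hl
        have h2 := Subgroup.mem_centralizer_iff.mp hd3 q hq
        have h3 : q * d * q⁻¹ = d := by rw [h2]; group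
        calc q * (x * d * x⁻¹)
            = (q * x * q⁻¹ * x⁻¹) * (x * (q * d * q⁻¹) * x⁻¹) * (q * x * q⁻¹ * x⁻¹)⁻¹ * q := by
              group
          _ = (q * x * q⁻¹ * x⁻¹) * (x * d * x⁻¹) * (q * x * q⁻¹ * x⁻¹)⁻¹ * q := by rw [h3]
          _ = (x * d * x⁻¹) * (q * x * q⁻¹ * x⁻¹) * (q * x * q⁻¹ * x⁻¹)⁻¹ * q := by rw [h1]
          _ = x * d * x⁻¹ * q := by group
      · rw [Subgroup.le_centralizer_iff]; exact inf_le_right.trans inf_le_right
  -- `L ∩ F ≤ L'`
  have hZ0 : ∀ z : ↥L, (z : H) ∈ F → z ∈ commutator ↥L := fun z hz =>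
    mem_commutator_of_mem_centralizer L Q hQ hQL hb hLdata.1 hLdata.2 z
      (Subgroup.le_centralizer_iff.mp hF3 hz)
  -- (c)
  have hc : L ⊓ F ≤ (frattini ↥L).map L.subtype := by
    intro z hz
    obtain ⟨hzL, hzF⟩ := Subgroup.mem_inf.mp hz
    refine Subgroup.mem_map.mpr ⟨⟨z, hzL⟩, ?_, rfl⟩
    apply Cfsg.Agent.Lib.Helper32.center_inf_commutator_le_frattini
    refine Subgroup.mem_inf.mpr ⟨?_, hZ0 ⟨z, hzL⟩ hzF⟩
    rw [Subgroup.mem_center_iff]
    intro g
    apply Subtype.ext
    exact Subgroup.mem_centralizer_iff.mp (Subgroup.le_centralizer_iff.mp hFL hzF) g g.2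
  -- (d)
  have hd : ∀ B : Subgroup H, IsPGroup p ↥B → B ≤ Subgroup.normalizer (Q : Set H) →
      ⁅L, B⁆ ≤ F → ⁅L, B⁆ = ⊥ := by
    intro B hB hBQ hLB
    have hBL : B ≤ Subgroup.normalizer (L : Set H) := by
      rw [hL]
      refine le_trans (le_inf ?_ hBQ) (normalizer_inf_le_normalizer_commutator E Q)
      rw [hNE]; exact le_top
    have h1 := (Cfsg.Agent.Lib.Helper50.fstar_action_of_data L B hLdata.1 hLdata.2 hB hBL).2.2.2
    have h2 : ⁅L, B⁆ ≤ L := Cfsg.Agent.Lib.Helper1.commutator_le_of_le_normalizer hBL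
    have h3 : ⁅L, B⁆ ≤ ⁅L, L⁆ := by
      intro z hz
      have hz' := hZ0 ⟨z, h2 hz⟩ (hLB hz)
      have h4 : z ∈ (commutator ↥L).map L.subtype := Subgroup.mem_map.mpr ⟨_, hz', rfl⟩
      rwa [commutator_def, Subgroup.map_commutator, ← MonoidHom.range_eq_map,
        Subgroup.range_subtype] at h4
    have h4 : ⁅⁅L, L⁆, B⁆ = ⊥ := by
      have h5 : ⁅⁅L, B⁆, L⁆ = ⊥ := by
        rw [Subgroup.commutator_eq_bot_iff_le_centralizer]
        exact hLB.trans (Subgroup.le_centralizer_iff.mp hFL)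
      apply Subgroup.commutator_commutator_eq_bot_of_rotate h5
      rw [Subgroup.commutator_comm B L]; exact h5
    rw [h1, eq_bot_iff, ← h4]
    exact Subgroup.commutator_mono h3 le_rfl
  -- (e)
  have he : (Nat.card ↥(Subgroup.centralizer ((F ⊔ L : Subgroup H) : Set H))).Coprime p := by
    have hp : p.Prime := Fact.out
    rw [Nat.coprime_comm, Nat.Prime.coprime_iff_not_dvd hp]
    intro hdvd
    have hQC : Q ≤ Subgroup.normalizer
        ((Subgroup.centralizer ((F ⊔ L : Subgroup H) : Set H) : Subgroup H) : Set H) := by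
      rw [centralizer_sup_eq]
      refine le_trans (le_inf ?_ ?_) Subgroup.inf_normalizer_le_normalizer_inf
      · exact (hF3.trans (Subgroup.centralizer_le_normalizer _)).trans
          (normalizer_le_normalizer_centralizer F)
      · exact hQL.trans (normalizer_le_normalizer_centralizer L)
    obtain ⟨b, hb', hbo⟩ := exists_orderOf_eq_of_dvd_card_of_le_normalizer _ Q hQ hQC hdvd
    obtain ⟨hbC, hbQ⟩ := Subgroup.mem_inf.mp hb'
    rw [centralizer_sup_eq] at hbC
    obtain ⟨hbF, hbL⟩ := Subgroup.mem_inf.mp hbC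
    obtain ⟨B, hBdef⟩ : ∃ B : Subgroup H, B = Subgroup.zpowers b := ⟨_, rfl⟩
    have hB : IsPGroup p ↥B := by
      rw [hBdef]
      apply IsPGroup.of_card (n := 1); rw [Nat.card_zpowers, hbo, pow_one]
    have hBF : B ≤ Subgroup.centralizer (F : Set H) := by
      rw [hBdef, Subgroup.zpowers_le]; exact hbF
    have hBL' : B ≤ Subgroup.centralizer (L : Set H) := by
      rw [hBdef, Subgroup.zpowers_le]; exact hbL
    have hBQ : B ≤ Subgroup.centralizer (Q : Set H) := by
      rw [hBdef, Subgroup.zpowers_le]; exact hbQ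
    have hBE : B ≤ Subgroup.normalizer (E : Set H) := by rw [hNE]; exact le_top
    have h1 : ⁅E, B⁆ ≤ F := by
      apply hF4
      · exact Subgroup.commutator_le_left E B
      · exact Cfsg.Agent.Lib.Helper1.le_normalizer_commutator_left E B
      · rw [Subgroup.le_centralizer_iff, ← Subgroup.commutator_eq_bot_iff_le_centralizer]
        apply Subgroup.commutator_commutator_eq_bot_of_rotate
        · rw [Subgroup.commutator_eq_bot_iff_le_centralizer.mpr hBQ,
            Subgroup.commutator_bot_left]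
        · rw [Subgroup.commutator_comm Q E, ← hL,
            Subgroup.commutator_eq_bot_iff_le_centralizer]
          exact Subgroup.le_centralizer_iff.mp hBL'
    have h2 := (Cfsg.Agent.Lib.Helper50.fstar_action_of_data E B hEdata.1 hEdata.2 hB hBE).2.2.2
    have h3 : ⁅E, B⁆ = ⊥ := by
      rw [h2, eq_bot_iff]
      calc ⁅⁅E, B⁆, B⁆ ≤ ⁅F, B⁆ := Subgroup.commutator_mono h1 le_rfl
        _ = ⊥ := by
          rw [Subgroup.commutator_eq_bot_iff_le_centralizer]
          exact Subgroup.le_centralizer_iff.mp hBF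
    have h4 : B ≤ Subgroup.centralizer (E : Set H) := by
      rw [Subgroup.le_centralizer_iff, ← Subgroup.commutator_eq_bot_iff_le_centralizer]
      exact h3
    have h5 : B ≤ E := h4.trans hBender
    have h6 : (B.subgroupOf E).Normal := by
      rw [Subgroup.normal_subgroupOf_iff_le_normalizer h5]
      exact (Subgroup.le_centralizer_iff.mp h4).trans (Subgroup.centralizer_le_normalizer _)
    have h7 : B.IsSubnormal := Subgroup.IsSubnormal.trans h5 h6.isSubnormal hEn.isSubnormal
    have h8 := le_pCore_of_isSubnormal_of_isPGroup h7 hB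
    rw [hO, le_bot_iff, hBdef, Subgroup.zpowers_eq_bot] at h8
    rw [h8, orderOf_one] at hbo
    exact hp.one_lt.ne hbo
  exact ⟨ha, hb, hc, hd, he⟩

end Main

end Cfsg.Agent.Lib.Helper47
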