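import Mathlib
import Cfsg.Agent.Lib.Helper47.PIrr
import Cfsg.Agent.Lib.Helper47.PRedSub
import Cfsg.Agent.Lib.Helper47.ZL

set_option autoImplicit false

namespace Cfsg.Agent.Lib.Helper47

/-- `p`-closedness is invariant under isomorphism. -/
theorem isPClosed_of_mulEquiv {H H' : Type*} [Group H] [Group H'] {p : ℕ} (e : H ≃* H')
    (h : Cfsg.IsPClosed p H) : Cfsg.IsPClosed p H' := by
  intro P
  have hinj : Function.Injective e.toMonoidHom := e.injective
  have hr : (P : Subgroup H') ≤ e.toMonoidHom.range := by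
    rw [MonoidHom.range_eq_top.mpr e.surjective]; exact le_top
  have hn := h (P.comapOfInjective e.toMonoidHom hinj hr)
  rw [Sylow.coe_comapOfInjective] at hn
  have h2 := hn.map e.toMonoidHom e.surjective
  rwa [Subgroup.map_comap_eq_self_of_surjective e.surjective] at h2

/-- `p`-closedness of `X.subgroupOf K` and of `X` agree for `X ≤ K`. -/
theorem isPClosed_subgroupOf_iff {G : Type*} [Group G] {p : ℕ} {X K : Subgroup G} (hXK : X ≤ K) :
    Cfsg.IsPClosed p ↥(X.subgroupOf K) ↔ Cfsg.IsPClosed p ↥X :=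
  ⟨isPClosed_of_mulEquiv (Subgroup.subgroupOfEquivOfLe hXK),
    isPClosed_of_mulEquiv (Subgroup.subgroupOfEquivOfLe hXK).symm⟩

/-- An element of order prime to `p` in `D N`, where `D` is a `p`-group modulo `N`, lies in `N`. -/
theorem mem_of_mem_sup_of_coprime_of_pow {G : Type*} [Group G] {p : ℕ} [Fact p.Prime]
    {D N : Subgroup G} [hN : N.Normal] (hD : ∀ d ∈ D, ∃ k : ℕ, d ^ (p ^ k) ∈ N) {x : G}
    (hx : x ∈ D ⊔ N) (hxc : (orderOf x).Coprime p) : x ∈ N := by
  have hx' : x ∈ ((D ⊔ N : Subgroup G) : Set G) := hx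
  rw [Subgroup.mul_normal] at hx'
  obtain ⟨a, ha, n, hn, rfl⟩ := hx'
  obtain ⟨k, hk⟩ := hD a ha
  have e : ((a * n : G) : G ⧸ N) = ((a : G) : G ⧸ N) := by
    rw [QuotientGroup.mk_mul, (QuotientGroup.eq_one_iff n).mpr hn, mul_one]
  have h1 : ((a * n : G) : G ⧸ N) ^ (p ^ k) = 1 := by
    rw [e, ← QuotientGroup.mk_pow]; exact (QuotientGroup.eq_one_iff _).mpr hk
  have d1 : orderOf ((a * n : G) : G ⧸ N) ∣ p ^ k := orderOf_dvd_of_pow_eq_one h1
  have d2 : orderOf ((a * n : G) : G ⧸ N) ∣ orderOf (a * n) :=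
    orderOf_map_dvd (QuotientGroup.mk' N) (a * n)
  have h2 : orderOf ((a * n : G) : G ⧸ N) = 1 :=
    Nat.eq_one_of_dvd_coprimes (Nat.Coprime.pow_right k hxc) d2 d1
  exact (QuotientGroup.eq_one_iff _).mp (orderOf_eq_one_iff.mp h2)

/-- A `p`-subgroup of a `p`-closed subgroup `X` normalized by `M ≥ X` lies in `O_p(M)`. -/
theorem le_pCoreOf_of_isPClosed {G : Type*} [Group G] [Finite G] {p : ℕ} [Fact p.Prime]
    {X M : Subgroup G} (hX : Cfsg.IsPClosed p ↥X) (hXM : X ≤ M)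
    (hMX : M ≤ Subgroup.normalizer (X : Set G)) {A : Subgroup G} (hA : IsPGroup p A)
    (hAX : A ≤ X) : A ≤ Cfsg.pCoreOf p M := by
  have hXn : (X.subgroupOf M).Normal := (Subgroup.normal_subgroupOf_iff_le_normalizer hXM).mpr hMX
  have hcl : Cfsg.IsPClosed p ↥(X.subgroupOf M) := (isPClosed_subgroupOf_iff hXM).mpr hX
  have h1 := le_pCore_of_isPClosed (X.subgroupOf M) hcl
    (hA.comap_of_injective M.subtype M.subtype_injective)
    (Y := A.subgroupOf M) (fun x hx => Subgroup.mem_subgroupOf.mpr (hAX (Subgroup.mem_subgroupOf.mp hx)))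
  intro a ha
  exact ⟨⟨a, hXM (hAX ha)⟩, h1 (Subgroup.mem_subgroupOf.mpr ha), rfl⟩

end Cfsg.Agent.Lib.Helper47
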