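import Mathlib
import Cfsg.Agent.Lib.Helper47.Minimal
import Cfsg.Agent.Lib.Helper47.Syl
import Cfsg.Agent.Lib.Helper47.Subn
import Cfsg.Agent.Lib.Helper47.PIrr
import Cfsg.Agent.Lib.Helper47.Large
import Cfsg.Agent.Lib.Helper47.WeakClosed
import Cfsg.Agent.Lib.Helper47.Frat2

set_option autoImplicit false

namespace Cfsg.Agent.Lib.Helper47

/-- `N(A)` controls the conjugation maps out of `P` into `S`. -/
def FusionCtrl {G : Type*} [Group G] (S A P : Subgroup G) : Prop :=
  ∀ g : G, P.map (MulAut.conj g).toMonoidHom ≤ S →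
    ∃ x ∈ Subgroup.normalizer (A : Set G), ∀ u ∈ P, x * u * x⁻¹ = g * u * g⁻¹

theorem mem_normalizer_of_map_conj_le {G : Type*} [Group G] [Finite G] {A : Subgroup G} {g : G}
    (h : A.map (MulAut.conj g).toMonoidHom ≤ A) : g ∈ Subgroup.normalizer (A : Set G) := by
  rw [Subgroup.mem_normalizer_iff_map_conj_eq]
  exact Subgroup.eq_of_le_of_card_ge h
    (by rw [Subgroup.card_map_of_injective (MulAut.conj g).injective])

theorem map_conj_one {G : Type*} [Group G] (P : Subgroup G) :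
    P.map (MulAut.conj (1 : G)).toMonoidHom = P := by
  ext x
  simp

/-- Normalizers grow: if `A ⊴ S` is not contained in `Q ≤ S` (`S` a `p`-group), some element of
`A ∖ Q` normalizes `Q`. -/
theorem exists_mem_normalizer_not_mem {G : Type*} [Group G] [Finite G] {p : ℕ} [Fact p.Prime]
    {S A Q : Subgroup G} (hS : IsPGroup p S) (hAS : A ≤ S)
    (hSA : S ≤ Subgroup.normalizer (A : Set G)) (hQS : Q ≤ S) (hAQ : ¬ A ≤ Q) :
    ∃ a ∈ A, a ∈ Subgroup.normalizer (Q : Set G) ∧ a ∉ Q := by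
  by_contra hcon0
  have hcon : ∀ a ∈ A, a ∈ Subgroup.normalizer (Q : Set G) → a ∈ Q := fun a ha han => by
    by_contra h; exact hcon0 ⟨a, ha, han, h⟩
  apply hAQ
  have hQA : Q ⊔ A ≤ S := sup_le hQS hAS
  have h1 : (Q ⊔ A) ⊓ Subgroup.normalizer (Q : Set G) ≤ Q := by
    rintro z ⟨hz, hzn⟩
    have hz' : z ∈ ((Q ⊔ A : Subgroup G) : Set G) := hz
    rw [Subgroup.coe_mul_of_left_le_normalizer_right Q A (hQS.trans hSA)] at hz'
    obtain ⟨q, hq, a, ha, rfl⟩ := hz'
    have han : a ∈ Subgroup.normalizer (Q : Set G) := by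
      have : a = q⁻¹ * (q * a) := by group
      rw [this]; exact Subgroup.mul_mem _ (Subgroup.inv_mem _ (Subgroup.le_normalizer hq)) hzn
    exact Q.mul_mem hq (hcon a ha han)
  have h2 := eq_of_inf_normalizer_le (hS.to_le hQA) le_sup_left h1
  rw [← h2]; exact le_sup_right

/-- Some conjugate `R` of `P` inside the Sylow subgroup `S` is fully normalized: `N_S(R)` is a
Sylow `p`-subgroup of `N_G(R)`. -/
theorem exists_fully_normalized_conj {G : Type*} [Group G] [Finite G] {p : ℕ} [Fact p.Prime]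
    (S : Sylow p G) {P : Subgroup G} (hPS : P ≤ S) :
    ∃ (R : Subgroup G) (t : G), R = P.map (MulAut.conj t).toMonoidHom ∧ R ≤ S ∧
      ∃ T₁ : Sylow p ↥(Subgroup.normalizer (R : Set G)),
        (T₁ : Subgroup ↥(Subgroup.normalizer (R : Set G))) =
          ((S : Subgroup G) ⊓ Subgroup.normalizer (R : Set G)).subgroupOf
            (Subgroup.normalizer (R : Set G)) := by
  have : Nonempty {t : G // P.map (MulAut.conj t).toMonoidHom ≤ (S : Subgroup G)} :=
    ⟨⟨1, by rw [map_conj_one]; exact hPS⟩⟩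
  obtain ⟨⟨t, ht⟩, hmax⟩ := Finite.exists_max
    (fun t : {t : G // P.map (MulAut.conj t).toMonoidHom ≤ (S : Subgroup G)} =>
      Nat.card ↥((S : Subgroup G) ⊓ Subgroup.normalizer
        ((P.map (MulAut.conj t.1).toMonoidHom : Subgroup G) : Set G)))
  have hmax' : ∀ t' : G, P.map (MulAut.conj t').toMonoidHom ≤ (S : Subgroup G) →
      Nat.card ↥((S : Subgroup G) ⊓ Subgroup.normalizer
        ((P.map (MulAut.conj t').toMonoidHom : Subgroup G) : Set G)) ≤
      Nat.card ↥((S : Subgroup G) ⊓ Subgroup.normalizer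
        ((P.map (MulAut.conj t).toMonoidHom : Subgroup G) : Set G)) :=
    fun t' ht' => hmax ⟨t', ht'⟩
  clear hmax
  refine ⟨P.map (MulAut.conj t).toMonoidHom, t, rfl, ht, ?_⟩
  suffices key : ∀ R : Subgroup G, P.map (MulAut.conj t).toMonoidHom = R →
      ∃ T₁ : Sylow p ↥(Subgroup.normalizer (R : Set G)),
        (T₁ : Subgroup ↥(Subgroup.normalizer (R : Set G))) =
          ((S : Subgroup G) ⊓ Subgroup.normalizer (R : Set G)).subgroupOf
            (Subgroup.normalizer (R : Set G)) from key _ rfl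
  intro R hR
  rw [hR] at ht hmax'
  have hpg : IsPGroup p (((S : Subgroup G) ⊓ Subgroup.normalizer (R : Set G)).subgroupOf
        (Subgroup.normalizer (R : Set G))) :=
    (S.isPGroup'.to_le inf_le_left).comap_of_injective _ (Subgroup.subtype_injective _)
  obtain ⟨T₁, hT₁⟩ := hpg.exists_le_sylow
  refine ⟨T₁, (Subgroup.eq_of_le_of_card_ge hT₁ ?_).symm⟩
  have hT₁'p : IsPGroup p ((T₁ : Subgroup ↥(Subgroup.normalizer (R : Set G))).map
      (Subgroup.normalizer (R : Set G)).subtype) := T₁.isPGroup'.map _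
  obtain ⟨y, hy⟩ := exists_conj_le_sylow hT₁'p S
  have hRT : R ≤ (T₁ : Subgroup ↥(Subgroup.normalizer (R : Set G))).map
      (Subgroup.normalizer (R : Set G)).subtype := by
    intro r hr
    exact ⟨⟨r, Subgroup.le_normalizer hr⟩,
      hT₁ (Subgroup.mem_subgroupOf.mpr ⟨ht hr, Subgroup.le_normalizer hr⟩), rfl⟩
  have hyt : P.map (MulAut.conj (y * t)).toMonoidHom ≤ (S : Subgroup G) := by
    rw [← map_conj_map_conj, hR]
    exact (Subgroup.map_mono hRT).trans hy
  have h1 := hmax' (y * t) hyt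
  have h2 : ((T₁ : Subgroup ↥(Subgroup.normalizer (R : Set G))).map
      (Subgroup.normalizer (R : Set G)).subtype).map (MulAut.conj y).toMonoidHom ≤
      (S : Subgroup G) ⊓ Subgroup.normalizer
        ((P.map (MulAut.conj (y * t)).toMonoidHom : Subgroup G) : Set G) := by
    refine le_inf hy ?_
    rw [← map_conj_map_conj, hR, normalizer_map_conj]
    apply Subgroup.map_mono
    rintro _ ⟨x, -, rfl⟩; exact x.2
  calc Nat.card ↥(T₁ : Subgroup ↥(Subgroup.normalizer (R : Set G)))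
      = Nat.card ↥((T₁ : Subgroup ↥(Subgroup.normalizer (R : Set G))).map
          (Subgroup.normalizer (R : Set G)).subtype) :=
        (Subgroup.card_map_of_injective (Subgroup.subtype_injective _)).symm
    _ = Nat.card ↥(((T₁ : Subgroup ↥(Subgroup.normalizer (R : Set G))).map
          (Subgroup.normalizer (R : Set G)).subtype).map (MulAut.conj y).toMonoidHom) :=
        (Subgroup.card_map_of_injective (MulAut.conj y).injective).symm
    _ ≤ Nat.card ↥((S : Subgroup G) ⊓ Subgroup.normalizer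
          ((P.map (MulAut.conj (y * t)).toMonoidHom : Subgroup G) : Set G)) :=
        Subgroup.card_le_of_le h2
    _ ≤ Nat.card ↥((S : Subgroup G) ⊓ Subgroup.normalizer (R : Set G)) := h1
    _ = _ := (Nat.card_congr (Subgroup.subgroupOfEquivOfLe inf_le_right).toEquiv).symm

/-- For `K ⊴ N` and `T` Sylow in `N`: `K = (T ∩ K) O^p(K)`. -/
theorem sylow_inf_sup_pResidual_map {N : Type*} [Group N] [Finite N] {p : ℕ} [Fact p.Prime]
    (T : Sylow p N) (K : Subgroup N) [K.Normal] :
    ((T : Subgroup N) ⊓ K) ⊔ (Cfsg.pResidual p ↥K).map K.subtype = K := by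
  obtain ⟨Q, hQ⟩ := exists_sylow_inf_normal T K
  have h := pResidual_sup_sylow Q
  have h2 := congrArg (Subgroup.map K.subtype) h
  rw [Subgroup.map_sup, hQ, Subgroup.subgroupOf_map_subtype, ← MonoidHom.range_eq_map,
    Subgroup.range_subtype, inf_assoc, inf_idem] at h2
  rw [sup_comm]; exact h2

/-- Frattini decomposition: every `n` is `m * c` with `m ∈ N(T ∩ K)` and `c ∈ O^p(K)`. -/
theorem exists_normalizer_mul_pResidual {N : Type*} [Group N] [Finite N] {p : ℕ} [Fact p.Prime]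
    (T : Sylow p N) (K : Subgroup N) [hK : K.Normal] (n : N) :
    ∃ m ∈ Subgroup.normalizer (((T : Subgroup N) ⊓ K : Subgroup N) : Set N),
      ∃ c ∈ (Cfsg.pResidual p ↥K).map K.subtype, n = m * c := by
  have h1 := normalizer_inf_sup_eq_top T K
  have hn : n ∈ ((Subgroup.normalizer (((T : Subgroup N) ⊓ K : Subgroup N) : Set N) ⊔ K :
      Subgroup N) : Set N) := by rw [h1]; exact Set.mem_univ n
  rw [Subgroup.mul_normal] at hn
  obtain ⟨m, hm, k, hk, rfl⟩ := hn
  have hk' : k ∈ ((((T : Subgroup N) ⊓ K) ⊔ (Cfsg.pResidual p ↥K).map K.subtype :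
      Subgroup N) : Set N) := by
    rw [sylow_inf_sup_pResidual_map]; exact hk
  rw [Subgroup.coe_mul_of_left_le_normalizer_right _ _ (inf_le_right.trans
    (Subgroup.le_normalizer.trans (normalizer_le_normalizer_pResidual_map p K)))] at hk'
  obtain ⟨t, ht, c, hc, rfl⟩ := hk'
  exact ⟨m * t, Subgroup.mul_mem _ hm (Subgroup.le_normalizer ht), c, hc, by rw [mul_assoc]⟩

/-- A strongly closed subgroup of `S` is normal in `S`. -/
theorem le_normalizer_of_isStronglyClosed {G : Type*} [Group G] {A S : Subgroup G}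
    (hsc : Cfsg.IsStronglyClosed A S) : S ≤ Subgroup.normalizer (A : Set G) := by
  apply le_normalizer_of_conj_mem
  intro s hs a ha
  exact hsc.2 a ha s (S.mul_mem (S.mul_mem hs (hsc.1 ha)) (S.inv_mem hs))

/-- The normalizer step: for a fully normalized `R` not containing `A`, every element of `N(R)`
acts on `R` like an element of `N(A)`, given control for larger subgroups. -/
theorem fusion_normalizer_step {G : Type*} [Group G] [Finite G] {p : ℕ} [Fact p.Prime]
    (S : Sylow p G) {A : Subgroup G} (hAc : ∀ a ∈ A, ∀ b ∈ A, a * b = b * a)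
    (hsc : Cfsg.IsStronglyClosed A (S : Subgroup G)) {R : Subgroup G} (hRS : R ≤ S)
    (T₁ : Sylow p ↥(Subgroup.normalizer (R : Set G)))
    (hT₁ : (T₁ : Subgroup ↥(Subgroup.normalizer (R : Set G))) =
      ((S : Subgroup G) ⊓ Subgroup.normalizer (R : Set G)).subgroupOf
        (Subgroup.normalizer (R : Set G)))
    (hAR : ¬ A ≤ R)
    (ih : ∀ P' : Subgroup G, P' ≤ S → Nat.card R < Nat.card P' →
      FusionCtrl (S : Subgroup G) A P')
    (n : G) (hn : n ∈ Subgroup.normalizer (R : Set G)) :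
    ∃ x ∈ Subgroup.normalizer (A : Set G), ∀ r ∈ R, x * r * x⁻¹ = n * r * n⁻¹ := by
  have hAS := hsc.1
  have hSA := le_normalizer_of_isStronglyClosed hsc
  have hNB : Subgroup.normalizer (R : Set G) ≤ Subgroup.normalizer ((R ⊓ A : Subgroup G) : Set G) := by
    apply le_normalizer_of_conj_mem
    rintro m hm b ⟨hbR, hbA⟩
    have h1 : m * b * m⁻¹ ∈ R := (Subgroup.mem_normalizer_iff.mp hm b).mp hbR
    exact ⟨h1, hsc.2 b hbA m (hRS h1)⟩
  have hBp : IsPGroup p ↥(R ⊓ A : Subgroup G) := S.isPGroup'.to_le (inf_le_left.trans hRS)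
  have hKn : ((chainStab R (R ⊓ A)).subgroupOf (Subgroup.normalizer (R : Set G))).Normal := by
    refine ⟨fun k hk g => ?_⟩
    rw [Subgroup.mem_subgroupOf] at hk ⊢
    have := conj_mem_chainStab (F := R) (D := R ⊓ A) g.2 (hNB g.2) hk
    simpa using this
  obtain ⟨m, hm, c, hc, hnmc⟩ := exists_normalizer_mul_pResidual T₁
    ((chainStab R (R ⊓ A)).subgroupOf (Subgroup.normalizer (R : Set G))) ⟨n, hn⟩
  have hcR : (c : G) ∈ Subgroup.centralizer (R : Set G) := by
    have hle : (Cfsg.pResidual p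
        ↥((chainStab R (R ⊓ A)).subgroupOf (Subgroup.normalizer (R : Set G)))).map
          ((chainStab R (R ⊓ A)).subgroupOf (Subgroup.normalizer (R : Set G))).subtype ≤
        (Subgroup.centralizer (R : Set G)).subgroupOf (Subgroup.normalizer (R : Set G)) := by
      rw [pResidual_map_subtype_eq, Subgroup.closure_le]
      rintro x ⟨hxK, hxc⟩
      rw [SetLike.mem_coe, Subgroup.mem_subgroupOf]
      refine chainStab_coprime_mem_centralizer hBp (Subgroup.mem_subgroupOf.mp hxK) ?_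
      rwa [Subgroup.orderOf_coe]
    exact Subgroup.mem_subgroupOf.mp (hle hc)
  have hTKeq : (((T₁ : Subgroup ↥(Subgroup.normalizer (R : Set G))) ⊓
      (chainStab R (R ⊓ A)).subgroupOf (Subgroup.normalizer (R : Set G)) :
        Subgroup ↥(Subgroup.normalizer (R : Set G)))).map
          (Subgroup.normalizer (R : Set G)).subtype =
      (S : Subgroup G) ⊓ (Subgroup.normalizer (R : Set G) ⊓ chainStab R (R ⊓ A)) := by
    rw [hT₁]
    ext x
    constructor
    · rintro ⟨y, ⟨hy1, hy2⟩, rfl⟩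
      have hy1' := Subgroup.mem_subgroupOf.mp (show y ∈ ((S : Subgroup G) ⊓
        Subgroup.normalizer (R : Set G)).subgroupOf (Subgroup.normalizer (R : Set G)) from hy1)
      have hy2' := Subgroup.mem_subgroupOf.mp (show y ∈ (chainStab R (R ⊓ A)).subgroupOf
        (Subgroup.normalizer (R : Set G)) from hy2)
      exact ⟨hy1'.1, y.2, hy2'⟩
    · rintro ⟨hx1, hx2, hx3⟩
      exact ⟨⟨x, hx2⟩, ⟨Subgroup.mem_subgroupOf.mpr ⟨hx1, hx2⟩,
        Subgroup.mem_subgroupOf.mpr hx3⟩, rfl⟩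
  have hmTK : (m : G) ∈ Subgroup.normalizer
      (((S : Subgroup G) ⊓ (Subgroup.normalizer (R : Set G) ⊓ chainStab R (R ⊓ A)) :
        Subgroup G) : Set G) := by
    have hle : (Subgroup.normalizer ((((T₁ : Subgroup ↥(Subgroup.normalizer (R : Set G))) ⊓
        (chainStab R (R ⊓ A)).subgroupOf (Subgroup.normalizer (R : Set G)) :
          Subgroup ↥(Subgroup.normalizer (R : Set G)))) :
            Set ↥(Subgroup.normalizer (R : Set G)))).map
              (Subgroup.normalizer (R : Set G)).subtype ≤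
        Subgroup.normalizer
          (((S : Subgroup G) ⊓ (Subgroup.normalizer (R : Set G) ⊓ chainStab R (R ⊓ A)) :
            Subgroup G) : Set G) := by
      apply le_normalizer_of_conj_mem
      rintro _ ⟨s, hs, rfl⟩ x hx
      rw [← hTKeq] at hx ⊢
      obtain ⟨y, hy, rfl⟩ := hx
      exact ⟨s * y * s⁻¹, (Subgroup.mem_normalizer_iff.mp hs y).mp hy, by simp⟩
    exact hle ⟨m, hm, rfl⟩
  have hTKS : (S : Subgroup G) ⊓ (Subgroup.normalizer (R : Set G) ⊓ chainStab R (R ⊓ A)) ≤
      (S : Subgroup G) := inf_le_left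
  have hR₁S : R ⊔ (S : Subgroup G) ⊓ (Subgroup.normalizer (R : Set G) ⊓ chainStab R (R ⊓ A)) ≤
      (S : Subgroup G) := sup_le hRS hTKS
  have hmR₁ : (m : G) ∈ Subgroup.normalizer
      ((R ⊔ (S : Subgroup G) ⊓ (Subgroup.normalizer (R : Set G) ⊓ chainStab R (R ⊓ A)) :
        Subgroup G) : Set G) :=
    Subgroup.normalizer_inf_normalizer_le_normalizer_sup _ _ ⟨m.2, hmTK⟩
  obtain ⟨a, haA, haN, haR⟩ := exists_mem_normalizer_not_mem S.isPGroup' hAS hSA hRS hAR
  have haTK : a ∈ (S : Subgroup G) ⊓ (Subgroup.normalizer (R : Set G) ⊓ chainStab R (R ⊓ A)) := by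
    refine ⟨hAS haA, haN, ?_, ?_⟩
    · rw [Subgroup.mem_centralizer_iff]
      intro b hb
      exact hAc b hb.2 a haA
    · intro r hr
      refine ⟨?_, ?_⟩
      · have : a * r⁻¹ * a⁻¹ ∈ R := (Subgroup.mem_normalizer_iff.mp haN _).mp (R.inv_mem hr)
        have e : r * a * r⁻¹ * a⁻¹ = r * (a * r⁻¹ * a⁻¹) := by group
        rw [e]; exact R.mul_mem hr this
      · have : r * a * r⁻¹ ∈ A := (Subgroup.mem_normalizer_iff.mp (hSA (hRS hr)) a).mp haA
        exact A.mul_mem this (A.inv_mem haA)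
  have hcard : Nat.card R < Nat.card ↥(R ⊔ (S : Subgroup G) ⊓
      (Subgroup.normalizer (R : Set G) ⊓ chainStab R (R ⊓ A)) : Subgroup G) := by
    by_contra hcon
    have hcon' := not_lt.mp hcon
    have h := Subgroup.eq_of_le_of_card_ge (le_sup_left : R ≤ R ⊔ (S : Subgroup G) ⊓
      (Subgroup.normalizer (R : Set G) ⊓ chainStab R (R ⊓ A))) hcon'
    apply haR
    rw [h]
    exact (le_sup_right : _ ≤ R ⊔ (S : Subgroup G) ⊓
      (Subgroup.normalizer (R : Set G) ⊓ chainStab R (R ⊓ A))) haTK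
  have hmap : (R ⊔ (S : Subgroup G) ⊓
      (Subgroup.normalizer (R : Set G) ⊓ chainStab R (R ⊓ A))).map
        (MulAut.conj (m : G)).toMonoidHom ≤ (S : Subgroup G) := by
    rw [map_conj_eq_of_mem_normalizer hmR₁]; exact hR₁S
  obtain ⟨x, hx, hxm⟩ := ih _ hR₁S hcard (m : G) hmap
  refine ⟨x, hx, fun r hr => ?_⟩
  rw [hxm r ((le_sup_left : R ≤ R ⊔ (S : Subgroup G) ⊓
      (Subgroup.normalizer (R : Set G) ⊓ chainStab R (R ⊓ A))) hr)]
  have hn' : n = (m : G) * (c : G) := congrArg Subtype.val hnmc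
  have hcr : (c : G) * r * (c : G)⁻¹ = r := by
    have := Subgroup.mem_centralizer_iff.mp hcR r hr
    rw [← this]; group
  rw [hn']
  calc (m : G) * r * (m : G)⁻¹ = (m : G) * ((c : G) * r * (c : G)⁻¹) * (m : G)⁻¹ := by rw [hcr]
    _ = (m : G) * (c : G) * r * ((m : G) * (c : G))⁻¹ := by group

/-- Inductive step of the control-of-fusion argument. -/
theorem fusionCtrl_step {G : Type*} [Group G] [Finite G] {p : ℕ} [Fact p.Prime]
    (S : Sylow p G) {A : Subgroup G} (hAc : ∀ a ∈ A, ∀ b ∈ A, a * b = b * a)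
    (hsc : Cfsg.IsStronglyClosed A (S : Subgroup G)) {P : Subgroup G} (hPS : P ≤ S)
    (ih : ∀ P' : Subgroup G, P' ≤ S → Nat.card P < Nat.card P' →
      FusionCtrl (S : Subgroup G) A P') :
    FusionCtrl (S : Subgroup G) A P := by
  have hAS := hsc.1
  have hSA := le_normalizer_of_isStronglyClosed hsc
  by_cases hAP : A ≤ P
  · intro g hg
    refine ⟨g, mem_normalizer_of_map_conj_le ?_, fun u _ => rfl⟩
    rintro _ ⟨a, ha, rfl⟩
    exact hsc.2 a ha g (hg ⟨a, hAP ha, rfl⟩)
  · have hconj : ∀ w : G, ¬ A ≤ P.map (MulAut.conj w).toMonoidHom := by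
      intro w hA
      apply hAP
      have h1 : A.map (MulAut.conj w⁻¹).toMonoidHom ≤ P := by
        have := Subgroup.map_mono (f := (MulAut.conj w⁻¹).toMonoidHom) hA
        rwa [map_conj_inv_map_conj] at this
      have h2 : A.map (MulAut.conj w⁻¹).toMonoidHom ≤ A := by
        rintro _ ⟨a, ha, rfl⟩
        exact hsc.2 a ha w⁻¹ (hPS (h1 ⟨a, ha, rfl⟩))
      have h3 := map_conj_eq_of_mem_normalizer (mem_normalizer_of_map_conj_le h2)
      rw [← h3]; exact h1
    obtain ⟨R, t, hRt, hRS, T₁, hT₁⟩ := exists_fully_normalized_conj S hPS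
    have hcardR : Nat.card R = Nat.card P := by
      rw [hRt]; exact Subgroup.card_map_of_injective (MulAut.conj t).injective
    have hAR : ¬ A ≤ R := by rw [hRt]; exact hconj t
    have hΨ := fusion_normalizer_step S hAc hsc hRS T₁ hT₁ hAR
      (fun P' hP' hc => ih P' hP' (hcardR ▸ hc))
    have htrans : ∀ (Q : Subgroup G) (w : G), Q = P.map (MulAut.conj w).toMonoidHom →
        Q ≤ (S : Subgroup G) →
        ∃ u : G, Q.map (MulAut.conj u).toMonoidHom = R ∧
          ∃ x ∈ Subgroup.normalizer (A : Set G), ∀ z ∈ Q, x * z * x⁻¹ = u * z * u⁻¹ := by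
      intro Q w hQw hQS
      have hv : Q.map (MulAut.conj (t * w⁻¹)).toMonoidHom = R := by
        rw [hQw, map_conj_map_conj, hRt]
        congr 3
        group
      have hXp : IsPGroup p ↥(((S : Subgroup G) ⊓ Subgroup.normalizer (Q : Set G)).map
          (MulAut.conj (t * w⁻¹)).toMonoidHom) := (S.isPGroup'.to_le inf_le_left).map _
      have hXN : ((S : Subgroup G) ⊓ Subgroup.normalizer (Q : Set G)).map
          (MulAut.conj (t * w⁻¹)).toMonoidHom ≤ Subgroup.normalizer (R : Set G) := by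
        rw [← hv, normalizer_map_conj]
        exact Subgroup.map_mono inf_le_right
      have hXp' : IsPGroup p ↥((((S : Subgroup G) ⊓ Subgroup.normalizer (Q : Set G)).map
          (MulAut.conj (t * w⁻¹)).toMonoidHom).subgroupOf (Subgroup.normalizer (R : Set G))) :=
        hXp.comap_of_injective _ (Subgroup.subtype_injective _)
      obtain ⟨n, hn⟩ := exists_conj_le_sylow hXp' T₁
      refine ⟨(n : G) * (t * w⁻¹), ?_, ?_⟩
      · rw [← map_conj_map_conj, hv]; exact map_conj_eq_of_mem_normalizer n.2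
      · have hAQ : ¬ A ≤ Q := by rw [hQw]; exact hconj w
        obtain ⟨a, haA, haN, haQ⟩ := exists_mem_normalizer_not_mem S.isPGroup' hAS hSA hQS hAQ
        have hQle : Q ≤ (S : Subgroup G) ⊓ Subgroup.normalizer (Q : Set G) :=
          le_inf hQS Subgroup.le_normalizer
        have hcard : Nat.card P <
            Nat.card ↥((S : Subgroup G) ⊓ Subgroup.normalizer (Q : Set G)) := by
          have hcQ : Nat.card Q = Nat.card P := by
            rw [hQw]; exact Subgroup.card_map_of_injective (MulAut.conj w).injective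
          rw [← hcQ]
          by_contra hcon
          have h := Subgroup.eq_of_le_of_card_ge hQle (not_lt.mp hcon)
          apply haQ
          rw [h]
          exact ⟨hAS haA, haN⟩
        have hmapS : ((S : Subgroup G) ⊓ Subgroup.normalizer (Q : Set G)).map
            (MulAut.conj ((n : G) * (t * w⁻¹))).toMonoidHom ≤ (S : Subgroup G) := by
          rw [← map_conj_map_conj]
          rintro _ ⟨x, hx, rfl⟩
          have h1 := hn ⟨⟨x, hXN hx⟩, Subgroup.mem_subgroupOf.mpr hx, rfl⟩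
          rw [hT₁, Subgroup.mem_subgroupOf] at h1
          exact h1.1
        obtain ⟨x, hx, hxu⟩ := ih _ inf_le_left hcard _ hmapS
        exact ⟨x, hx, fun z hz => hxu z (hQle hz)⟩
    intro g hg
    obtain ⟨u₁, hu₁, x₁, hx₁, hxu₁⟩ := htrans P 1 (map_conj_one P).symm hPS
    obtain ⟨u₂, hu₂, x₂, hx₂, hxu₂⟩ := htrans _ g rfl hg
    have hnR : u₂ * g * u₁⁻¹ ∈ Subgroup.normalizer (R : Set G) := by
      apply mem_normalizer_of_map_conj_le
      apply le_of_eq
      rw [← map_conj_map_conj, ← map_conj_map_conj]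
      have h1 : R.map (MulAut.conj u₁⁻¹).toMonoidHom = P := by
        rw [← hu₁, map_conj_inv_map_conj]
      rw [h1, hu₂]
    obtain ⟨x₃, hx₃, hxn⟩ := hΨ (u₂ * g * u₁⁻¹) hnR
    refine ⟨x₂⁻¹ * x₃ * x₁, Subgroup.mul_mem _ (Subgroup.mul_mem _ (Subgroup.inv_mem _ hx₂) hx₃)
      hx₁, fun v hv => ?_⟩
    have hr₁ : u₁ * v * u₁⁻¹ ∈ R := by
      rw [← hu₁]; exact ⟨v, hv, rfl⟩
    have hz : g * v * g⁻¹ ∈ P.map (MulAut.conj g).toMonoidHom := ⟨v, hv, rfl⟩
    calc x₂⁻¹ * x₃ * x₁ * v * (x₂⁻¹ * x₃ * x₁)⁻¹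
        = x₂⁻¹ * (x₃ * (x₁ * v * x₁⁻¹) * x₃⁻¹) * x₂ := by group
      _ = x₂⁻¹ * (x₃ * (u₁ * v * u₁⁻¹) * x₃⁻¹) * x₂ := by rw [hxu₁ v hv]
      _ = x₂⁻¹ * ((u₂ * g * u₁⁻¹) * (u₁ * v * u₁⁻¹) * (u₂ * g * u₁⁻¹)⁻¹) * x₂ := by
          rw [hxn _ hr₁]
      _ = x₂⁻¹ * (u₂ * (g * v * g⁻¹) * u₂⁻¹) * x₂ := by group
      _ = x₂⁻¹ * (x₂ * (g * v * g⁻¹) * x₂⁻¹) * x₂ := by rw [hxu₂ _ hz]
      _ = g * v * g⁻¹ := by group

theorem fusionCtrl_all {G : Type*} [Group G] [Finite G] {p : ℕ} [Fact p.Prime]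
    (S : Sylow p G) {A : Subgroup G} (hAc : ∀ a ∈ A, ∀ b ∈ A, a * b = b * a)
    (hsc : Cfsg.IsStronglyClosed A (S : Subgroup G)) :
    ∀ (k : ℕ) (P : Subgroup G), P ≤ (S : Subgroup G) → Nat.card G - Nat.card P ≤ k →
      FusionCtrl (S : Subgroup G) A P := by
  intro k
  induction k with
  | zero =>
    intro P hPS hk
    apply fusionCtrl_step S hAc hsc hPS
    intro P' hP' hc
    have := Subgroup.card_le_card_group P'
    omega
  | succ k ih =>
    intro P hPS hk
    apply fusionCtrl_step S hAc hsc hPS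
    intro P' hP' hc
    apply ih P' hP'
    have := Subgroup.card_le_card_group P'
    omega

/-- An abelian strongly closed subgroup of a Sylow `p`-subgroup controls strong fusion. -/
theorem controlsStrongFusion_of_isStronglyClosed {G : Type*} [Group G] [Finite G] {p : ℕ}
    [Fact p.Prime] (S : Sylow p G) (A : Subgroup G) (hA : IsMulCommutative ↥A)
    (hsc : Cfsg.IsStronglyClosed A (S : Subgroup G)) : Cfsg.ControlsStrongFusion p A := by
  refine ⟨S, hsc.1, fun B hB => ⟨hB, fun g hg => ?_⟩⟩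
  have hcl : Subgroup.closure B ≤ (S : Subgroup G) := (Subgroup.closure_le _).mpr hB
  have hmap : (Subgroup.closure B).map (MulAut.conj g).toMonoidHom ≤ (S : Subgroup G) := by
    rw [MonoidHom.map_closure, Subgroup.closure_le]
    rintro _ ⟨b, hb, rfl⟩
    exact hg ⟨b, hb, rfl⟩
  obtain ⟨x, hx, hxg⟩ := fusionCtrl_all S
    (fun a ha b hb => comm_of_isMulCommutative hA ha hb) hsc _ _ hcl le_rfl g hmap
  exact ⟨x, hx, fun b hb => (hxg b (Subgroup.subset_closure hb)).symm⟩

end Cfsg.Agent.Lib.Helper47
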