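import Mathlib
import Cfsg.Agent.Lib.Helper47.Subn
import Cfsg.Agent.Lib.Helper47.PIrr
import Cfsg.Agent.Lib.Helper47.Comm
import Cfsg.Agent.Lib.Helper47.Large

set_option autoImplicit false

namespace Cfsg.Agent.Lib.Helper47

open scoped commutatorElement

/-- In a finite group with the normalizer condition every subgroup is subnormal. -/
theorem isSubnormal_of_normalizerCondition {Q : Type*} [Group Q] [Finite Q]
    (hQ : NormalizerCondition Q) (X : Subgroup Q) : X.IsSubnormal := by
  induction X using WellFoundedGT.induction with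
  | ind X ih =>
    by_cases hX : X = ⊤
    · rw [hX]; exact Subgroup.IsSubnormal.top
    · have hlt : X < Subgroup.normalizer (X : Set Q) := hQ X (lt_top_iff_ne_top.mpr hX)
      exact Subgroup.IsSubnormal.step X _ Subgroup.le_normalizer (ih _ hlt)
        Subgroup.normal_in_normalizer

/-- Every subgroup of a finite `p`-group is subnormal. -/
theorem isSubnormal_of_isPGroup {Q : Type*} [Group Q] [Finite Q] {p : ℕ} [Fact p.Prime]
    (hQ : IsPGroup p Q) (X : Subgroup Q) : X.IsSubnormal :=
  haveI := hQ.isNilpotent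
  isSubnormal_of_normalizerCondition Group.normalizerCondition_of_isNilpotent X

/-- Every subgroup containing `O^p(G)` is subnormal. -/
theorem isSubnormal_of_pResidual_le {G : Type*} [Group G] [Finite G] {p : ℕ} [Fact p.Prime]
    {X : Subgroup G} (h : Cfsg.pResidual p G ≤ X) : X.IsSubnormal := by
  haveI := pResidual_normal p G
  have hq := isPGroup_quotient_pResidual p G
  have h1 := isSubnormal_of_isPGroup hq (X.map (QuotientGroup.mk' (Cfsg.pResidual p G)))
  have h2 := h1.comap (QuotientGroup.mk' (Cfsg.pResidual p G))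
  rwa [Subgroup.comap_map_eq, QuotientGroup.ker_mk', sup_of_le_left h] at h2

theorem le_subnormalClosure {H : Type*} [Group H] (A : Subgroup H) :
    A ≤ Cfsg.subnormalClosure A := le_sInf (fun _ hK => hK.1)

theorem subnormalClosure_le {H : Type*} [Group H] {A K' : Subgroup H} (h1 : A ≤ K')
    (h2 : K'.IsSubnormal) : Cfsg.subnormalClosure A ≤ K' := sInf_le ⟨h1, h2⟩

/-- In a finite group the subnormal closure is subnormal. -/
theorem subnormalClosure_isSubnormal {H : Type*} [Group H] [Finite H] (A : Subgroup H) :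
    (Cfsg.subnormalClosure A).IsSubnormal := by
  unfold Cfsg.subnormalClosure
  have hne : {K : Subgroup H | A ≤ K ∧ K.IsSubnormal}.Nonempty :=
    ⟨⊤, le_top, Subgroup.IsSubnormal.top⟩
  obtain ⟨M, hM, hmin⟩ := WellFounded.has_min (wellFounded_lt (α := Subgroup H)) _ hne
  have : sInf {K : Subgroup H | A ≤ K ∧ K.IsSubnormal} = M := by
    apply le_antisymm (sInf_le hM)
    apply le_sInf
    intro K' hK'
    have h1 : M ⊓ K' ∈ {K : Subgroup H | A ≤ K ∧ K.IsSubnormal} :=
      ⟨le_inf hM.1 hK'.1, hM.2.inf hK'.2⟩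
    have h2 : ¬ (M ⊓ K' < M) := hmin _ h1
    have h3 : M ⊓ K' = M := by
      by_contra hne; exact h2 (lt_of_le_of_ne inf_le_left hne)
    rw [← h3]; exact inf_le_right
  rw [this]; exact hM.2

/-- Structure of the subnormal closure `K` of `A`: `K = ⟨A^K⟩`, `N(A) ≤ N(K)`, `K = A O^p(K)`,
and `O^p(K) = [O^p(K), A]` when `A` is a `p`-group. -/
theorem subnormalClosure_structure {H : Type*} [Group H] [Finite H] {p : ℕ} [Fact p.Prime]
    (A : Subgroup H) (K : Subgroup H) (hK : K = Cfsg.subnormalClosure A) :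
    (Subgroup.normalClosure ((A.subgroupOf K : Subgroup ↥K) : Set ↥K)).map K.subtype = K ∧
      Subgroup.normalizer (A : Set H) ≤ Subgroup.normalizer (K : Set H) ∧
      A ⊔ (Cfsg.pResidual p ↥K).map K.subtype = K ∧
      (IsPGroup p ↥A →
        ⁅(Cfsg.pResidual p ↥K).map K.subtype, A⁆ = (Cfsg.pResidual p ↥K).map K.subtype) := by
  have hKsn : K.IsSubnormal := hK ▸ subnormalClosure_isSubnormal A
  have hAK : A ≤ K := hK ▸ le_subnormalClosure A
  have hmin : ∀ K' : Subgroup H, A ≤ K' → K'.IsSubnormal → K ≤ K' :=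
    fun K' h1 h2 => hK ▸ subnormalClosure_le h1 h2
  have h3 : A ⊔ (Cfsg.pResidual p ↥K).map K.subtype = K := by
    apply le_antisymm (sup_le hAK (pResidual_map_subtype_le p K))
    have hsn : (A.subgroupOf K ⊔ Cfsg.pResidual p ↥K).IsSubnormal :=
      isSubnormal_of_pResidual_le le_sup_right
    have hsn2 := hsn.trans' hKsn
    rw [Subgroup.map_sup, Subgroup.subgroupOf_map_subtype, inf_of_le_left hAK] at hsn2
    exact hmin _ le_sup_left hsn2
  refine ⟨?_, ?_, h3, ?_⟩
  · apply le_antisymm
    · rintro _ ⟨x, -, rfl⟩; exact x.2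
    · apply hmin
      · intro a ha
        exact ⟨⟨a, hAK ha⟩, Subgroup.subset_normalClosure (Subgroup.mem_subgroupOf.mpr ha), rfl⟩
      · exact (Subgroup.normalClosure_normal.isSubnormal).trans' hKsn
  · apply le_normalizer_of_conj_mem
    intro g hg k hk
    have hg' : g⁻¹ ∈ Subgroup.normalizer (A : Set H) := Subgroup.inv_mem _ hg
    have h1 : K ≤ K.map (MulAut.conj g⁻¹).toMonoidHom := by
      apply hmin
      · conv_lhs => rw [← map_conj_eq_of_mem_normalizer hg']
        exact Subgroup.map_mono hAK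
      · exact hKsn.map (MulAut.conj g⁻¹).surjective
    obtain ⟨k', hk', e⟩ := h1 hk
    have : g * k * g⁻¹ = k' := by
      rw [← e]; simp [MulAut.conj_apply, mul_assoc]
    rw [this]; exact hk'
  · intro hAp
    have hRK : (Cfsg.pResidual p ↥K).map K.subtype ≤ K := pResidual_map_subtype_le p K
    have hKNR : K ≤ Subgroup.normalizer (((Cfsg.pResidual p ↥K).map K.subtype : Subgroup H) : Set H) :=
      Subgroup.le_normalizer.trans (normalizer_le_normalizer_pResidual_map p K)
    have hM : ⁅(Cfsg.pResidual p ↥K).map K.subtype, A⁆ ≤ (Cfsg.pResidual p ↥K).map K.subtype :=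
      commutator_le_of_le_normalizer (hAK.trans hKNR) le_rfl
    apply le_antisymm hM
    have hAM := le_normalizer_commutator_right ((Cfsg.pResidual p ↥K).map K.subtype) A
    have hRM := le_normalizer_commutator_left ((Cfsg.pResidual p ↥K).map K.subtype) A
    have hKle : K ≤ Subgroup.normalizer
        ((A ⊔ ⁅(Cfsg.pResidual p ↥K).map K.subtype, A⁆ : Subgroup H) : Set H) := by
      conv_lhs => rw [← h3]
      refine sup_le ?_ ?_
      · exact (le_sup_left : A ≤ A ⊔ ⁅(Cfsg.pResidual p ↥K).map K.subtype, A⁆).trans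
          Subgroup.le_normalizer
      · apply le_normalizer_of_conj_mem
        intro r hr n hn
        have h1 : (A ⊔ ⁅(Cfsg.pResidual p ↥K).map K.subtype, A⁆).map (MulAut.conj r).toMonoidHom ≤
            A ⊔ ⁅(Cfsg.pResidual p ↥K).map K.subtype, A⁆ := by
          rw [Subgroup.map_sup, map_conj_eq_of_mem_normalizer (hRM hr)]
          refine sup_le ?_ le_sup_right
          rintro _ ⟨a, ha, rfl⟩
          have e : (MulAut.conj r).toMonoidHom a = ⁅r, a⁆ * a := by
            simp [commutatorElement_def]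
          rw [e]
          exact Subgroup.mul_mem _
            ((le_sup_right : ⁅(Cfsg.pResidual p ↥K).map K.subtype, A⁆ ≤ _)
              (Subgroup.commutator_mem_commutator hr ha))
            ((le_sup_left : A ≤ A ⊔ ⁅(Cfsg.pResidual p ↥K).map K.subtype, A⁆) ha)
        exact h1 ⟨n, hn, by simp⟩
    have hle : A ⊔ ⁅(Cfsg.pResidual p ↥K).map K.subtype, A⁆ ≤ K := sup_le hAK (hM.trans hRK)
    have hsn : (A ⊔ ⁅(Cfsg.pResidual p ↥K).map K.subtype, A⁆).IsSubnormal :=
      Subgroup.IsSubnormal.step _ K hle hKsn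
        ((Subgroup.normal_subgroupOf_iff_le_normalizer hle).mpr hKle)
    have hK2 : K ≤ A ⊔ ⁅(Cfsg.pResidual p ↥K).map K.subtype, A⁆ := hmin _ le_sup_left hsn
    conv_lhs => rw [pResidual_map_subtype_eq]
    rw [Subgroup.closure_le]
    rintro x ⟨hxK, hxc⟩
    exact mem_of_mem_sup_of_coprime_of_le_normalizer hAM hAp (hK2 hxK) hxc

end Cfsg.Agent.Lib.Helper47
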