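import Mathlib
import Cfsg.Agent.Lib.Helper47.WeakClosed
import Cfsg.Agent.Lib.Helper47.Syl
import Cfsg.Agent.Lib.Helper47.PIrr

set_option autoImplicit false

namespace Cfsg.Agent.Lib.Helper47

/-- A Sylow `p`-subgroup of `K` over the `p`-subgroup `Q ≤ K`, seen in the ambient group. -/
theorem exists_sylow_over {H : Type*} [Group H] [Finite H] {p : ℕ} [Fact p.Prime]
    {Q K : Subgroup H} (hQp : IsPGroup p Q) (hQK : Q ≤ K) :
    ∃ S : Sylow p ↥K, Q.subgroupOf K ≤ (S : Subgroup K) ∧ Q ≤ (S : Subgroup K).map K.subtype := by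
  obtain ⟨S, hS⟩ := (hQp.comap_of_injective K.subtype K.subtype_injective :
    IsPGroup p (Q.subgroupOf K)).exists_le_sylow
  refine ⟨S, hS, fun q hq => ?_⟩
  exact ⟨⟨q, hQK hq⟩, hS (Subgroup.mem_subgroupOf.mpr hq), rfl⟩

/-- If `Q` is weakly closed, `S` a Sylow `p`-subgroup of `K` over `Q` and `k ∈ K` conjugates
`Q` into `S`, then `k` normalizes `Q`. -/
theorem mem_normalizer_of_conj_le_sylow_sub {H : Type*} [Group H] [Finite H] {p : ℕ}
    [Fact p.Prime] {Q K : Subgroup H} {T : Sylow p H}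
    (hwc : Cfsg.IsWeaklyClosed Q (T : Subgroup H)) (S : Sylow p ↥K)
    (hQS : Q ≤ (S : Subgroup K).map K.subtype) (g : H)
    (hg : Q.map (MulAut.conj g).toMonoidHom ≤ (S : Subgroup K).map K.subtype) :
    g ∈ Subgroup.normalizer (Q : Set H) :=
  mem_normalizer_of_isWeaklyClosed hwc (S.isPGroup'.map K.subtype) hQS g hg

/-- Conjugates of a weakly closed subgroup inside `K` are `K`-conjugate. -/
theorem exists_mem_conj_eq_of_isWeaklyClosed {H : Type*} [Group H] [Finite H] {p : ℕ}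
    [Fact p.Prime] {Q : Subgroup H} (hQp : IsPGroup p Q)
    (hwc : Cfsg.IsWeaklyClosedSubgroup p Q) {K : Subgroup H} (hQK : Q ≤ K) (g : H)
    (hg : Q.map (MulAut.conj g).toMonoidHom ≤ K) :
    ∃ k ∈ K, Q.map (MulAut.conj g).toMonoidHom = Q.map (MulAut.conj k).toMonoidHom := by
  obtain ⟨T, hT⟩ := hwc
  obtain ⟨S, -, hQS⟩ := exists_sylow_over hQp hQK
  have hA : IsPGroup p ((Q.map (MulAut.conj g).toMonoidHom).subgroupOf K) :=
    (hQp.map _).comap_of_injective K.subtype K.subtype_injective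
  obtain ⟨k, hk⟩ := exists_conj_le_sylow hA S
  have h1 : Q.map (MulAut.conj ((k : H) * g)).toMonoidHom ≤ (S : Subgroup K).map K.subtype := by
    rintro _ ⟨q, hq, rfl⟩
    have hq' : g * q * g⁻¹ ∈ Q.map (MulAut.conj g).toMonoidHom := ⟨q, hq, by simp⟩
    have h2 := hk ⟨⟨g * q * g⁻¹, hg hq'⟩, Subgroup.mem_subgroupOf.mpr hq', rfl⟩
    refine ⟨_, h2, ?_⟩
    simp [mul_assoc]
  have h3 := mem_normalizer_of_conj_le_sylow_sub hT S hQS _ h1
  have h4 : Q.map (MulAut.conj ((k : H) * g)).toMonoidHom = Q := map_conj_eq_of_mem_normalizer h3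
  refine ⟨(k : H)⁻¹, K.inv_mem k.2, ?_⟩
  rw [← map_conj_map_conj] at h4
  have h5 := congrArg (Subgroup.map (MulAut.conj (k : H)⁻¹).toMonoidHom) h4
  rw [map_conj_inv_map_conj] at h5
  exact h5

/-- A weakly closed subgroup is weakly closed in every overgroup. -/
theorem isWeaklyClosedSubgroup_subgroupOf {H : Type*} [Group H] [Finite H] {p : ℕ}
    [Fact p.Prime] {Q : Subgroup H} (hQp : IsPGroup p Q)
    (hwc : Cfsg.IsWeaklyClosedSubgroup p Q) {K : Subgroup H} (hQK : Q ≤ K) :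
    Cfsg.IsWeaklyClosedSubgroup p (Q.subgroupOf K) := by
  obtain ⟨T, hT⟩ := hwc
  obtain ⟨S, hS, hQS⟩ := exists_sylow_over hQp hQK
  refine ⟨S, hS, fun k hk => ?_⟩
  have h1 : Q.map (MulAut.conj (k : H)).toMonoidHom ≤ (S : Subgroup K).map K.subtype := by
    rintro _ ⟨q, hq, rfl⟩
    have h2 := hk ⟨⟨q, hQK hq⟩, Subgroup.mem_subgroupOf.mpr hq, rfl⟩
    exact ⟨_, h2, rfl⟩
  have h3 := mem_normalizer_of_conj_le_sylow_sub hT S hQS _ h1
  apply map_conj_eq_of_mem_normalizer
  rw [Subgroup.mem_normalizer_iff]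
  intro x
  rw [Subgroup.mem_subgroupOf, Subgroup.mem_subgroupOf]
  exact Subgroup.mem_normalizer_iff.mp h3 (x : H)

/-- `N_K(Q)` contains a Sylow `p`-subgroup of `K`. -/
theorem isParabolic_normalizer_subgroupOf {H : Type*} [Group H] [Finite H] {p : ℕ}
    [Fact p.Prime] {Q : Subgroup H} (hQp : IsPGroup p Q)
    (hwc : Cfsg.IsWeaklyClosedSubgroup p Q) {K : Subgroup H} (hQK : Q ≤ K) :
    Cfsg.IsParabolic p ((Subgroup.normalizer (Q : Set H)).subgroupOf K) := by
  obtain ⟨T, hT⟩ := hwc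
  obtain ⟨S, hS, hQS⟩ := exists_sylow_over hQp hQK
  refine ⟨S, fun s hs => ?_⟩
  rw [Subgroup.mem_subgroupOf]
  apply mem_normalizer_of_conj_le_sylow_sub hT S hQS
  rintro _ ⟨q, hq, rfl⟩
  obtain ⟨q', hq', hqq⟩ := hQS hq
  refine ⟨s * q' * s⁻¹, Subgroup.mul_mem _ (Subgroup.mul_mem _ hs hq') (Subgroup.inv_mem _ hs), ?_⟩
  simp [← hqq]

/-- The Sylow subgroup in which `Q` is weakly closed normalizes `Q`. -/
theorem sylow_le_normalizer_of_isWeaklyClosed {H : Type*} [Group H] [Finite H] {p : ℕ}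
    [Fact p.Prime] {Q : Subgroup H} {T : Sylow p H}
    (hwc : Cfsg.IsWeaklyClosed Q (T : Subgroup H)) :
    (T : Subgroup H) ≤ Subgroup.normalizer (Q : Set H) := by
  intro t ht
  apply mem_normalizer_of_isWeaklyClosed hwc T.isPGroup' hwc.1
  rintro _ ⟨q, hq, rfl⟩
  exact Subgroup.mul_mem _ (Subgroup.mul_mem _ ht (hwc.1 hq)) (Subgroup.inv_mem _ ht)

/-- `N = N_N(Q) O^p(N)` for `N` normal and `Q` weakly closed. -/
theorem inf_normalizer_sup_pResidual {H : Type*} [Group H] [Finite H] {p : ℕ}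
    [Fact p.Prime] {Q : Subgroup H} (hwc : Cfsg.IsWeaklyClosedSubgroup p Q)
    (N' : Subgroup H) [N'.Normal] :
    (N' ⊓ Subgroup.normalizer (Q : Set H)) ⊔ (Cfsg.pResidual p ↥N').map N'.subtype = N' := by
  obtain ⟨T, hT⟩ := hwc
  have hTN := sylow_le_normalizer_of_isWeaklyClosed hT
  obtain ⟨P, hP⟩ := exists_sylow_inf_normal T N'
  have h1 := pResidual_sup_sylow P
  have h2 := congrArg (Subgroup.map N'.subtype) h1
  rw [Subgroup.map_sup, hP, Subgroup.subgroupOf_map_subtype, ← MonoidHom.range_eq_map,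
    Subgroup.range_subtype] at h2
  have hRN : (Cfsg.pResidual p ↥N').map N'.subtype ≤ N' := by
    rintro _ ⟨x, -, rfl⟩; exact x.2
  apply le_antisymm (sup_le inf_le_left hRN)
  conv_lhs => rw [← h2]
  refine sup_le le_sup_right (le_sup_of_le_left ?_)
  exact le_inf inf_le_right ((inf_le_left.trans inf_le_left).trans hTN)

/-- The image of a weakly closed subgroup in a quotient is weakly closed. -/
theorem isWeaklyClosedSubgroup_map_mk' {H : Type*} [Group H] [Finite H] {p : ℕ}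
    [Fact p.Prime] {Q : Subgroup H} (hQp : IsPGroup p Q)
    (hwc : Cfsg.IsWeaklyClosedSubgroup p Q) (N' : Subgroup H) [N'.Normal] :
    Cfsg.IsWeaklyClosedSubgroup p (Q.map (QuotientGroup.mk' N')) := by
  obtain ⟨T, hT⟩ := hwc
  have hTN := sylow_le_normalizer_of_isWeaklyClosed hT
  refine ⟨T.mapSurjective (QuotientGroup.mk'_surjective N'), ?_, ?_⟩
  · rw [Sylow.coe_mapSurjective]
    exact Subgroup.map_mono hT.1
  · intro gb hgb
    rw [Sylow.coe_mapSurjective] at hgb
    obtain ⟨g, rfl⟩ := QuotientGroup.mk'_surjective N' gb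
    have hcomm : ∀ a : H, (Q.map (MulAut.conj a).toMonoidHom).map (QuotientGroup.mk' N') =
        (Q.map (QuotientGroup.mk' N')).map (MulAut.conj (QuotientGroup.mk' N' a)).toMonoidHom := by
      intro a
      rw [Subgroup.map_map, Subgroup.map_map]
      congr 1
    have hQg : Q.map (MulAut.conj g).toMonoidHom ≤ (T : Subgroup H) ⊔ N' := by
      have h1 : (Q.map (MulAut.conj g).toMonoidHom).map (QuotientGroup.mk' N') ≤
          (T : Subgroup H).map (QuotientGroup.mk' N') := by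
        rw [hcomm]; exact hgb
      have h2 := Subgroup.comap_mono (f := QuotientGroup.mk' N') h1
      rw [Subgroup.comap_map_eq, Subgroup.comap_map_eq, QuotientGroup.ker_mk'] at h2
      exact le_sup_left.trans h2
    have hA : IsPGroup p ((Q.map (MulAut.conj g).toMonoidHom).subgroupOf ((T : Subgroup H) ⊔ N')) :=
      (hQp.map _).comap_of_injective _ (Subgroup.subtype_injective _)
    obtain ⟨x, hx⟩ := exists_conj_le_sylow hA (T.subtype (le_sup_left : (T : Subgroup H) ≤ (T : Subgroup H) ⊔ N'))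
    rw [Sylow.coe_subtype] at hx
    have h3 : Q.map (MulAut.conj ((x : H) * g)).toMonoidHom ≤ (T : Subgroup H) := by
      rintro _ ⟨q, hq, rfl⟩
      have hq' : g * q * g⁻¹ ∈ Q.map (MulAut.conj g).toMonoidHom := ⟨q, hq, by simp⟩
      have h4 := hx ⟨⟨g * q * g⁻¹, hQg hq'⟩, Subgroup.mem_subgroupOf.mpr hq', rfl⟩
      have h5 := Subgroup.mem_subgroupOf.mp h4
      simpa [mul_assoc] using h5
    have h6 := hT.2 _ h3
    have hx' : (x : H) ∈ (((T : Subgroup H) ⊔ N' : Subgroup H) : Set H) := x.2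
    rw [Subgroup.mul_normal] at hx'
    obtain ⟨t, ht, n, hn, htn⟩ := hx'
    have h7 := congrArg (Subgroup.map (QuotientGroup.mk' N')) h6
    rw [hcomm] at h7
    have h8 : QuotientGroup.mk' N' ((x : H) * g) = QuotientGroup.mk' N' t * QuotientGroup.mk' N' g := by
      rw [← htn, map_mul, map_mul]
      have : QuotientGroup.mk' N' n = 1 := (QuotientGroup.eq_one_iff n).mpr hn
      rw [this, mul_one]
    rw [h8, ← map_conj_map_conj] at h7
    have h9 := congrArg (Subgroup.map (MulAut.conj (QuotientGroup.mk' N' t)⁻¹).toMonoidHom) h7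
    rw [map_conj_inv_map_conj] at h9
    rw [h9, ← map_inv, ← hcomm]
    congr 1
    exact map_conj_eq_of_mem_normalizer (Subgroup.inv_mem _ (hTN ht))

end Cfsg.Agent.Lib.Helper47
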