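import Mathlib
import Cfsg.Agent.Lib.Helper47.WC2

set_option autoImplicit false

namespace Cfsg.Agent.Lib.Helper47

/-- Conjugates of a weakly closed subgroup `Q` are conjugate under any subnormal subgroup
containing `Q`. -/
theorem exists_mem_conj_eq_of_isSubnormal {G : Type*} [Group G] [Finite G] {p : ℕ}
    [Fact p.Prime] {Q : Subgroup G} (hQp : IsPGroup p Q)
    (hwc : Cfsg.IsWeaklyClosedSubgroup p Q) {Y : Subgroup G} (hY : Y.IsSubnormal) :
    Q ≤ Y → ∀ g : G, ∃ y ∈ Y, Q.map (MulAut.conj g).toMonoidHom = Q.map (MulAut.conj y).toMonoidHom := by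
  induction hY with
  | top => intro _ g; exact ⟨g, Subgroup.mem_top g, rfl⟩
  | step Y K' hle hK' hN ih =>
    intro hQY g
    obtain ⟨y, hy, hgy⟩ := ih (hQY.trans hle) g
    have hK'N : K' ≤ Subgroup.normalizer (Y : Set G) :=
      (Subgroup.normal_subgroupOf_iff_le_normalizer hle).mp hN
    have h1 : Q.map (MulAut.conj y).toMonoidHom ≤ Y := by
      have h2 := Subgroup.map_mono (f := (MulAut.conj y).toMonoidHom) hQY
      rwa [map_conj_eq_of_mem_normalizer (hK'N hy)] at h2
    obtain ⟨k, hk, hyk⟩ := exists_mem_conj_eq_of_isWeaklyClosed hQp hwc hQY y h1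
    exact ⟨k, hk, hgy.trans hyk⟩

/-- The join of the conjugates of a subgroup is normal. -/
theorem iSup_map_conj_normal {G : Type*} [Group G] (Q : Subgroup G) :
    (⨆ g : G, Q.map (MulAut.conj g).toMonoidHom).Normal := by
  have h : ∀ l : G, (⨆ g : G, Q.map (MulAut.conj g).toMonoidHom).map (MulAut.conj l).toMonoidHom ≤
      ⨆ g : G, Q.map (MulAut.conj g).toMonoidHom := by
    intro l
    rw [Subgroup.map_iSup]
    refine iSup_le (fun g => ?_)
    rw [map_conj_map_conj]
    exact le_iSup (fun g : G => Q.map (MulAut.conj g).toMonoidHom) (l * g)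
  refine ⟨fun n hn l => ?_⟩
  exact h l ⟨n, hn, rfl⟩

/-- For a weakly closed `p`-subgroup, the subnormal closure is the normal closure. -/
theorem subnormalClosure_eq_iSup {G : Type*} [Group G] [Finite G] {p : ℕ}
    [Fact p.Prime] {Q : Subgroup G} (hQp : IsPGroup p Q)
    (hwc : Cfsg.IsWeaklyClosedSubgroup p Q) :
    Cfsg.subnormalClosure Q = ⨆ g : G, Q.map (MulAut.conj g).toMonoidHom := by
  unfold Cfsg.subnormalClosure
  apply le_antisymm
  · apply sInf_le
    refine ⟨?_, (iSup_map_conj_normal Q).isSubnormal⟩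
    have h1 := le_iSup (fun g : G => Q.map (MulAut.conj g).toMonoidHom) 1
    have h2 : Q.map (MulAut.conj (1 : G)).toMonoidHom = Q := by
      ext x; simp
    rw [h2] at h1
    exact h1
  · apply le_sInf
    rintro Y ⟨hQY, hY⟩
    refine iSup_le (fun g => ?_)
    obtain ⟨y, hy, hgy⟩ := exists_mem_conj_eq_of_isSubnormal hQp hwc hY hQY g
    rw [hgy]
    rintro _ ⟨q, hq, rfl⟩
    exact Y.mul_mem (Y.mul_mem hy (hQY hq)) (Y.inv_mem hy)

theorem weakClosure_eq_iSup {H : Type*} [Group H] [Finite H] {p : ℕ} [Fact p.Prime]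
    {Q : Subgroup H} (hQp : IsPGroup p Q) (hwc : Cfsg.IsWeaklyClosedSubgroup p Q)
    {K : Subgroup H} (hQK : Q ≤ K) :
    Cfsg.weakClosure Q K = ⨆ k : ↥K, Q.map (MulAut.conj (k : H)).toMonoidHom := by
  unfold Cfsg.weakClosure
  apply le_antisymm
  · refine iSup_le (fun g => ?_)
    obtain ⟨k, hk, hgk⟩ := exists_mem_conj_eq_of_isWeaklyClosed hQp hwc hQK g.1 g.2
    rw [hgk]
    exact le_iSup (fun k : ↥K => Q.map (MulAut.conj (k : H)).toMonoidHom) ⟨k, hk⟩
  · refine iSup_le (fun k => ?_)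
    have hk : Q.map (MulAut.conj (k : H)).toMonoidHom ≤ K := by
      rintro _ ⟨q, hq, rfl⟩
      exact K.mul_mem (K.mul_mem k.2 (hQK hq)) (K.inv_mem k.2)
    exact le_iSup (fun g : {g : H // Q.map (MulAut.conj g).toMonoidHom ≤ K} =>
      Q.map (MulAut.conj (g : H)).toMonoidHom) ⟨k, hk⟩

theorem subnormalClosure_subgroupOf_map {H : Type*} [Group H] [Finite H] {p : ℕ} [Fact p.Prime]
    {Q : Subgroup H} (hQp : IsPGroup p Q) (hwc : Cfsg.IsWeaklyClosedSubgroup p Q)
    {K : Subgroup H} (hQK : Q ≤ K) :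
    (Cfsg.subnormalClosure (Q.subgroupOf K)).map K.subtype =
      ⨆ k : ↥K, Q.map (MulAut.conj (k : H)).toMonoidHom := by
  have hQ'p : IsPGroup p (Q.subgroupOf K) :=
    hQp.comap_of_injective K.subtype K.subtype_injective
  rw [subnormalClosure_eq_iSup hQ'p
    (isWeaklyClosedSubgroup_subgroupOf hQp hwc hQK), Subgroup.map_iSup]
  congr 1
  funext k
  rw [Subgroup.map_map]
  have h1 : Q = (Q.subgroupOf K).map K.subtype := by
    rw [Subgroup.subgroupOf_map_subtype, inf_of_le_left hQK]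
  conv_rhs => rw [h1]
  rw [Subgroup.map_map]
  congr 1

end Cfsg.Agent.Lib.Helper47
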