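import Mathlib
import Cfsg.Agent.Lib.Helper47.WC2
import Cfsg.Agent.Lib.Helper47.Comm

set_option autoImplicit false

namespace Cfsg.Agent.Lib.Helper47

open scoped commutatorElement

/-- For `N'` normal and `Q` weakly closed: every `N'`-conjugate of `Q` is a conjugate under
`[N', Q] Q`. -/
theorem exists_mem_sup_conj_eq {H : Type*} [Group H] [Finite H] {p : ℕ} [Fact p.Prime]
    {Q : Subgroup H} (hQp : IsPGroup p Q) (hwc : Cfsg.IsWeaklyClosedSubgroup p Q)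
    (N' : Subgroup H) {n : H} (hn : n ∈ N') :
    ∃ x ∈ ⁅N', Q⁆ ⊔ Q, Q.map (MulAut.conj n).toMonoidHom = Q.map (MulAut.conj x).toMonoidHom := by
  apply exists_mem_conj_eq_of_isWeaklyClosed hQp hwc le_sup_right
  rintro _ ⟨q, hq, rfl⟩
  have e : (MulAut.conj n).toMonoidHom q = ⁅n, q⁆ * q := by
    simp [commutatorElement_def]
  rw [e]
  exact Subgroup.mul_mem _ ((le_sup_left : ⁅N', Q⁆ ≤ ⁅N', Q⁆ ⊔ Q)
    (Subgroup.commutator_mem_commutator hn hq)) ((le_sup_right : Q ≤ ⁅N', Q⁆ ⊔ Q) hq)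

theorem weaklyClosed_normal_factorization {H : Type*} [Group H] [Finite H] {p : ℕ} [Fact p.Prime]
    {Q : Subgroup H} (hQp : IsPGroup p Q) (hwc : Cfsg.IsWeaklyClosedSubgroup p Q)
    (N' : Subgroup H) [hN : N'.Normal] :
    (∀ n : H, n ∈ N' → ∃ a ∈ N' ⊓ Subgroup.normalizer ((Q : Subgroup H) : Set H),
        ∃ b ∈ ⁅N', Q⁆, n = a * b) ∧
      (∀ c : H, c ∈ ⁅N', Q⁆ → ∃ a ∈ Q ⊓ ⁅N', Q⁆, ∃ b ∈ ⁅⁅N', Q⁆, Q⁆, c = a * b) := by
  have hQM : Q ≤ Subgroup.normalizer ((⁅N', Q⁆ : Subgroup H) : Set H) :=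
    le_normalizer_commutator_right N' Q
  have hNM : N' ≤ Subgroup.normalizer ((⁅N', Q⁆ : Subgroup H) : Set H) :=
    le_normalizer_commutator_left N' Q
  have hMN : ⁅N', Q⁆ ≤ N' := Subgroup.commutator_le_left N' Q
  constructor
  · intro n hn
    obtain ⟨x, hx, hnx⟩ := exists_mem_sup_conj_eq hQp hwc N' hn
    have hx' : x ∈ ((⁅N', Q⁆ ⊔ Q : Subgroup H) : Set H) := hx
    rw [Subgroup.coe_mul_of_right_le_normalizer_left _ _ hQM] at hx'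
    obtain ⟨b, hb, q, hq, rfl⟩ := hx'
    have hqn : Q.map (MulAut.conj q).toMonoidHom = Q :=
      map_conj_eq_of_mem_normalizer (Subgroup.le_normalizer hq)
    rw [← map_conj_map_conj, hqn] at hnx
    have h1 : Q.map (MulAut.conj (b⁻¹ * n)).toMonoidHom = Q := by
      rw [← map_conj_map_conj, hnx, map_conj_inv_map_conj]
    have ha : b⁻¹ * n ∈ N' ⊓ Subgroup.normalizer ((Q : Subgroup H) : Set H) :=
      Subgroup.mem_inf.mpr ⟨N'.mul_mem (N'.inv_mem (hMN hb)) hn,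
        Subgroup.mem_normalizer_iff_map_conj_eq.mpr h1⟩
    refine ⟨b⁻¹ * n, ha, (b⁻¹ * n)⁻¹ * b * (b⁻¹ * n), ?_, by group⟩
    have h2 := (Subgroup.mem_normalizer_iff.mp (hNM (N'.inv_mem ha.1)) b).mp hb
    simpa using h2
  · have hQM₂ : Q ≤ Subgroup.normalizer ((⁅⁅N', Q⁆, Q⁆ : Subgroup H) : Set H) :=
      le_normalizer_commutator_right _ Q
    have hMM₂ : ⁅N', Q⁆ ≤ Subgroup.normalizer ((⁅⁅N', Q⁆, Q⁆ : Subgroup H) : Set H) :=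
      le_normalizer_commutator_left _ Q
    have hM₂M : ⁅⁅N', Q⁆, Q⁆ ≤ ⁅N', Q⁆ := commutator_le_of_le_normalizer hQM le_rfl
    have hMK : ⁅N', Q⁆ ≤ Subgroup.normalizer ((Q ⊔ ⁅⁅N', Q⁆, Q⁆ : Subgroup H) : Set H) := by
      apply le_normalizer_of_conj_mem
      intro m hm k hk
      have h1 : (Q ⊔ ⁅⁅N', Q⁆, Q⁆).map (MulAut.conj m).toMonoidHom ≤ Q ⊔ ⁅⁅N', Q⁆, Q⁆ := by
        rw [Subgroup.map_sup, map_conj_eq_of_mem_normalizer (hMM₂ hm)]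
        refine sup_le ?_ le_sup_right
        rintro _ ⟨q, hq, rfl⟩
        have e : (MulAut.conj m).toMonoidHom q = ⁅m, q⁆ * q := by
          simp [commutatorElement_def]
        rw [e]
        exact Subgroup.mul_mem _ ((le_sup_right : ⁅⁅N', Q⁆, Q⁆ ≤ Q ⊔ ⁅⁅N', Q⁆, Q⁆)
          (Subgroup.commutator_mem_commutator hm hq)) ((le_sup_left : Q ≤ Q ⊔ ⁅⁅N', Q⁆, Q⁆) hq)
      exact h1 ⟨k, hk, rfl⟩
    have hXK : ⁅N', Q⁆ ⊔ Q ≤ Subgroup.normalizer ((Q ⊔ ⁅⁅N', Q⁆, Q⁆ : Subgroup H) : Set H) :=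
      sup_le hMK (le_sup_left.trans Subgroup.le_normalizer)
    have hMK' : ⁅N', Q⁆ ≤ Q ⊔ ⁅⁅N', Q⁆, Q⁆ := by
      rw [Subgroup.commutator_le]
      intro n hn q hq
      obtain ⟨x, hx, hnx⟩ := exists_mem_sup_conj_eq hQp hwc N' hn
      have h1 : n * q * n⁻¹ ∈ Q.map (MulAut.conj x).toMonoidHom := by
        rw [← hnx]; exact ⟨q, hq, by simp⟩
      obtain ⟨q', hq', hqq⟩ := h1
      have h2 : n * q * n⁻¹ ∈ Q ⊔ ⁅⁅N', Q⁆, Q⁆ := by
        rw [← hqq]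
        have h3 := (Subgroup.mem_normalizer_iff.mp (hXK hx) q').mp
          ((le_sup_left : Q ≤ Q ⊔ ⁅⁅N', Q⁆, Q⁆) hq')
        simpa using h3
      have e : ⁅n, q⁆ = n * q * n⁻¹ * q⁻¹ := by simp [commutatorElement_def]
      rw [e]
      exact Subgroup.mul_mem _ h2 (Subgroup.inv_mem _ ((le_sup_left : Q ≤ Q ⊔ ⁅⁅N', Q⁆, Q⁆) hq))
    intro c hc
    have hc' : c ∈ ((Q ⊔ ⁅⁅N', Q⁆, Q⁆ : Subgroup H) : Set H) := hMK' hc
    rw [Subgroup.coe_mul_of_left_le_normalizer_right _ _ hQM₂] at hc'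
    obtain ⟨q, hq, b, hb, rfl⟩ := hc'
    refine ⟨q, Subgroup.mem_inf.mpr ⟨hq, ?_⟩, b, hb, rfl⟩
    have e : q = q * b * b⁻¹ := by group
    rw [e]
    exact Subgroup.mul_mem _ hc (Subgroup.inv_mem _ (hM₂M hb))

end Cfsg.Agent.Lib.Helper47
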