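import Mathlib
import Cfsg.Agent.Lib.Helper47.CentProd
import Cfsg.Agent.Lib.Helper47.Subn
import Cfsg.Agent.Lib.Helper47.FstarQ
import Cfsg.Agent.Lib.Helper47.WC3
import Cfsg.Agent.Lib.Helper47.WC4

set_option autoImplicit false

namespace Cfsg.Agent.Lib.Helper47

open scoped commutatorElement Pointwise

/-- `N(A) ∩ N(B) ≤ N(A B)`. -/
theorem normalizer_inf_le_normalizer_sup {G : Type*} [Group G] (A B : Subgroup G) :
    Subgroup.normalizer (A : Set G) ⊓ Subgroup.normalizer (B : Set G) ≤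
      Subgroup.normalizer ((A ⊔ B : Subgroup G) : Set G) := by
  intro x hx
  obtain ⟨hA, hB⟩ := Subgroup.mem_inf.mp hx
  rw [Subgroup.mem_normalizer_iff_map_conj_eq, Subgroup.map_sup]
  have h1 := Subgroup.mem_normalizer_iff_map_conj_eq.mp hA
  have h2 := Subgroup.mem_normalizer_iff_map_conj_eq.mp hB
  rw [h1, h2]

theorem pResidual_map_subtype_le_of_forall {G : Type*} [Group G] (p : ℕ) (B N : Subgroup G)
    (h : ∀ x ∈ B, (orderOf x).Coprime p → x ∈ N) :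
    (Cfsg.pResidual p ↥B).map B.subtype ≤ N := by
  rw [pResidual_map_subtype_eq, Subgroup.closure_le]
  rintro x ⟨hxB, hxc⟩
  exact h x hxB hxc

theorem mem_pResidual_map_subtype {G : Type*} [Group G] (p : ℕ) (B : Subgroup G) {x : G}
    (hx : x ∈ B) (hc : (orderOf x).Coprime p) : x ∈ (Cfsg.pResidual p ↥B).map B.subtype := by
  rw [pResidual_map_subtype_eq]
  exact Subgroup.subset_closure ⟨hx, hc⟩

theorem map_pResidual_map_subtype_le {G : Type*} [Group G] (p : ℕ) (B N : Subgroup G)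
    (f : G →* G) (h : ∀ x ∈ B, (orderOf x).Coprime p → f x ∈ N) :
    ((Cfsg.pResidual p ↥B).map B.subtype).map f ≤ N := by
  rw [Subgroup.map_le_iff_le_comap]
  apply pResidual_map_subtype_le_of_forall
  intro x hx hc
  exact Subgroup.mem_comap.mpr (h x hx hc)

/-- Let `Hc = H₁ H₂` be generated by `Hc`-conjugates of the `p`-group `Q`, with `H₁, H₂` normal
in `Hc` and `[H₁, H₂]` normalizing `Q`. Then `[H₁, H₂] ≤ O_p(Hc)`. -/
theorem commutator_le_pCoreOf_of_iSup {G : Type*} [Group G] [Finite G] {p : ℕ} [Fact p.Prime]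
    (Q : Subgroup G) (hQp : IsPGroup p Q) (Hc H₁ H₂ : Subgroup G) (hQHc : Q ≤ Hc)
    (hgen : Hc ≤ ⨆ k : ↥Hc, Q.map (MulAut.conj (k : G)).toMonoidHom)
    (h₁ : H₁ ≤ Hc) (hn₁ : Hc ≤ Subgroup.normalizer (H₁ : Set G))
    (h₂ : H₂ ≤ Hc) (hn₂ : Hc ≤ Subgroup.normalizer (H₂ : Set G))
    (hprod : H₁ ⊔ H₂ = Hc) (hcomm : ⁅H₁, H₂⁆ ≤ Subgroup.normalizer (Q : Set G)) :
    ⁅H₁, H₂⁆ ≤ Cfsg.pCoreOf p Hc := by
  classical
  have hp : p.Prime := Fact.out
  have hDH₁ : ⁅H₁, H₂⁆ ≤ H₁ := commutator_le_of_le_normalizer (h₂.trans hn₁) le_rfl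
  have hDHc : ⁅H₁, H₂⁆ ≤ Hc := hDH₁.trans h₁
  have hHcD : Hc ≤ Subgroup.normalizer ((⁅H₁, H₂⁆ : Subgroup G) : Set G) :=
    (le_inf hn₁ hn₂).trans (normalizer_inf_le_normalizer_commutator H₁ H₂)
  have hPD : Cfsg.pCoreOf p ⁅H₁, H₂⁆ ≤ Cfsg.pCoreOf p Hc :=
    le_pCoreOf_of_le_normalizer (pCoreOf_isPGroup p _) ((pCoreOf_le p _).trans hDHc)
      (hHcD.trans (normalizer_le_normalizer_pCoreOf p _))
  have kf : ∀ d ∈ ⁅H₁, H₂⁆, ∀ k ∈ Hc, ∀ q ∈ Q, ⁅d, k * q * k⁻¹⁆ ∈ Cfsg.pCoreOf p Hc := by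
    intro d hd k hk q hq
    apply hPD
    have hQk : k * q * k⁻¹ ∈ Q.map (MulAut.conj k).toMonoidHom := ⟨q, hq, rfl⟩
    have hDNk : ⁅H₁, H₂⁆ ≤ Subgroup.normalizer
        ((Q.map (MulAut.conj k).toMonoidHom : Subgroup G) : Set G) := by
      rw [normalizer_map_conj]
      have h := Subgroup.map_mono (f := (MulAut.conj k).toMonoidHom) hcomm
      rwa [map_conj_eq_of_mem_normalizer (hHcD hk)] at h
    have hE : IsPGroup p (⁅H₁, H₂⁆ ⊓ Q.map (MulAut.conj k).toMonoidHom : Subgroup G) :=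
      (hQp.map _).to_le inf_le_right
    have hEn : ⁅H₁, H₂⁆ ≤ Subgroup.normalizer
        ((⁅H₁, H₂⁆ ⊓ Q.map (MulAut.conj k).toMonoidHom : Subgroup G) : Set G) := by
      apply le_normalizer_of_conj_mem
      intro s hs n hn
      exact Subgroup.mem_inf.mpr
        ⟨Subgroup.mul_mem _ (Subgroup.mul_mem _ hs hn.1) (Subgroup.inv_mem _ hs),
          (Subgroup.mem_normalizer_iff.mp (hDNk hs) n).mp hn.2⟩
    apply le_pCoreOf_of_le_normalizer hE inf_le_left hEn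
    refine Subgroup.mem_inf.mpr ⟨?_, ?_⟩
    · have hsHc : k * q * k⁻¹ ∈ Hc := Hc.mul_mem (Hc.mul_mem hk (hQHc hq)) (Hc.inv_mem hk)
      have h1 : (k * q * k⁻¹) * d⁻¹ * (k * q * k⁻¹)⁻¹ ∈ ⁅H₁, H₂⁆ :=
        (Subgroup.mem_normalizer_iff.mp (hHcD hsHc) d⁻¹).mp (Subgroup.inv_mem _ hd)
      have e : ⁅d, k * q * k⁻¹⁆ = d * ((k * q * k⁻¹) * d⁻¹ * (k * q * k⁻¹)⁻¹) := by
        simp [commutatorElement_def, mul_assoc]
      rw [e]
      exact Subgroup.mul_mem _ hd h1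
    · have h1 : d * (k * q * k⁻¹) * d⁻¹ ∈ Q.map (MulAut.conj k).toMonoidHom :=
        (Subgroup.mem_normalizer_iff.mp (hDNk hd) _).mp hQk
      have e : ⁅d, k * q * k⁻¹⁆ = (d * (k * q * k⁻¹) * d⁻¹) * (k * q * k⁻¹)⁻¹ := by
        simp [commutatorElement_def, mul_assoc]
      rw [e]
      exact Subgroup.mul_mem _ h1 (Subgroup.inv_mem _ hQk)
  -- pass to the group `↥Hc`
  have hA₁n : (H₁.subgroupOf Hc).Normal :=
    (Subgroup.normal_subgroupOf_iff_le_normalizer h₁).mpr hn₁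
  have hA₂n : (H₂.subgroupOf Hc).Normal :=
    (Subgroup.normal_subgroupOf_iff_le_normalizer h₂).mpr hn₂
  have hPn : (Cfsg.pCore p ↥Hc).Normal := Subgroup.sSup_normal _ (fun _ h => h.1)
  have hAsup : H₁.subgroupOf Hc ⊔ H₂.subgroupOf Hc = ⊤ := by
    rw [← Subgroup.subgroupOf_sup h₁ h₂, hprod, Subgroup.subgroupOf_self]
  have hDmap : (⁅H₁.subgroupOf Hc, H₂.subgroupOf Hc⁆).map Hc.subtype = ⁅H₁, H₂⁆ := by
    rw [Subgroup.map_commutator, Subgroup.subgroupOf_map_subtype, Subgroup.subgroupOf_map_subtype,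
      inf_of_le_left h₁, inf_of_le_left h₂]
  have hDmem : ∀ d : ↥Hc, d ∈ ⁅H₁.subgroupOf Hc, H₂.subgroupOf Hc⁆ → (d : G) ∈ ⁅H₁, H₂⁆ := by
    intro d hd
    rw [← hDmap]
    exact ⟨d, hd, rfl⟩
  obtain ⟨S, hS⟩ : ∃ S : Set ↥Hc,
      S = {x : ↥Hc | ∃ k ∈ Hc, ∃ q ∈ Q, (x : G) = k * q * k⁻¹} := ⟨_, rfl⟩
  have hSgen : Subgroup.closure S = ⊤ := by
    rw [eq_top_iff]
    intro x _
    have hle : Hc ≤ (Subgroup.closure S).map Hc.subtype := by
      refine hgen.trans (iSup_le (fun k => ?_))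
      rintro _ ⟨q, hq, rfl⟩
      have hmem : (k : G) * q * (k : G)⁻¹ ∈ Hc :=
        Hc.mul_mem (Hc.mul_mem k.2 (hQHc hq)) (Hc.inv_mem k.2)
      refine ⟨⟨(k : G) * q * (k : G)⁻¹, hmem⟩, Subgroup.subset_closure ?_, rfl⟩
      rw [hS]
      exact ⟨k, k.2, q, hq, rfl⟩
    obtain ⟨y, hy, hyx⟩ := hle x.2
    have hyx' : y = x := Subtype.ext hyx
    rw [← hyx']
    exact hy
  have hSp : ∀ x ∈ S, ∃ n : ℕ, x ^ p ^ n = 1 := by
    intro x hx
    rw [hS] at hx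
    obtain ⟨k, hk, q, hq, hxq⟩ := hx
    obtain ⟨n, hn⟩ := hQp ⟨q, hq⟩
    have hn' : q ^ p ^ n = 1 := by simpa [Subtype.ext_iff] using hn
    refine ⟨n, Subtype.ext ?_⟩
    rw [Subgroup.coe_pow, hxq, conj_pow, hn']
    simp
  obtain ⟨π, hπ⟩ : ∃ π : ↥Hc →* ↥Hc ⧸ Cfsg.pCore p ↥Hc,
      π = QuotientGroup.mk' (Cfsg.pCore p ↥Hc) := ⟨_, rfl⟩
  have hπs : Function.Surjective π := by rw [hπ]; exact QuotientGroup.mk'_surjective _
  have hker : π.ker = Cfsg.pCore p ↥Hc := by rw [hπ, QuotientGroup.ker_mk']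
  have hπ1 : ∀ x : ↥Hc, π x = 1 ↔ x ∈ Cfsg.pCore p ↥Hc := by
    intro x
    rw [← MonoidHom.mem_ker]
    exact (SetLike.ext_iff.mp hker x)
  have hcl : Subgroup.closure (π '' S) = ⊤ := by
    rw [← MonoidHom.map_closure, hSgen]
    exact Subgroup.map_top_of_surjective π hπs
  have hgen' : Subgroup.closure {x : ↥Hc ⧸ Cfsg.pCore p ↥Hc | ∃ k : ℕ, x ^ p ^ k = 1} = ⊤ := by
    rw [eq_top_iff, ← hcl]
    apply Subgroup.closure_mono
    rintro _ ⟨x, hx, rfl⟩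
    obtain ⟨n, hn⟩ := hSp x hx
    exact ⟨n, by rw [← map_pow, hn, map_one]⟩
  haveI hB₁n : ((H₁.subgroupOf Hc).map π).Normal := hA₁n.map π hπs
  haveI hB₂n : ((H₂.subgroupOf Hc).map π).Normal := hA₂n.map π hπs
  have hsup' : (H₁.subgroupOf Hc).map π ⊔ (H₂.subgroupOf Hc).map π = ⊤ := by
    rw [← Subgroup.map_sup, hAsup]
    exact Subgroup.map_top_of_surjective π hπs
  have hcomm' : ⁅(H₁.subgroupOf Hc).map π, (H₂.subgroupOf Hc).map π⁆ =
      (⁅H₁.subgroupOf Hc, H₂.subgroupOf Hc⁆).map π :=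
    (Subgroup.map_commutator _ _ π).symm
  have hcen : ⁅(H₁.subgroupOf Hc).map π, (H₂.subgroupOf Hc).map π⁆ ≤
      Subgroup.center (↥Hc ⧸ Cfsg.pCore p ↥Hc) := by
    have h2 : (⁅H₁.subgroupOf Hc, H₂.subgroupOf Hc⁆).map π ≤ Subgroup.centralizer (π '' S) := by
      rintro _ ⟨d, hd, rfl⟩
      rw [Subgroup.mem_centralizer_iff]
      rintro _ ⟨s, hs, rfl⟩
      have hc : ⁅d, s⁆ ∈ Cfsg.pCore p ↥Hc := by
        rw [hS] at hs
        obtain ⟨k, hk, q, hq, hsq⟩ := hs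
        have h3 := kf (d : G) (hDmem d hd) k hk q hq
        rw [← hsq] at h3
        obtain ⟨y, hy, hyc⟩ := h3
        have hy' : y = ⁅d, s⁆ := Subtype.ext (by
          rw [← Subgroup.coe_subtype, hyc]; simp [commutatorElement_def])
        rw [← hy']
        exact hy
      have h4 : π ⁅d, s⁆ = 1 := (hπ1 _).mpr hc
      rw [map_commutatorElement] at h4
      exact (commutatorElement_eq_one_iff_mul_comm.mp h4).symm
    rw [hcomm']
    intro z hz
    have h5 := h2 hz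
    rw [← Subgroup.centralizer_closure, hcl, Subgroup.coe_top, Subgroup.centralizer_univ] at h5
    exact h5
  have hcop : (Nat.card ↥⁅(H₁.subgroupOf Hc).map π, (H₂.subgroupOf Hc).map π⁆).Coprime p := by
    rw [Nat.coprime_comm, Nat.Prime.coprime_iff_not_dvd hp]
    intro hdvd
    obtain ⟨x, hx⟩ := exists_prime_orderOf_dvd_card' p hdvd
    have hxc : (x : ↥Hc ⧸ Cfsg.pCore p ↥Hc) ∈ Subgroup.center (↥Hc ⧸ Cfsg.pCore p ↥Hc) :=
      hcen x.2
    have hZn : (Subgroup.zpowers (x : ↥Hc ⧸ Cfsg.pCore p ↥Hc)).Normal := by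
      refine ⟨fun n hn g => ?_⟩
      have hnc : n ∈ Subgroup.center (↥Hc ⧸ Cfsg.pCore p ↥Hc) :=
        (Subgroup.zpowers_le.mpr hxc) hn
      have h6 := Subgroup.mem_center_iff.mp hnc g
      rw [h6, mul_inv_cancel_right]
      exact hn
    have hZp : IsPGroup p (Subgroup.zpowers (x : ↥Hc ⧸ Cfsg.pCore p ↥Hc)) := by
      apply IsPGroup.of_card (n := 1)
      rw [Nat.card_zpowers, Subgroup.orderOf_coe, hx, pow_one]
    have hcp : IsPGroup p ((Subgroup.zpowers (x : ↥Hc ⧸ Cfsg.pCore p ↥Hc)).comap π) := by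
      apply hZp.comap_of_ker_isPGroup π
      rw [hker]
      exact pCore_isPGroup p ↥Hc
    have hle := le_pCore (hZn.comap π) hcp
    obtain ⟨y, hy⟩ := hπs (x : ↥Hc ⧸ Cfsg.pCore p ↥Hc)
    have hy1 : y ∈ Cfsg.pCore p ↥Hc :=
      hle (by rw [Subgroup.mem_comap, hy]; exact Subgroup.mem_zpowers _)
    have hx1 : (x : ↥Hc ⧸ Cfsg.pCore p ↥Hc) = 1 := by
      rw [← hy]
      exact (hπ1 y).mpr hy1
    have hx2 : orderOf x = 1 := by
      rw [orderOf_eq_one_iff]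
      exact Subtype.ext hx1
    rw [hx] at hx2
    exact hp.one_lt.ne' hx2
  have hbot := commutator_eq_bot_of_central_coprime (p := p) hgen' ((H₁.subgroupOf Hc).map π)
    ((H₂.subgroupOf Hc).map π) hsup' hcen hcop
  rw [hcomm'] at hbot
  have hD'le : ⁅H₁.subgroupOf Hc, H₂.subgroupOf Hc⁆ ≤ Cfsg.pCore p ↥Hc := by
    intro d hd
    rw [← hπ1]
    have h7 : π d ∈ (⁅H₁.subgroupOf Hc, H₂.subgroupOf Hc⁆).map π := ⟨d, hd, rfl⟩
    rw [hbot] at h7
    exact Subgroup.mem_bot.mp h7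
  intro d hd
  rw [← hDmap] at hd
  obtain ⟨y, hy, rfl⟩ := hd
  exact ⟨y, hD'le hy, rfl⟩

/-- Basic facts on the weak closure `W` of `Q` in `L ≥ Q`: `Q ≤ W ≤ L ≤ N(W)`. -/
theorem weakClosure_basic {H : Type*} [Group H] [Finite H] {p : ℕ} [Fact p.Prime]
    {Q : Subgroup H} (hQp : IsPGroup p Q) (hwc : Cfsg.IsWeaklyClosedSubgroup p Q)
    {L : Subgroup H} (hQL : Q ≤ L) :
    Q ≤ Cfsg.weakClosure Q L ∧ Cfsg.weakClosure Q L ≤ L ∧
      L ≤ Subgroup.normalizer ((Cfsg.weakClosure Q L : Subgroup H) : Set H) := by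
  rw [weakClosure_eq_iSup hQp hwc hQL]
  refine ⟨?_, ?_, ?_⟩
  · have h1 := le_iSup (fun k : ↥L => Q.map (MulAut.conj (k : H)).toMonoidHom) 1
    have h2 : Q.map (MulAut.conj ((1 : ↥L) : H)).toMonoidHom = Q := by
      ext x; simp
    rw [h2] at h1
    exact h1
  · refine iSup_le (fun k => ?_)
    rintro _ ⟨q, hq, rfl⟩
    exact L.mul_mem (L.mul_mem k.2 (hQL hq)) (L.inv_mem k.2)
  · apply le_normalizer_of_conj_mem
    intro l hl n hn
    have h : (⨆ k : ↥L, Q.map (MulAut.conj (k : H)).toMonoidHom).map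
        (MulAut.conj l).toMonoidHom ≤ ⨆ k : ↥L, Q.map (MulAut.conj (k : H)).toMonoidHom := by
      rw [Subgroup.map_iSup]
      refine iSup_le (fun k => ?_)
      rw [map_conj_map_conj]
      exact le_iSup (fun k : ↥L => Q.map (MulAut.conj (k : H)).toMonoidHom) (⟨l, hl⟩ * k)
    exact h ⟨n, hn, rfl⟩

/-- The weak closure `W` of `Q` in `L` is generated by the `W`-conjugates of `Q`. -/
theorem weakClosure_le_iSup_self {H : Type*} [Group H] [Finite H] {p : ℕ} [Fact p.Prime]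
    {Q : Subgroup H} (hQp : IsPGroup p Q) (hwc : Cfsg.IsWeaklyClosedSubgroup p Q)
    {L : Subgroup H} (hQL : Q ≤ L) :
    Cfsg.weakClosure Q L ≤
      ⨆ w : ↥(Cfsg.weakClosure Q L), Q.map (MulAut.conj (w : H)).toMonoidHom := by
  obtain ⟨hQW, hWL, hLW⟩ := weakClosure_basic hQp hwc hQL
  conv_lhs => rw [weakClosure_eq_iSup hQp hwc hQL]
  refine iSup_le (fun k => ?_)
  have hk : Q.map (MulAut.conj (k : H)).toMonoidHom ≤ Cfsg.weakClosure Q L := by
    have h := Subgroup.map_mono (f := (MulAut.conj (k : H)).toMonoidHom) hQW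
    rwa [map_conj_eq_of_mem_normalizer (hLW k.2)] at h
  obtain ⟨w, hw, hkw⟩ := exists_mem_conj_eq_of_isWeaklyClosed hQp hwc hQW (k : H) hk
  rw [hkw]
  exact le_iSup (fun w : ↥(Cfsg.weakClosure Q L) => Q.map (MulAut.conj (w : H)).toMonoidHom)
    ⟨w, hw⟩

/-- If `U ≥ Q` is normalized by the weak closure `W` of `Q` in `L`, then `W ≤ U`. -/
theorem weakClosure_le_of_le_normalizer {H : Type*} [Group H] [Finite H] {p : ℕ} [Fact p.Prime]
    {Q : Subgroup H} (hQp : IsPGroup p Q) (hwc : Cfsg.IsWeaklyClosedSubgroup p Q)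
    {L : Subgroup H} (hQL : Q ≤ L) {U : Subgroup H} (hQU : Q ≤ U)
    (hWU : Cfsg.weakClosure Q L ≤ Subgroup.normalizer (U : Set H)) :
    Cfsg.weakClosure Q L ≤ U := by
  refine (weakClosure_le_iSup_self hQp hwc hQL).trans (iSup_le (fun w => ?_))
  have h := Subgroup.map_mono (f := (MulAut.conj (w : H)).toMonoidHom) hQU
  rwa [map_conj_eq_of_mem_normalizer (hWU w.2)] at h

/-- For the weak closure `W` of the weakly closed `p`-subgroup `Q` in `L ≥ Q` and `K = O^p(W)`: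
`W = K Q` and `K = [K, Q]`. -/
theorem weakClosure_residual {H : Type*} [Group H] [Finite H] {p : ℕ} [Fact p.Prime]
    {Q : Subgroup H} (hQp : IsPGroup p Q) (hwc : Cfsg.IsWeaklyClosedSubgroup p Q)
    {L : Subgroup H} (hQL : Q ≤ L) (K : Subgroup H)
    (hK : K = (Cfsg.pResidual p ↥(Cfsg.weakClosure Q L)).map (Cfsg.weakClosure Q L).subtype) :
    K ≤ Cfsg.weakClosure Q L ∧ L ≤ Subgroup.normalizer (K : Set H) ∧
      Cfsg.weakClosure Q L = K ⊔ Q ∧ ⁅K, Q⁆ = K := by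
  obtain ⟨hQW, hWL, hLW⟩ := weakClosure_basic hQp hwc hQL
  have hle1 : ∀ U : Subgroup H, Q ≤ U →
      Cfsg.weakClosure Q L ≤ Subgroup.normalizer (U : Set H) → Cfsg.weakClosure Q L ≤ U :=
    fun U hQU hWU => weakClosure_le_of_le_normalizer hQp hwc hQL hQU hWU
  generalize Cfsg.weakClosure Q L = W at *
  have hKW : K ≤ W := by rw [hK]; exact pResidual_map_subtype_le p W
  have hWK : W ≤ Subgroup.normalizer (K : Set H) := by
    rw [hK]; exact Subgroup.le_normalizer.trans (normalizer_le_normalizer_pResidual_map p W)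
  have hLK : L ≤ Subgroup.normalizer (K : Set H) := by
    rw [hK]; exact hLW.trans (normalizer_le_normalizer_pResidual_map p W)
  have hQK : Q ≤ Subgroup.normalizer (K : Set H) := hQW.trans hWK
  obtain ⟨T, hT⟩ := hwc
  obtain ⟨S, hS, hQS⟩ := exists_sylow_over hQp hQW
  have hSW : (S : Subgroup W).map W.subtype ≤ W := by
    rintro _ ⟨s, -, rfl⟩; exact s.2
  have hSN : (S : Subgroup W).map W.subtype ≤ Subgroup.normalizer (Q : Set H) := by
    intro s hs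
    apply mem_normalizer_of_conj_le_sylow_sub hT S hQS
    rintro _ ⟨q, hq, rfl⟩
    have h1 : s * q * s⁻¹ ∈ (S : Subgroup W).map W.subtype :=
      Subgroup.mul_mem _ (Subgroup.mul_mem _ hs (hQS hq)) (Subgroup.inv_mem _ hs)
    exact h1
  have hWeq : K ⊔ (S : Subgroup W).map W.subtype = W := by
    have h1 := pResidual_sup_sylow S
    have h2 := congrArg (Subgroup.map W.subtype) h1
    rw [Subgroup.map_sup, ← MonoidHom.range_eq_map, Subgroup.range_subtype] at h2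
    rw [hK]
    exact h2
  have hnorm1 : W ≤ Subgroup.normalizer ((K ⊔ Q : Subgroup H) : Set H) := by
    conv_lhs => rw [← hWeq]
    refine sup_le (le_sup_left.trans Subgroup.le_normalizer) ?_
    exact (le_inf (hSW.trans hWK) hSN).trans (normalizer_inf_le_normalizer_sup K Q)
  have hWle : W ≤ K ⊔ Q := hle1 _ le_sup_right hnorm1
  have hMK : ⁅K, Q⁆ ≤ K := commutator_le_of_le_normalizer hQK le_rfl
  have hKM := le_normalizer_commutator_left K Q
  have hQM := le_normalizer_commutator_right K Q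
  have hnorm2 : W ≤ Subgroup.normalizer ((Q ⊔ ⁅K, Q⁆ : Subgroup H) : Set H) := by
    refine hWle.trans (sup_le ?_ (le_sup_left.trans Subgroup.le_normalizer))
    apply le_normalizer_of_conj_mem
    intro m hm k hk
    have h1 : (Q ⊔ ⁅K, Q⁆).map (MulAut.conj m).toMonoidHom ≤ Q ⊔ ⁅K, Q⁆ := by
      rw [Subgroup.map_sup, map_conj_eq_of_mem_normalizer (hKM hm)]
      refine sup_le ?_ le_sup_right
      rintro _ ⟨q, hq, rfl⟩
      have e : (MulAut.conj m).toMonoidHom q = ⁅m, q⁆ * q := by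
        simp [commutatorElement_def]
      rw [e]
      exact Subgroup.mul_mem _ ((le_sup_right : ⁅K, Q⁆ ≤ Q ⊔ ⁅K, Q⁆)
        (Subgroup.commutator_mem_commutator hm hq)) ((le_sup_left : Q ≤ Q ⊔ ⁅K, Q⁆) hq)
    exact h1 ⟨k, hk, rfl⟩
  have hWle2 : W ≤ Q ⊔ ⁅K, Q⁆ := hle1 _ le_sup_left hnorm2
  have hKle : K ≤ ⁅K, Q⁆ := by
    conv_lhs => rw [hK]
    apply pResidual_map_subtype_le_of_forall
    intro x hx hc
    exact mem_of_mem_sup_of_coprime_of_le_normalizer hQM hQp (hWle2 hx) hc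
  exact ⟨hKW, hLK, le_antisymm hWle (sup_le hKW hQW), le_antisymm hMK hKle⟩

/-- One side of the factorization lemma for weak closures. -/
theorem wc_factor_side {G : Type*} [Group G] [Finite G] {p : ℕ} [Fact p.Prime]
    (Q : Subgroup G) (hQp : IsPGroup p Q) (hwc : Cfsg.IsWeaklyClosedSubgroup p Q)
    (Hc H H' : Subgroup G) (hQHc : Q ≤ Hc)
    (hH : H ≤ Hc) (hnH : Hc ≤ Subgroup.normalizer (H : Set G))
    (hH' : H' ≤ Hc) (hnH' : Hc ≤ Subgroup.normalizer (H' : Set G))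
    (hprod : H ⊔ H' = Hc) (hD : IsPGroup p ↥⁅H, H'⁆)
    (K : Subgroup G)
    (hK : K = (Cfsg.pResidual p ↥(Cfsg.weakClosure Q (H ⊔ Q))).map
      (Cfsg.weakClosure Q (H ⊔ Q)).subtype) :
    (⁅K, Q⁆ = K ∧ ⁅K, H⁆ = K ∧ K ≤ ⁅H, H⁆ ∧ Hc ≤ Subgroup.normalizer (K : Set G)) ∧
      K ≤ H ∧ Cfsg.weakClosure Q (H ⊔ Q) = K ⊔ Q ∧
      H ≤ Subgroup.normalizer ((Cfsg.weakClosure Q (H ⊔ Q) : Subgroup G) : Set G) := by
  have hQL : Q ≤ H ⊔ Q := le_sup_right
  obtain ⟨hQW, hWL, hLW⟩ := weakClosure_basic hQp hwc hQL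
  obtain ⟨hKW, hLK, hWeq, hKQ⟩ := weakClosure_residual hQp hwc hQL K hK
  generalize Cfsg.weakClosure Q (H ⊔ Q) = W at *
  have hHK : H ≤ Subgroup.normalizer (K : Set G) := le_sup_left.trans hLK
  have hQK : Q ≤ Subgroup.normalizer (K : Set G) := le_sup_right.trans hLK
  have hQnH : Q ≤ Subgroup.normalizer (H : Set G) := hQHc.trans hnH
  have hKH : K ≤ H := by
    rw [hK]
    apply pResidual_map_subtype_le_of_forall
    intro x hx hc
    have hx' : x ∈ Q ⊔ H := by rw [sup_comm]; exact hWL hx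
    exact mem_of_mem_sup_of_coprime_of_le_normalizer hQnH hQp hx' hc
  have hDH : ⁅H, H'⁆ ≤ H := commutator_le_of_le_normalizer (hH'.trans hnH) le_rfl
  have hDK : ⁅H, H'⁆ ≤ Subgroup.normalizer (K : Set G) := hDH.trans hHK
  have hH'K : H' ≤ Subgroup.normalizer (K : Set G) := by
    apply le_normalizer_of_conj_mem
    intro g hg n hn
    have h1 : K.map (MulAut.conj g).toMonoidHom ≤ K := by
      conv_lhs => rw [hK]
      apply map_pResidual_map_subtype_le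
      intro x hx hc
      have hxK : x ∈ K := by rw [hK]; exact mem_pResidual_map_subtype p W hx hc
      have e : (MulAut.conj g).toMonoidHom x = ⁅x, g⁆⁻¹ * x := by
        simp [commutatorElement_def, mul_assoc]
      have hmem : (MulAut.conj g).toMonoidHom x ∈ ⁅H, H'⁆ ⊔ K := by
        rw [e]
        exact Subgroup.mul_mem _ ((le_sup_left : ⁅H, H'⁆ ≤ ⁅H, H'⁆ ⊔ K) (Subgroup.inv_mem _
          (Subgroup.commutator_mem_commutator (hKH hxK) hg))) ((le_sup_right : K ≤ ⁅H, H'⁆ ⊔ K) hxK)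
      refine mem_of_mem_sup_of_coprime_of_le_normalizer hDK hD hmem ?_
      have e3 : (MulAut.conj g).toMonoidHom x = g * x * g⁻¹ := rfl
      rw [e3, orderOf_conj_eq]
      exact hc
    exact h1 ⟨n, hn, rfl⟩
  have hHcK : Hc ≤ Subgroup.normalizer (K : Set G) := by
    rw [← hprod]; exact sup_le hHK hH'K
  have hMK : ⁅K, H⁆ ≤ K := commutator_le_of_le_normalizer hHK le_rfl
  have hHcM : Hc ≤ Subgroup.normalizer ((⁅K, H⁆ : Subgroup G) : Set G) :=
    (le_inf hHcK hnH).trans (normalizer_inf_le_normalizer_commutator K H)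
  have hHcD : Hc ≤ Subgroup.normalizer ((⁅H, H'⁆ : Subgroup G) : Set G) :=
    (le_inf hnH hnH').trans (normalizer_inf_le_normalizer_commutator H H')
  have hKQle : ⁅K, Q⁆ ≤ (K ⊓ ⁅H, H'⁆) ⊔ ⁅K, H⁆ := by
    rw [Subgroup.commutator_le]
    intro k hk q hq
    have hq' : q ∈ ((H ⊔ H' : Subgroup G) : Set G) := by rw [hprod]; exact hQHc hq
    rw [Subgroup.coe_mul_of_left_le_normalizer_right H H' (hH.trans hnH')] at hq'
    obtain ⟨a, ha, b, hb, rfl⟩ := hq'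
    have e : ⁅k, a * b⁆ = ⁅k, a⁆ * (a * ⁅k, b⁆ * a⁻¹) := by
      simp [commutatorElement_def, mul_assoc]
    rw [e]
    have hkb : ⁅k, b⁆ ∈ K ⊓ ⁅H, H'⁆ := by
      refine Subgroup.mem_inf.mpr ⟨?_, Subgroup.commutator_mem_commutator (hKH hk) hb⟩
      have h1 : b * k⁻¹ * b⁻¹ ∈ K :=
        (Subgroup.mem_normalizer_iff.mp (hH'K hb) k⁻¹).mp (K.inv_mem hk)
      have e2 : ⁅k, b⁆ = k * (b * k⁻¹ * b⁻¹) := by simp [commutatorElement_def, mul_assoc]
      rw [e2]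
      exact K.mul_mem hk h1
    have hconj : a * ⁅k, b⁆ * a⁻¹ ∈ K ⊓ ⁅H, H'⁆ :=
      Subgroup.mem_inf.mpr ⟨(Subgroup.mem_normalizer_iff.mp (hHK ha) _).mp hkb.1,
        (Subgroup.mem_normalizer_iff.mp (hHcD (hH ha)) _).mp hkb.2⟩
    exact Subgroup.mul_mem _ ((le_sup_right : ⁅K, H⁆ ≤ (K ⊓ ⁅H, H'⁆) ⊔ ⁅K, H⁆)
      (Subgroup.commutator_mem_commutator hk ha))
      ((le_sup_left : K ⊓ ⁅H, H'⁆ ≤ (K ⊓ ⁅H, H'⁆) ⊔ ⁅K, H⁆) hconj)
  have hKM : K ≤ ⁅K, H⁆ := by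
    conv_lhs => rw [hK]
    apply pResidual_map_subtype_le_of_forall
    intro x hx hc
    have hxK : x ∈ K := by rw [hK]; exact mem_pResidual_map_subtype p W hx hc
    have hx2 : x ∈ (K ⊓ ⁅H, H'⁆) ⊔ ⁅K, H⁆ := hKQle (by rw [hKQ]; exact hxK)
    exact mem_of_mem_sup_of_coprime_of_le_normalizer
      ((inf_le_left.trans (hKH.trans hH)).trans hHcM) (hD.to_le inf_le_right) hx2 hc
  have hKHeq : ⁅K, H⁆ = K := le_antisymm hMK hKM
  refine ⟨⟨hKQ, hKHeq, ?_, hHcK⟩, hKH, hWeq, le_sup_left.trans hLW⟩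
  conv_lhs => rw [← hKHeq]
  exact Subgroup.commutator_mono hKH le_rfl

end Cfsg.Agent.Lib.Helper47
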