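import Mathlib
import Cfsg.Prelude.Def_LocalStructure
import Cfsg.Prelude.Def_Transfer
import Cfsg.Prelude.Def_Solvable
import Cfsg.Agent.Lib.Helper47.Comm
import Cfsg.Agent.Lib.Helper47.Minimal
import Cfsg.Agent.Lib.Helper47.Large
import Cfsg.Agent.Lib.Helper47.PIrr
import Cfsg.Agent.Lib.Helper1.Commutator
import Cfsg.Agent.Lib.Helper1.BurnsideBasis
import Cfsg.Agent.Lib.Helper87.PGroupFrattini

/-!
# `Y`-minimal groups of characteristic `p`: the normal closure of `O_p(L) ∩ Y` (helper47)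

`yMinA` : the whole statement S2837.  Key facts: `L = ⟨Y, Y^g⟩` for `g ∉ L₀`,
`A = (Q ∩ Y)(Q ∩ Y^g)` where `Q = O_p(L)`.
-/

set_option autoImplicit false

namespace Cfsg.Agent.Lib.Helper47

open scoped commutatorElement Pointwise

/-- `Y ≤ N(W)` from `[W, Y] ≤ W`. -/
theorem le_normalizer_of_commutator_le {G : Type*} [Group G] {W Y : Subgroup G}
    (h : ⁅W, Y⁆ ≤ W) : Y ≤ Subgroup.normalizer (W : Set G) := by
  apply le_normalizer_of_conj_mem
  intro y hy w hw
  have h1 : ⁅w, y⁆ ∈ W := h (Subgroup.commutator_mem_commutator hw hy)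
  have h2 : y * w * y⁻¹ = (⁅w, y⁆)⁻¹ * w := by rw [commutatorElement_def]; group
  rw [h2]; exact W.mul_mem (W.inv_mem h1) hw

theorem yMinA {L : Type*} [Group L] [Finite L] {p : ℕ} [Fact p.Prime]
    (hchar : Subgroup.centralizer (Cfsg.pCore p L : Set L) ≤ Cfsg.pCore p L) (L₀ : Subgroup L)
    (hL₀ : IsCoatom L₀) (Y : Subgroup L) (hYL₀ : Y ≤ L₀) (hYel : Cfsg.IsElementaryAbelian p Y)
    (hmin : Cfsg.IsMinimalOver Y) (hOY : Cfsg.pCore p L ≤ Subgroup.normalizer (Y : Set L))
    (A : Subgroup L)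
    (hA : A = Subgroup.normalClosure (((Cfsg.pCore p L ⊓ Y : Subgroup L)) : Set L))
    (g : L) (hg : g ∉ L₀) :
    (frattini ↥A).map A.subtype = ⁅A, A⁆ ∧ ⁅A, A⁆ = ⁅A ⊓ Y, A⁆ ∧
      ⁅A ⊓ Y, A⁆ = ⁅A ⊓ Y, A ⊓ Y.map (MulAut.conj g).toMonoidHom⁆ ∧
      ⁅A ⊓ Y, A⁆ ≤ Y ⊓ Subgroup.center L ∧
      Y ⊓ Y.map (MulAut.conj g).toMonoidHom = Y ⊓ Subgroup.center L ∧
      (A ⊓ Y) ⊓ (A ⊓ Y.map (MulAut.conj g).toMonoidHom) = Y ⊓ Subgroup.center L ∧
      A ⊓ Subgroup.center L = Y ⊓ Subgroup.center L := by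
  have hp : p.Prime := Fact.out
  obtain ⟨hncl, hex⟩ := hmin
  have huniq : ∀ M : Subgroup L, IsCoatom M → Y ≤ M → M = L₀ := by
    intro M hM hYM
    exact hex.unique ⟨hM, hYM⟩ ⟨hL₀, hYL₀⟩
  obtain ⟨Q, hQdef⟩ : ∃ Q : Subgroup L, Q = Cfsg.pCore p L := ⟨_, rfl⟩
  have hQn : Q.Normal := by rw [hQdef]; exact Subgroup.sSup_normal _ (fun _ h => h.1)
  have hQp : IsPGroup p ↥Q := by rw [hQdef]; exact pCore_isPGroup p L
  rw [← hQdef] at hchar hOY hA
  obtain ⟨Yg, hYg⟩ : ∃ Yg : Subgroup L, Yg = Y.map (MulAut.conj g).toMonoidHom := ⟨_, rfl⟩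
  rw [← hYg]
  -- Step 1: `Y ⊔ Yg = ⊤`
  have htop : Y ⊔ Yg = ⊤ := by
    by_contra hne
    have h1 : Y ⊔ Yg ≤ L₀ := le_of_unique_coatom huniq _ le_sup_left hne
    have h2 : Yg ≤ L₀ := le_sup_right.trans h1
    rw [hYg, map_conj_le_iff] at h2
    have h3 : L₀.map (MulAut.conj g⁻¹).toMonoidHom = L₀ :=
      huniq _ (isCoatom_map_conj hL₀ g⁻¹) h2
    have h4 : g⁻¹ ∈ Subgroup.normalizer (L₀ : Set L) :=
      Subgroup.mem_normalizer_iff_map_conj_eq.mpr h3
    have h5 : g ∈ Subgroup.normalizer (L₀ : Set L) := by simpa using Subgroup.inv_mem _ h4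
    rcases hL₀.le_iff.mp (Subgroup.le_normalizer (H := L₀)) with h6 | h6
    · have h7 : L₀.Normal := Subgroup.normalizer_eq_top_iff.mp h6
      exact hL₀.1 (eq_top_of_normal_of_le hncl L₀ h7 hYL₀)
    · rw [h6] at h5; exact hg h5
  have hYc : ∀ a ∈ Y, ∀ b ∈ Y, a * b = b * a := fun a ha b hb =>
    comm_of_isMulCommutative hYel.1 ha hb
  have hYgc : ∀ a ∈ Yg, ∀ b ∈ Yg, a * b = b * a := by
    rw [hYg]; rintro _ ⟨a, ha, rfl⟩ _ ⟨b, hb, rfl⟩
    simp only [MulEquiv.coe_toMonoidHom, MulAut.conj_apply]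
    have h1 := hYc a ha b hb
    calc g * a * g⁻¹ * (g * b * g⁻¹) = g * (a * b) * g⁻¹ := by group
      _ = g * (b * a) * g⁻¹ := by rw [h1]
      _ = g * b * g⁻¹ * (g * a * g⁻¹) := by group
  have hcen : ∀ z, z ∈ Subgroup.centralizer (Y : Set L) →
      z ∈ Subgroup.centralizer (Yg : Set L) → z ∈ Subgroup.center L := by
    intro z h1 h2
    have h3 : Y ⊔ Yg ≤ Subgroup.centralizer (Subgroup.zpowers z : Set L) :=
      sup_le (Subgroup.le_centralizer_iff.mp (by rw [Subgroup.zpowers_le]; exact h1))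
        (Subgroup.le_centralizer_iff.mp (by rw [Subgroup.zpowers_le]; exact h2))
    rw [htop] at h3
    rw [Subgroup.mem_center_iff]
    intro x
    exact (Subgroup.mem_centralizer_iff.mp (h3 (Subgroup.mem_top x)) z
      (Subgroup.mem_zpowers z)).symm
  -- Step 2
  have hQYg : Q ≤ Subgroup.normalizer (Yg : Set L) := by
    rw [hYg, normalizer_map_conj]
    intro q hq
    refine ⟨g⁻¹ * q * g, hOY (by simpa using hQn.conj_mem q hq g⁻¹), ?_⟩
    simp [mul_assoc]
  obtain ⟨D, hD⟩ : ∃ D : Subgroup L, D = Q ⊓ Y := ⟨_, rfl⟩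
  obtain ⟨E, hE⟩ : ∃ E : Subgroup L, E = Q ⊓ Yg := ⟨_, rfl⟩
  rw [← hD] at hA
  have hDQ : D ≤ Q := by rw [hD]; exact inf_le_left
  have hDY : D ≤ Y := by rw [hD]; exact inf_le_right
  have hEQ : E ≤ Q := by rw [hE]; exact inf_le_left
  have hEYg : E ≤ Yg := by rw [hE]; exact inf_le_right
  have hQD : Q ≤ Subgroup.normalizer (D : Set L) := by
    rw [hD]
    exact (le_inf Subgroup.le_normalizer hOY).trans Subgroup.inf_normalizer_le_normalizer_inf
  have hQE : Q ≤ Subgroup.normalizer (E : Set L) := by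
    rw [hE]
    exact (le_inf Subgroup.le_normalizer hQYg).trans Subgroup.inf_normalizer_le_normalizer_inf
  have hQY : ⁅Q, Y⁆ ≤ D := by
    rw [hD]
    exact le_inf (Subgroup.commutator_le_left Q Y)
      (by rw [Subgroup.commutator_comm]
          exact Cfsg.Agent.Lib.Helper1.commutator_le_of_le_normalizer hOY)
  have hQYg' : ⁅Q, Yg⁆ ≤ E := by
    rw [hE]
    exact le_inf (Subgroup.commutator_le_left Q Yg)
      (by rw [Subgroup.commutator_comm]
          exact Cfsg.Agent.Lib.Helper1.commutator_le_of_le_normalizer hQYg)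
  -- Step 3
  have hWQ : D ⊔ E ≤ Q := sup_le hDQ hEQ
  have hWn : (D ⊔ E).Normal := by
    rw [← Subgroup.normalizer_eq_top_iff, ← top_le_iff, ← htop]
    apply sup_le
    · apply le_normalizer_of_commutator_le
      exact (Subgroup.commutator_mono hWQ le_rfl).trans (hQY.trans le_sup_left)
    · apply le_normalizer_of_commutator_le
      exact (Subgroup.commutator_mono hWQ le_rfl).trans (hQYg'.trans le_sup_right)
  have hAn : A.Normal := by rw [hA]; exact Subgroup.normalClosure_normal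
  have hDA : D ≤ A := by rw [hA]; exact Subgroup.le_normalClosure
  have hEA : E ≤ A := by
    intro e he
    rw [hE] at he
    obtain ⟨heQ, heY⟩ := Subgroup.mem_inf.mp he
    rw [hYg] at heY
    obtain ⟨y, hy, rfl⟩ := heY
    simp only [MulEquiv.coe_toMonoidHom, MulAut.conj_apply] at heQ ⊢
    have hyQ : y ∈ Q := by
      have h1 := hQn.conj_mem _ heQ g⁻¹
      simpa [mul_assoc] using h1
    exact hAn.conj_mem y (hDA (by rw [hD]; exact ⟨hyQ, hy⟩)) g
  have hAeq : A = D ⊔ E := by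
    apply le_antisymm
    · rw [hA]
      exact Subgroup.normalClosure_le_normal (N := D ⊔ E)
        (SetLike.coe_subset_coe.mpr le_sup_left)
    · exact sup_le hDA hEA
  have hAQ : A ≤ Q := by rw [hAeq]; exact hWQ
  -- Step 4
  have hAY : A ⊓ Y = D := by
    apply le_antisymm
    · rw [hD]; exact inf_le_inf_right Y hAQ
    · exact le_inf hDA hDY
  have hAYg : A ⊓ Yg = E := by
    apply le_antisymm
    · rw [hE]; exact inf_le_inf_right Yg hAQ
    · exact le_inf hEA hEYg
  rw [hAY, hAYg]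
  -- Step 5
  have h5 : Y ⊓ Yg = Y ⊓ Subgroup.center L := by
    apply le_antisymm
    · intro z hz
      obtain ⟨hzY, hzYg⟩ := Subgroup.mem_inf.mp hz
      refine Subgroup.mem_inf.mpr ⟨hzY, hcen z ?_ ?_⟩
      · rw [Subgroup.mem_centralizer_iff]; intro y hy; exact hYc y hy z hzY
      · rw [Subgroup.mem_centralizer_iff]; intro y hy; exact hYgc y hy z hzYg
    · intro z hz
      obtain ⟨hzY, hzc⟩ := Subgroup.mem_inf.mp hz
      refine Subgroup.mem_inf.mpr ⟨hzY, ?_⟩
      rw [hYg]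
      refine ⟨z, hzY, ?_⟩
      simp only [MulEquiv.coe_toMonoidHom, MulAut.conj_apply]
      rw [Subgroup.mem_center_iff.mp hzc g]; group
  -- Step 6
  have hZQ : Y ⊓ Subgroup.center L ≤ Q := by
    intro z hz
    apply hchar
    rw [Subgroup.mem_centralizer_iff]
    intro q _
    exact Subgroup.mem_center_iff.mp (Subgroup.mem_inf.mp hz).2 q
  have h6 : D ⊓ E = Y ⊓ Subgroup.center L := by
    rw [hD, hE]
    apply le_antisymm
    · rw [← h5]; exact inf_le_inf inf_le_right inf_le_right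
    · rw [← h5] at hZQ ⊢
      exact le_inf (le_inf hZQ inf_le_left) (le_inf hZQ inf_le_right)
  have hZD : Y ⊓ Subgroup.center L ≤ D := by rw [← h6]; exact inf_le_left
  -- Step 7
  have hDE : D ≤ Subgroup.normalizer (E : Set L) := hDQ.trans hQE
  have hED : E ≤ Subgroup.normalizer (D : Set L) := hEQ.trans hQD
  have h7 : A ⊓ Subgroup.center L = Y ⊓ Subgroup.center L := by
    apply le_antisymm
    · intro z hz
      obtain ⟨hzA, hzc⟩ := Subgroup.mem_inf.mp hz
      refine Subgroup.mem_inf.mpr ⟨?_, hzc⟩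
      rw [hAeq] at hzA
      have hz' : z ∈ ((D : Set L) * (E : Set L)) := by
        rw [← Subgroup.coe_mul_of_left_le_normalizer_right D E hDE]; exact hzA
      obtain ⟨d, hd, e, he, rfl⟩ := Set.mem_mul.mp hz'
      have hec : e ∈ Subgroup.center L := by
        apply hcen
        · rw [Subgroup.mem_centralizer_iff]
          intro y hy
          have h1 := Subgroup.mem_center_iff.mp hzc y
          have h2 := hYc y hy d (hDY hd)
          calc y * e = d⁻¹ * (d * y) * e := by group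
            _ = d⁻¹ * (y * d) * e := by rw [h2]
            _ = d⁻¹ * (y * (d * e)) := by group
            _ = d⁻¹ * (d * e * y) := by rw [h1]
            _ = e * y := by group
        · rw [Subgroup.mem_centralizer_iff]
          intro y hy; exact hYgc y hy e (hEYg he)
      have heY : e ∈ Y := by
        have h1 := hEYg he
        rw [hYg] at h1
        obtain ⟨y, hy, hye⟩ := h1
        simp only [MulEquiv.coe_toMonoidHom, MulAut.conj_apply] at hye
        have h2 : y = e := by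
          have h3 := Subgroup.mem_center_iff.mp hec g
          calc y = g⁻¹ * (g * y * g⁻¹) * g := by group
            _ = g⁻¹ * e * g := by rw [hye]
            _ = g⁻¹ * (e * g) := by group
            _ = g⁻¹ * (g * e) := by rw [h3]
            _ = e := by group
        rw [← h2]; exact hy
      exact Y.mul_mem (hDY hd) heY
    · exact le_inf (hZD.trans hDA) inf_le_right
  -- commutators
  have hDD : ⁅D, D⁆ = ⊥ := by
    rw [Subgroup.commutator_eq_bot_iff_le_centralizer]
    intro d hd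
    rw [Subgroup.mem_centralizer_iff]
    intro d' hd'
    exact hYc d' (hDY hd') d (hDY hd)
  have hEE : ⁅E, E⁆ = ⊥ := by
    rw [Subgroup.commutator_eq_bot_iff_le_centralizer]
    intro d hd
    rw [Subgroup.mem_centralizer_iff]
    intro d' hd'
    exact hYgc d' (hEYg hd') d (hEYg hd)
  have h3 : ⁅D, A⁆ = ⁅D, E⁆ := by
    rw [hAeq, commutator_sup_right D D E Subgroup.le_normalizer hED, hDD, bot_sup_eq]
  have hEA' : ⁅E, A⁆ = ⁅D, E⁆ := by
    rw [hAeq, commutator_sup_right E D E hDE Subgroup.le_normalizer, hEE, sup_bot_eq,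
      Subgroup.commutator_comm]
  have h2 : ⁅A, A⁆ = ⁅D, A⁆ := by
    have hDnA : D ≤ Subgroup.normalizer (A : Set L) := hDA.trans Subgroup.le_normalizer
    have hEnA : E ≤ Subgroup.normalizer (A : Set L) := hEA.trans Subgroup.le_normalizer
    have e1 : ⁅A, A⁆ = ⁅A, D ⊔ E⁆ := by rw [← hAeq]
    rw [e1, commutator_sup_right A D E hDnA hEnA, Subgroup.commutator_comm A D,
      Subgroup.commutator_comm A E, hEA', h3, sup_idem]
  have h4 : ⁅D, A⁆ ≤ Y ⊓ Subgroup.center L := by
    rw [h3, ← h6]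
    exact le_inf (Cfsg.Agent.Lib.Helper1.commutator_le_of_le_normalizer hED)
      (by rw [Subgroup.commutator_comm]
          exact Cfsg.Agent.Lib.Helper1.commutator_le_of_le_normalizer hDE)
  have h1 : (frattini ↥A).map A.subtype = ⁅A, A⁆ := by
    have hAp : IsPGroup p ↥A := hQp.to_le hAQ
    have hle1 : commutator ↥A ≤ frattini ↥A :=
      Cfsg.Agent.Lib.Helper1.commutator_le_frattini_of_pGroup p hAp
    have hpow : ∀ a : ↥A, (Abelianization.of a) ^ p = 1 := by
      intro a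
      have ha : (a : L) ∈ ((D : Set L) * (E : Set L)) := by
        rw [← Subgroup.coe_mul_of_left_le_normalizer_right D E hDE, ← hAeq]; exact a.2
      obtain ⟨d, hd, e, he, hde⟩ := Set.mem_mul.mp ha
      have hdp : d ^ p = 1 := hYel.2 d (hDY hd)
      have hep : e ^ p = 1 := by
        have h1 := hEYg he
        rw [hYg] at h1
        obtain ⟨y, hy, rfl⟩ := h1
        simp only [MulEquiv.coe_toMonoidHom, MulAut.conj_apply]
        rw [conj_pow, hYel.2 y hy]; group
      have haeq : a = ⟨d, hDA hd⟩ * ⟨e, hEA he⟩ := Subtype.ext hde.symm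
      rw [haeq, map_mul, mul_pow, ← map_pow, ← map_pow]
      have e1 : (⟨d, hDA hd⟩ : ↥A) ^ p = 1 := Subtype.ext (by simpa using hdp)
      have e2 : (⟨e, hEA he⟩ : ↥A) ^ p = 1 := Subtype.ext (by simpa using hep)
      rw [e1, e2, map_one, mul_one]
    have hle2 : frattini ↥A ≤ commutator ↥A := by
      have h8 := Cfsg.Agent.Lib.Helper87.frattini_le_ker_of_exponent (p := p)
        (Abelianization.of (G := ↥A)) hpow
      rwa [Abelianization.ker_of] at h8
    rw [le_antisymm hle2 hle1, commutator_def, Subgroup.map_commutator,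
      ← MonoidHom.range_eq_map, Subgroup.range_subtype]
  exact ⟨h1, h2, h3, h4, h5, h6, h7⟩

end Cfsg.Agent.Lib.Helper47
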