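import Mathlib
import Cfsg.Agent.Lib.Helper47.ZL2
import Cfsg.Agent.Lib.Helper47.Subn

set_option autoImplicit false

namespace Cfsg.Agent.Lib.Helper47

theorem pCoreOf_top {H : Type*} [Group H] (p : ℕ) [Fact p.Prime] :
    Cfsg.pCoreOf p (⊤ : Subgroup H) = Cfsg.pCore p H := by
  apply le_antisymm
  · exact pCoreOf_le_pCore_of_isSubnormal Subgroup.IsSubnormal.top
  · have hn : (Cfsg.pCore p H).Normal := Subgroup.sSup_normal _ (fun _ h => h.1)
    apply le_pCoreOf_of_le_normalizer (pCore_isPGroup p H) le_top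
    rw [Subgroup.normalizer_eq_top_iff.mpr hn]

/-- Characteristic `p` for `H` gives characteristic `p` for `⊤ ≤ H`. -/
theorem char_top {H : Type*} [Group H] {p : ℕ} [Fact p.Prime]
    (hH : Subgroup.centralizer (Cfsg.pCore p H : Set H) ≤ Cfsg.pCore p H) :
    Subgroup.centralizer (Cfsg.pCore p ↥(⊤ : Subgroup H) : Set ↥(⊤ : Subgroup H)) ≤
      Cfsg.pCore p ↥(⊤ : Subgroup H) := by
  intro x hx
  have h1 : (x : H) ∈ Subgroup.centralizer (Cfsg.pCore p H : Set H) := by
    rw [Subgroup.mem_centralizer_iff]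
    intro o ho
    rw [← pCoreOf_top] at ho
    obtain ⟨o', ho', rfl⟩ := ho
    exact congrArg Subtype.val ((Subgroup.mem_centralizer_iff.mp hx) o' ho')
  have h2 := hH h1
  rw [← pCoreOf_top] at h2
  obtain ⟨x', hx', hxx⟩ := h2
  have e : x' = x := Subtype.ext hxx
  exact e ▸ hx'

theorem pResidual_map_top {H : Type*} [Group H] (p : ℕ) :
    (Cfsg.pResidual p ↥(⊤ : Subgroup H)).map (⊤ : Subgroup H).subtype = Cfsg.pResidual p H := by
  rw [pResidual_map_subtype_eq]
  unfold Cfsg.pResidual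
  congr 1
  ext x
  simp

/-- `Ω₁(Z(T)) ≤ Ω₁(Z(H)) [V, O^p(H)]` for `V` normal containing `Ω₁(Z(T))`, `H` of characteristic `p`. -/
theorem omegaOne_center_sylow_le {H : Type*} [Group H] [Finite H] {p : ℕ} [Fact p.Prime]
    (hH : Subgroup.centralizer (Cfsg.pCore p H : Set H) ≤ Cfsg.pCore p H) (T : Sylow p H)
    (V : Subgroup H) [hVn : V.Normal]
    (hZV : Cfsg.omegaOne p ((T : Subgroup H) ⊓ Subgroup.centralizer ((T : Subgroup H) : Set H)) ≤ V) :
    Cfsg.omegaOne p ((T : Subgroup H) ⊓ Subgroup.centralizer ((T : Subgroup H) : Set H)) ≤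
      Cfsg.omegaOne p ((⊤ : Subgroup H) ⊓ Subgroup.centralizer (((⊤ : Subgroup H) : Subgroup H) : Set H)) ⊔
        ⁅V, Cfsg.pResidual p H⁆ := by
  have hstr := (sylowCenterClosure_structure T ⊤ le_top (char_top hH)).1
  rw [pResidual_map_top] at hstr
  have eT : ((T.subtype (le_top : (T : Subgroup H) ≤ ⊤) : Sylow p (⊤ : Subgroup H)) :
      Subgroup (⊤ : Subgroup H)).map (⊤ : Subgroup H).subtype = (T : Subgroup H) := by
    rw [Sylow.coe_subtype, Subgroup.subgroupOf_map_subtype, inf_of_le_left le_top]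
  have hZ₀ : Cfsg.omegaOne p ((T : Subgroup H) ⊓ Subgroup.centralizer ((T : Subgroup H) : Set H)) ≤
      Cfsg.sylowCenterClosure p (⊤ : Subgroup H) := by
    have h := omegaOne_sylow_le_sylowCenterClosure p (⊤ : Subgroup H) (T.subtype le_top)
    rw [eT] at h
    exact h
  have hZV' : Cfsg.sylowCenterClosure p (⊤ : Subgroup H) ≤ V := by
    conv_lhs => unfold Cfsg.sylowCenterClosure
    refine iSup_le (fun S => ?_)
    obtain ⟨l, hl⟩ := MulAction.exists_smul_eq ↥(⊤ : Subgroup H) (T.subtype le_top) S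
    have e1 : (S : Subgroup (⊤ : Subgroup H)).map (⊤ : Subgroup H).subtype =
        (T : Subgroup H).map (MulAut.conj (l : H)).toMonoidHom := by
      rw [← hl, sylow_smul_map_subtype, eT]
    rw [e1, centralizer_map_conj, ← Subgroup.map_inf _ _ _ (MulAut.conj (l : H)).injective,
      ← omegaOne_map_conj]
    rintro _ ⟨z, hz, rfl⟩
    exact hVn.conj_mem z (hZV hz) (l : H)
  refine hZ₀.trans ?_
  conv_lhs => rw [hstr]
  exact sup_le_sup_left (Subgroup.commutator_mono hZV' le_rfl) _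

end Cfsg.Agent.Lib.Helper47
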